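import Cfsg.Agent.Lib.Cit.D0
import Cfsg.Agent.Lib.Spor.StModel
import Cfsg.Agent.Lib.Grp.H13Count
import Cfsg.Agent.Lib.Lin.SLnCard

/-! Groups of order `20160` acting on the projective plane of order four. -/

set_option autoImplicit false

namespace CA.Cit

open Subgroup Cfsg MulAction Module
open scoped Pointwise LinearAlgebra.Projectivization

theorem emb21 {G Ω : Type*} [Group G] [Fintype Ω] [DecidableEq Ω] [MulAction G Ω] [FaithfulSMul G Ω]
    (hΩ : Fintype.card Ω = 21) {L : Set (Finset Ω)} (hL : IsSteinerSystem 2 5 L)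
    (hG : ∀ g : G, ∀ b ∈ L, b.image (g • ·) ∈ L) :
    ∃ φ : G →* stabilizer M24 (CA.Golay.ds CA.M24St2.T3), Function.Injective φ := by
  obtain ⟨e, h⟩ := CA.StModel.mod21 hΩ hL
  obtain ⟨φ, -⟩ := CA.StModel.aut21 h
  have h1 : ∀ g : G, toPermHom G Ω g ∈ setSystemAut L := fun g => mem_stabilizer_iff.2 (Set.ext fun b => by
    refine ⟨?_, fun hb => ⟨_, hG g⁻¹ b hb, ?_⟩⟩
    · rintro ⟨c, hc, rfl⟩
      exact hG g c hc
    · change (b.image _).image _ = b
      rw [Finset.image_image]
      simp [Function.comp_def])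
  exact ⟨φ.symm.toMonoidHom.comp ((toPermHom G Ω).codRestrict _ h1),
    φ.symm.injective.comp fun a b e => toPerm_injective (congrArg Subtype.val e)⟩

theorem iso_of_emb {G P X : Type*} [Group G] [Group P] [Group X] [Finite X] [IsSimpleGroup P] (φ : G →* X) (ψ : P →* X)
    (h1 : Function.Injective φ) (h2 : Function.Injective ψ) (hG : Nat.card G = 20160) (hP : Nat.card P = 20160)
    (hX : Nat.card X = 120960) : Nonempty (G ≃* P) := by
  haveI := Finite.of_injective ψ h2
  have c1 : Nat.card φ.range = 20160 := hG ▸ (Nat.card_congr (MonoidHom.ofInjective h1).toEquiv).symm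
  have c2 : Nat.card ψ.range = 20160 := hP ▸ (Nat.card_congr (MonoidHom.ofInjective h2).toEquiv).symm
  have h3 : φ.range.comap ψ = ⊤ := by
    by_contra e
    have e1 := H13Count.card_dvd_factorial e
    have e2 : (φ.range.comap ψ).index ≤ 6 := by
      have := φ.range.card_mul_index
      rw [index_comap]
      refine (relIndex_le_of_le_right le_top (by rw [relIndex_top_right]; exact index_ne_zero_of_finite)).trans ?_
      rw [c1, hX] at this
      rw [relIndex_top_right]; omega
    have := Nat.le_of_dvd (Nat.factorial_pos _) (e1.trans (Nat.factorial_dvd_factorial e2))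
    rw [hP] at this
    exact absurd this (by decide)
  have h4 : ψ.range = φ.range := eq_of_le_of_card_ge (by rintro _ ⟨y, rfl⟩; exact h3.ge (mem_top y)) (by omega)
  exact ⟨((MonoidHom.ofInjective h1).trans (MulEquiv.subgroupCongr h4.symm)).trans (MonoidHom.ofInjective h2).symm⟩

theorem card_L34 {F : Type*} [Field F] [Finite F] (hF : Nat.card F = 4) :
    Nat.card (Matrix.ProjectiveSpecialLinearGroup (Fin 3) F) = 20160 := by
  have h1 := CA.SLnCard.card_PSL (F := F) 3 (by norm_num)
  have h2 := CA.SLnCard.card_SL (F := F) 3 (by norm_num)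
  rw [← h1, hF, Fin.prod_univ_three] at h2
  generalize Nat.card (Matrix.ProjectiveSpecialLinearGroup (Fin 3) F) = N at h2 ⊢
  norm_num at h2
  omega

theorem emb_L34 {F : Type*} [Field F] [Finite F] (hF : Nat.card F = 4) :
    ∃ φ : Matrix.ProjectiveSpecialLinearGroup (Fin 3) F →* stabilizer M24 (CA.Golay.ds CA.M24St2.T3),
      Function.Injective φ := by
  classical
  haveI := Fintype.ofFinite (ℙ F (Fin 3 → F))
  refine emb21 (Ω := ℙ F (Fin 3 → F)) (L := {b | ∃ W : Submodule F (Fin 3 → F), finrank F W = 2 ∧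
    ∀ p, p ∈ b ↔ p.submodule ≤ W}) ?_ ⟨?_, fun s hs => ?_⟩ ?_
  · rw [← Nat.card_eq_fintype_card, Projectivization.card_of_finrank F _ (n := 3) (by simp), hF]; rfl
  · rintro b ⟨W, hW, hb⟩
    have e : Set.range (Projectivization.map W.subtype W.injective_subtype) = b := by
      ext p
      rw [Finset.mem_coe, hb]
      induction p using Projectivization.ind with | _ v hv => ?_
      rw [Projectivization.submodule_mk, Submodule.span_singleton_le_iff_mem]
      refine ⟨fun ⟨q, e⟩ => ?_, fun e => ⟨Projectivization.mk F ⟨v, e⟩ fun e' => hv (congrArg Subtype.val e'), rfl⟩⟩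
      induction q using Projectivization.ind with | _ w hw => ?_
      obtain ⟨a, rfl⟩ := (Projectivization.mk_eq_mk_iff' F _ _ _ _).1 e.symm
      exact W.smul_mem a w.2
    rw [← Set.ncard_coe_finset, ← e, Set.ncard_range_of_injective (Projectivization.map_injective _ _),
      Projectivization.card_of_finrank_two F W hW, hF]
  · obtain ⟨p, q, hne, rfl⟩ := Finset.card_eq_two.1 hs
    have h1 : finrank F (p.submodule ⊔ q.submodule : Submodule F _) = 2 := by
      have := finrank_span_eq_card (Projectivization.linearIndependent_pair_iff_ne.2 hne)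
      rwa [Matrix.range_cons_cons_empty, Submodule.span_insert, ← p.submodule_eq, ← q.submodule_eq] at this
    refine ⟨Finset.univ.filter fun r => r.submodule ≤ p.submodule ⊔ q.submodule, ⟨⟨_, h1, by simp⟩, ?_⟩, ?_⟩
    · simp [Finset.insert_subset_iff]
    · rintro b ⟨⟨W, hW, hb⟩, h2⟩
      rw [Submodule.eq_of_le_of_finrank_eq (sup_le ((hb p).1 (h2 (by simp))) ((hb q).1 (h2 (by simp)))) (h1.trans hW.symm)]
      ext r; simp [hb]
  · rintro g b ⟨W, hW, hb⟩
    obtain ⟨g, rfl⟩ := QuotientGroup.mk_surjective g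
    refine ⟨W.map g.toLin'.toLinearMap, (LinearEquiv.finrank_map_eq _ _).trans hW, fun p => ?_⟩
    rw [Finset.mem_image]
    simp only [Matrix.ProjectiveSpecialLinearGroup.smul_proj_mk, hb]
    obtain ⟨p, rfl⟩ := MulAction.surjective g p
    simp only [smul_left_cancel_iff, exists_eq_right]
    induction p using Projectivization.ind with | _ v hv => ?_
    rw [Projectivization.smul_mk, Projectivization.submodule_mk, Projectivization.submodule_mk,
      Submodule.span_singleton_le_iff_mem, Submodule.span_singleton_le_iff_mem]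
    exact ⟨fun e => ⟨v, e, rfl⟩, fun ⟨w, hw, e⟩ => g.toLin'.injective e ▸ hw⟩

theorem iso_L34 {G F : Type*} [Group G] [Field F] [Finite F] (hF : Nat.card F = 4)
    (φ : G →* stabilizer M24 (CA.Golay.ds CA.M24St2.T3)) (h : Function.Injective φ) (hc : Nat.card G = 20160) :
    Nonempty (G ≃* Matrix.ProjectiveSpecialLinearGroup (Fin 3) F) := by
  obtain ⟨ψ, h'⟩ := emb_L34 hF
  haveI := CA.SLnGen.isSimpleGroup_PSL (ι := Fin 3) (F := F) (Or.inl (by simp))
  haveI : Finite (stabilizer M24 (CA.Golay.ds CA.M24St2.T3)) := Nat.finite_of_card_ne_zero (by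
    rw [CA.M24St2.stT3.card]; norm_num)
  exact iso_of_emb φ ψ h h' hc (card_L34 hF) CA.M24St2.stT3.card

theorem ident21 {G Ω : Type*} [Group G] [Fintype Ω] [DecidableEq Ω] [MulAction G Ω] [FaithfulSMul G Ω]
    (hΩ : Fintype.card Ω = 21) {L : Set (Finset Ω)} (hL : IsSteinerSystem 2 5 L)
    (hG : ∀ g : G, ∀ b ∈ L, b.image (g • ·) ∈ L) (hc : Nat.card G = 20160) : L34 G := by
  obtain ⟨φ, h⟩ := emb21 hΩ hL hG
  haveI := Fintype.ofFinite (GaloisField 2 2)
  have e : Nat.card (GaloisField 2 2) = 4 := GaloisField.card 2 2 two_ne_zero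
  exact ⟨GaloisField 2 2, inferInstance, inferInstance, Nat.card_eq_fintype_card.symm.trans e, iso_L34 e φ h hc⟩

end CA.Cit
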