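import Cfsg.Agent.Lib.Cit.D3
import Cfsg.Agent.Lib.Grp.SigK1

/-! The amalgam of type `L₃(4)`: the Sylow subgroup. -/

set_option autoImplicit false
set_option linter.unusedSectionVars false

namespace CA.Cit

open Subgroup Cfsg CA.BG CA.GW CA.Wa CA.Ca

universe u

variable {G : Type u} [Group G] [Finite G] {E V W X l l' p p' : Subgroup G} {a b g i k m n s t u u' v w x y z : G}

theorem inv3 (hX : IsPi {2} X) (hw : w ∈ X) (hk : k ∈ 𝓝(X)) (k3 : k ^ 3 = 1) (k1 : k ≠ 1) (e : w * k * w⁻¹ = k⁻¹) :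
    False := by
  have e4 := mul_mem hw (conj_mem_of_mem_norm hk (inv_mem hw))
  rw [show w * (k * w⁻¹ * k⁻¹) = w * k * w⁻¹ * k⁻¹ by group, e, ← mul_inv_rev,
    ← eq_inv_of_mul_eq_one_left ((mul_assoc _ _ _).symm.trans ((pow_three' k).symm.trans k3))] at e4
  exact k1 (one_of_cube hX e4 k3)

theorem od3 (k3 : k ^ 3 = 1) : Od (zpowers k) :=
  isPi_zpowers.2 (((piNat_prime Nat.prime_three).2 (by simp)).of_dvd (orderOf_dvd_of_pow_eq_one k3))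

theorem CIT.conj3 (h : CIT G) (k3 : k ^ 3 = 1) (k1 : k ≠ 1) (s2 : s * s = 1) (w2 : w * w = 1) (e : s * k * s⁻¹ = k⁻¹)
    (e' : w * k * w⁻¹ = k⁻¹) : ∃ n ∈ 𝓒₁(k), n * s * n⁻¹ = w := by
  have h1 : s * w ∈ 𝓒₁(k) := cent_zpowers k ▸ (ivt_zp e).mul_cent (ivt_zp e')
  obtain ⟨j, hj⟩ := H13Inv.exists_conj_of_odd s2 w2
    ((h.odc (od3 k3) (mem_zpowers k) k1).odd.of_dvd_nat (orderOf_dvd_card_of_mem h1))
  exact ⟨_, zpow_mem h1 j, hj⟩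

/-- both halves, `q = 4` -/
structure Hf (V W : Subgroup G) : Prop where
  cit : CIT G
  l : Half V W 4
  r : Half W V 4

namespace Hf
variable (h : Hf V W)
include h

theorem symm : Hf W V := ⟨h.cit, h.r, h.l⟩

theorem ne : V ≠ W := fun e => by
  have h1 := h.l.cardU
  rw [← e, inf_idem, h.l.cardV] at h1
  omega

theorem dec (ha : a ∈ V ⊔ W) : ∃ v ∈ V, ∃ w ∈ W, v * w = a := (mem_sup_norm' h.l.norm).1 ha

theorem exU : ∃ u ∈ V ⊓ W, u ≠ 1 := exists_ne_one ((one_lt_card_iff_ne_bot _).1 (by rw [h.l.cardU]; omega))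

theorem inv_mem (ha : a ∈ V ⊔ W) (a2 : a * a = 1) : a ∈ V ∨ a ∈ W := by
  obtain ⟨v, hv, w, hw, rfl⟩ := h.dec ha
  by_cases e : w ∈ V
  · exact .inl (mul_mem hv e)
  refine .inr (mul_mem ((h.l.fix w (mem_sup_right hw) e).le ⟨hv, mem_cent1.2 ?_⟩).2 hw)
  rw [eq_inv_of_mul_eq_one_left a2, mul_inv_rev, h.l.el.inv hv, h.r.el.inv hw]

theorem el16 (hE : El2 E) (hT : E ≤ V ⊔ W) (hc : ♯E = 16) : E = V ∨ E = W := by
  by_cases e : E ≤ V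
  · exact .inl (eq_of_le_of_card_eq e (hc.trans h.l.cardV.symm))
  obtain ⟨a, ha, a1⟩ := SetLike.not_le_iff_exists.1 e
  have aW := (h.inv_mem (hT ha) (hE a ha)).resolve_left a1
  refine .inr (eq_of_le_of_card_eq (fun t ht => ?_) (hc.trans h.r.cardV.symm))
  obtain ⟨v, hv, w, hw, rfl⟩ := h.dec (hT ht)
  refine mul_mem ((h.l.fix a (hT ha) a1).le ⟨hv, ?_⟩).2 hw
  simpa using mul_mem (mem_cent1.2 (hE.mc ht ha)) (Subgroup.inv_mem _ (mem_cent1.2 (h.r.el.mc hw aW)))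

theorem nT (hg : g ∈ 𝓝(V ⊔ W)) : (cj g V = V ∧ cj g W = W) ∨ (cj g V = W ∧ cj g W = V) := by
  have e := cj_of_mem_norm hg
  rcases h.el16 (h.l.el.conj g) ((cj_mono g le_sup_left).trans e.le) ((card_cj g V).trans h.l.cardV) with e1 | e1 <;>
    rcases h.el16 (h.r.el.conj g) ((cj_mono g le_sup_right).trans e.le) ((card_cj g W).trans h.r.cardV) with e2 | e2
  exacts [absurd (cj_inj.1 (e1.trans e2.symm)) h.ne, .inl ⟨e1, e2⟩, .inr ⟨e1, e2⟩,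
    absurd (cj_inj.1 (e1.trans e2.symm)) h.ne]

theorem fuse (hv : v ∈ V) (v1 : v ≠ 1) (hu : u ∈ V ⊓ W) (u1 : u ≠ 1) : ∃ g ∈ 𝓝(V), g * u * g⁻¹ = v := by
  obtain ⟨g, hg, e⟩ := h.l.part v hv
  obtain ⟨y, hy, rfl⟩ := mem_cj'.1 e
  obtain ⟨k, hk, rfl⟩ := h.l.trU u hu y ⟨by simpa [mul_assoc] using conj_mem_of_mem_norm' hg hv, hy⟩ u1
    fun e => v1 (by simp [e])
  exact ⟨g * k, mul_mem hg hk.1, by group⟩

theorem TB : V ⊔ W ≤ 𝓝(V) ⊓ 𝓝(W) := le_inf h.l.syl.le (sup_comm W V ▸ h.r.syl.le)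

theorem cardT : ♯(V ⊔ W : Subgroup G) = 64 := by
  have := card_sup_mul_inf h.r.norm
  rw [h.l.cardU, h.l.cardV, h.r.cardV] at this
  omega

theorem cardB : ♯(𝓝(V) ⊓ 𝓝(W) : Subgroup G) = 192 := by
  obtain ⟨u, hu, u1⟩ := h.exU
  have e : {y | ∃ g ∈ 𝓝(V) ⊓ 𝓝(W), g * u * g⁻¹ = y} = {y | y ∈ V ⊓ W ∧ y ∉ (⊥ : Subgroup G)} := by
    ext y
    refine ⟨?_, fun ⟨hy, y1⟩ => h.l.trU u hu y hy u1 y1⟩
    rintro ⟨g, hg, rfl⟩
    exact ⟨conj_mem_of_mem_norm (mem_norm_inf hg.1 hg.2) hu, conj_ne_one u1 g⟩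
  have e1 := card_sd (bot_le : ⊥ ≤ V ⊓ W)
  have e2 := ncard_cl (𝓝(V) ⊓ 𝓝(W)) u
  have e3 := card_inf_mul_relIndex 𝓒₁(u) (𝓝(V) ⊓ 𝓝(W))
  rw [inf_comm, inf_right_comm, h.l.cU u hu u1, inf_eq_left.2 (h.TB.trans inf_le_right), h.cardT, ← e2, e] at e3
  rw [card_bot, h.l.cardU] at e1
  rw [← e3, show {y | y ∈ V ⊓ W ∧ y ∉ (⊥ : Subgroup G)}.ncard = 3 from Nat.add_right_cancel (m := 1) e1]

theorem exk : ∃ k ∈ 𝓝(V) ⊓ 𝓝(W), k ^ 3 = 1 ∧ k ≠ 1 := by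
  obtain ⟨k, hk, e⟩ := exists_orderOf_eq Nat.prime_three (show 3 ∣ ♯(𝓝(V) ⊓ 𝓝(W) : Subgroup G) by rw [h.cardB]; decide)
  exact ⟨k, hk, e ▸ pow_orderOf_eq_one k, fun e' => by simp [e'] at e⟩

theorem exw (hk : k ∈ 𝓝(V)) (k3 : k ^ 3 = 1) (k1 : k ≠ 1) : ∃ m ∈ 𝓝(V), ∃ w ∈ cj m W, w * k * w⁻¹ = k⁻¹ := by
  have h1 : ∀ x ∈ 𝓝(V), x ^ 3 = 1 → x ≠ 1 → Syl 3 (zpowers x) 𝓝(V) := fun x hx x3 x1 => by
    haveI := Fact.mk Nat.prime_three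
    have e : ♯(zpowers x) = 3 := (Nat.card_zpowers x).trans (orderOf_eq_prime x3 x1)
    have e1 := card_mul_relIndex (zp_le.2 hx)
    rw [e, h.l.cardM] at e1
    exact Hall.mk' (zp_le.2 hx) (isPi_of_card_eq Nat.prime_three e) ((piNat_compl_iff Nat.prime_three).2 (by omega))
  obtain ⟨a, ha, x, hx, x3, x1, e⟩ := h.l.three
  obtain ⟨m, hm, e1⟩ := (h1 x hx x3 x1).syl_conj Nat.prime_three (h1 k hk k3 k1)
  exact ⟨m, hm, _, conj_mem_cj.2 ha, (ivt_zp e).cj m k (e1.ge (mem_zpowers k))⟩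

theorem nT_le : 𝓝(V ⊔ W) ≤ 𝓝(V) := fun g hg => by_contra fun g1 => by
  have T2 := h.l.syl.pi
  have sw : ∀ g ∈ 𝓝(V ⊔ W), g ∉ 𝓝(V) → cj g V = W ∧ cj g W = V := fun g hg g1 =>
    (h.nT hg).resolve_left fun e => g1 (mem_norm_iff_cj.2 e.1)
  have sw2 : ∀ g ∈ 𝓝(V ⊔ W), g ∉ 𝓝(V) → ∀ g' ∈ 𝓝(V ⊔ W), g' ∉ 𝓝(V) → g * g' ∈ 𝓝(V) := fun g hg g1 g' hg' g2 =>
    mem_norm_iff_cj.2 (by rw [cj_mul, (sw g' hg' g2).1, (sw g hg g1).2])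
  have BT : 𝓝(V) ⊓ 𝓝(W) ≤ 𝓝(V ⊔ W) := norm_sup inf_le_left inf_le_right
  obtain ⟨k, hk, k3, k1⟩ := h.exk
  have ko := h.cit.odc (od3 k3) (mem_zpowers k) k1
  obtain ⟨s, hs, s1, s2, e⟩ : ∃ s ∈ 𝓝(V ⊔ W), s ∉ 𝓝(V) ∧ s * s = 1 ∧ s * k * s⁻¹ = k⁻¹ := by
    haveI := Fact.mk Nat.prime_three
    have e : ♯(zpowers k) = 3 := (Nat.card_zpowers k).trans (orderOf_eq_prime k3 k1)
    have e1 := card_mul_relIndex (zp_le.2 hk)
    rw [e, h.cardB] at e1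
    obtain ⟨n, hn, x, hx, rfl⟩ := (Hall.mk' (zp_le.2 hk) (isPi_of_card_eq Nat.prime_three e)
      ((piNat_compl_iff Nat.prime_three).2 (by omega))).syl_frattini Nat.prime_three (g := g) (mem_norm_iff_cj.2 (by
        rw [cj_inf, cj_norm, cj_norm, (sw g hg g1).1, (sw g hg g1).2, inf_comm]))
    have x1 : x ∉ 𝓝(V) := fun e => g1 (mul_mem hn.1 e)
    have xT : x ∈ 𝓝(V ⊔ W) := by simpa using mul_mem (Subgroup.inv_mem _ (BT hn)) hg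
    have pw : ∀ j, x ^ (2 * j + 1) ∉ 𝓝(V) := fun j e => x1 (by
      rw [pow_succ, pow_mul, pow_two] at e
      simpa using mul_mem (Subgroup.inv_mem _ (pow_mem (sw2 x xT x1 x xT x1) j)) e)
    have odd : ∀ y ∈ 𝓒₁(k), ∃ j, y ^ (2 * j + 1) = 1 := fun y hy =>
      let ⟨j, hj⟩ := ko.odd.of_dvd_nat (orderOf_dvd_card_of_mem hy); ⟨j, hj ▸ pow_orderOf_eq_one y⟩
    have xk : x * k * x⁻¹ = k⁻¹ := by
      classical
      obtain ⟨j, hj, e2⟩ := Finset.mem_image.1 (mem_zpowers_iff_mem_range_orderOf.1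
        (conj_mem_of_mem_norm hx (mem_zpowers k)))
      rw [orderOf_eq_prime k3 k1, Finset.mem_range] at hj
      interval_cases j
      · exact absurd e2.symm (by simpa using k1)
      · obtain ⟨j, hj⟩ := odd x (mem_cent1.2 (mul_inv_eq_iff_eq_mul.1 (e2.symm.trans (pow_one k))))
        exact absurd (hj ▸ one_mem _) (pw j)
      · exact e2.symm.trans (eq_inv_of_mul_eq_one_left ((pow_succ k 2).symm.trans k3))
    obtain ⟨j, hj⟩ := odd (x * x) (cent_zpowers k ▸ (ivt_zp xk).mul_cent (ivt_zp xk))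
    refine ⟨x ^ (2 * j + 1), pow_mem xT _, pw j, by rw [← (Commute.refl x).mul_pow, hj], ?_⟩
    rw [pow_succ', pow_mul, pow_two]
    exact ((ivt_zp xk).mul_cent' (pow_mem ((ivt_zp xk).mul_cent (ivt_zp xk)) j)) k (mem_zpowers k)
  have U2 : El2 (V ⊓ W) := h.l.el.le inf_le_left
  have sU : s ∈ 𝓝(V ⊓ W) := mem_norm_iff_cj.2 (by rw [cj_inf, (sw s hs s1).1, (sw s hs s1).2, inf_comm])
  have UT : V ⊓ W ≤ 𝓒(V ⊔ W) := le_cent_sup (inf_le_left.trans h.l.el.cent) (inf_le_right.trans h.r.el.cent)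
  obtain ⟨r, hr, r1, r2⟩ := exists_sq T2 (BT hk) k3 (h.cit.fpf3 T2 k3 k1) hs s2 e (V := V ⊓ W) (fun y =>
    ⟨fun hy => ⟨⟨mem_sup_left hy.1, UT hy⟩, U2 y hy⟩, fun hy =>
      ⟨h.l.cent.le (cent_anti le_sup_left hy.1.2), h.r.cent.le (cent_anti le_sup_right hy.1.2)⟩⟩)
    fun e => h.ne (le_antisymm ((le_sup_left.trans e).trans inf_le_right) ((le_sup_right.trans e).trans inf_le_left))
  have zs : s ∈ 𝓒₁(r * r) := mem_cent1_symm.1 (mul_mem hr.2 hr.2)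
  have zT : V ⊔ W ≤ 𝓒₁(r * r) := le_cent1_iff.2 (UT r2)
  have P1 : ∀ y ∈ 𝓒₁(r * r), y ∈ 𝓝(V ⊔ W) → y ∈ V ⊔ W ∨ y * s ∈ V ⊔ W := fun y hy y1 => by
    by_cases y2 : y ∈ 𝓝(V)
    · exact .inl ((h.l.cU _ r2 r1).le ⟨y2, hy⟩)
    · exact .inr ((h.l.cU _ r2 r1).le ⟨sw2 y y1 y2 s hs s1, mul_mem hy zs⟩)
  have P2 : ∀ E, El2 E → ♯E = 16 → E ≤ 𝓒₁(r * r) ⊓ 𝓝(V ⊔ W) → E ≤ V ⊔ W := fun E hE hc hP => by
    by_contra e1
    obtain ⟨i, hi, i1⟩ := SetLike.not_le_iff_exists.1 e1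
    have i2 := (P1 i (hP hi).1 (hP hi).2).resolve_left i1
    have i3 : i ∉ 𝓝(V) := fun e => i1 ((h.l.cU _ r2 r1).le ⟨e, (hP hi).1⟩)
    have i4 : (V ⊔ W) ⊓ E ≤ V ⊓ W := fun y hy => by
      have e2 : i * y * i⁻¹ = y := mul_inv_eq_iff_eq_mul.2 (hE.mc hi hy.2)
      rcases h.inv_mem hy.1 (hE y hy.2) with e3 | e3
      · exact ⟨e3, e2 ▸ (sw i (hP hi).2 i3).1.le (conj_mem_cj.2 e3)⟩
      · exact ⟨e2 ▸ (sw i (hP hi).2 i3).2.le (conj_mem_cj.2 e3), e3⟩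
    have i5 : (V ⊔ W).relIndex E = 2 := index_eq_two_iff.2 ⟨⟨i, hi⟩, fun y => by
      rw [mem_subgroupOf, mem_subgroupOf, coe_mul]
      rcases P1 y (hP y.2).1 (hP y.2).2 with e | e
      · exact .inr ⟨e, fun e' => i1 (by simpa using mul_mem (Subgroup.inv_mem _ e) e')⟩
      · refine .inl ⟨?_, fun e' => s1 (h.l.syl.le (by simpa using mul_mem (Subgroup.inv_mem _ e') e))⟩
        rw [show (y : G) * i = y * s * (i⁻¹⁻¹ * s)⁻¹ * (i⁻¹⁻¹ * i) by group, inv_inv, hE i hi, mul_one]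
        exact mul_mem e (Subgroup.inv_mem _ i2)⟩
    have i6 := card_inf_mul_relIndex (V ⊔ W) E
    have i7 := card_le_of_le' i4
    rw [h.l.cardU] at i7
    rw [i5, hc] at i6
    omega
  have P3 : 𝓒₁(r * r) ≤ 𝓝(V ⊔ W) := by
    by_contra e1
    obtain ⟨y, hy, y1⟩ := SetLike.exists_of_lt (lt_norm_of_pi (h.cit.c1 U2.pi r2 r1) (inf_lt_left.2 e1))
    have e2 := cj_of_mem_norm hy.2
    have e3 : V ⊔ W ≤ 𝓒₁(r * r) ⊓ 𝓝(V ⊔ W) := le_inf zT (le_norm_self _)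
    exact y1 ⟨hy.1, mem_norm_of_cj_le (by
      rw [cj_sup]
      exact sup_le (P2 _ (h.l.el.conj y) ((card_cj y V).trans h.l.cardV) ((cj_mono y (le_sup_left.trans e3)).trans e2.le))
        (P2 _ (h.r.el.conj y) ((card_cj y W).trans h.r.cardV) ((cj_mono y (le_sup_right.trans e3)).trans e2.le)))⟩
  obtain ⟨m, hm, w, hw, e1⟩ := h.exw hk.1 k3 k1
  obtain ⟨n, -, e2⟩ := h.cit.conj3 k3 k1 (h.r.el.conj m w hw) s2 e1 e
  obtain ⟨a, ha, rfl⟩ := mem_cj'.1 hw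
  obtain ⟨c, -, rfl⟩ := h.symm.fuse ha (fun e => s1 (by simp [← e2, e])) ⟨r2.2, r2.1⟩ r1
  have e3 : n * m * c * (r * r) * (n * m * c)⁻¹ = s := by rw [← e2]; group
  generalize n * m * c = g at e3
  have e4 : g⁻¹ * r * g ∈ 𝓒₁(r * r) := mem_cj.1 (by rw [cj_cent1, e3]; exact hr.2)
  have e5 : g⁻¹ * (r * r) * g ∈ V ⊔ W := by
    rw [show g⁻¹ * (r * r) * g = g⁻¹ * r * g * (g⁻¹ * r * g) by group]
    by_cases e6 : g⁻¹ * r * g ∈ 𝓝(V)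
    · exact mul_mem ((h.l.cU _ r2 r1).le ⟨e6, e4⟩) ((h.l.cU _ r2 r1).le ⟨e6, e4⟩)
    · exact (h.l.cU _ r2 r1).le ⟨sw2 _ (P3 e4) e6 _ (P3 e4) e6, mul_mem e4 e4⟩
  have e6 : ∀ E, El2 E → ♯E = 16 → r * r ∈ E → g⁻¹ * (r * r) * g ∉ E := fun E hE hc e7 e8 =>
    have e9 : cj g E ≤ 𝓒₁(r * r) := le_cent1_iff.2 ((hE.conj g).cent (mem_cj.2 e8))
    s1 (h.l.syl.le (P2 _ (hE.conj g) ((card_cj g E).trans hc) (le_inf e9 (e9.trans P3)) (e3 ▸ conj_mem_cj.2 e7)))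
  exact (h.inv_mem e5 (by rw [show g⁻¹ * (r * r) * g * (g⁻¹ * (r * r) * g) = g⁻¹ * (r * r * (r * r)) * g by group,
    U2 _ r2, mul_one, inv_mul_cancel])).elim (e6 V h.l.el h.l.cardV r2.1) (e6 W h.r.el h.r.cardV r2.2)

theorem syl : Syl 2 (V ⊔ W) ⊤ := h.l.syl.syl_of_norm_le p2 le_top (inf_le_right.trans h.nT_le)

theorem not_conj (g : G) : cj g V ≠ W := fun e => by
  have h1 := h.l.syl.cj g
  rw [cj_norm, e] at h1
  obtain ⟨m, hm, e1⟩ := h1.syl_conj p2 h.r.syl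
  rw [← cj_mul, sup_comm W] at e1
  have := cj_of_mem_norm (h.nT_le (mem_norm_iff_cj.2 e1))
  rw [cj_mul, e, cj_of_mem_norm hm] at this
  exact h.ne this.symm

theorem cent_u (hu : u ∈ V ⊓ W) (u1 : u ≠ 1) : 𝓒₁(u) = V ⊔ W :=
  h.syl.eq_of_le (h.cit.c1 h.l.el.pi hu.1 u1) ((h.l.cU u hu u1).ge.trans inf_le_right) le_top

end Hf

end CA.Cit
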