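import Cfsg.Agent.Lib.Cit.CtE1
import Cfsg.Agent.Lib.Cit.CtE2

/-! The amalgam of type `L₃(4)`: the projective plane. -/

set_option autoImplicit false
set_option linter.unusedSectionVars false

namespace CA.Cit

open Subgroup Cfsg CA.BG CA.GW CA.Wa CA.Ca CA.SigK1

universe u

variable {G : Type u} [Group G] [Finite G] {E V W X l l' l₁ l₂ p p' p₁ p₂ : Subgroup G}
  {a b g i k m n s t u u' v w x y z : G}

/-- conjugates -/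
def Pt (V p : Subgroup G) : Prop := ∃ g, cj g V = p

theorem Pt.cj (h : Pt V p) (g : G) : Pt V (cj g p) := let ⟨x, e⟩ := h; ⟨g * x, by rw [cj_mul, e]⟩

theorem pt_self (V : Subgroup G) : Pt V V := ⟨1, cj_one V⟩

theorem inc_cj (h : p ⊓ l ≠ ⊥) (g : G) : cj g p ⊓ cj g l ≠ ⊥ := by rwa [← cj_inf, Ne, cj_eq_bot]

theorem inc_symm (h : p ⊓ l ≠ ⊥) : l ⊓ p ≠ ⊥ := inf_comm p l ▸ h

/-- collinearity -/
def Col (W p p' : Subgroup G) : Prop := ∃ l, Pt W l ∧ p ⊓ l ≠ ⊥ ∧ p' ⊓ l ≠ ⊥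

theorem Col.symm (h : Col W p p') : Col W p' p := let ⟨l, a, b, c⟩ := h; ⟨l, a, c, b⟩

theorem Col.cj (h : Col W p p') (g : G) : Col W (cj g p) (cj g p') :=
  let ⟨_, a, b, c⟩ := h; ⟨_, a.cj g, inc_cj b g, inc_cj c g⟩

/-- paths of length four with middle point `V` -/
structure Pa (V W p₁ l₁ l₂ p₂ : Subgroup G) : Prop where
  a1 : Pt V p₁
  a2 : Pt V p₂
  b1 : Pt W l₁
  b2 : Pt W l₂
  c1 : p₁ ⊓ l₁ ≠ ⊥
  c2 : p₂ ⊓ l₂ ≠ ⊥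
  d1 : V ⊓ l₁ ≠ ⊥
  d2 : V ⊓ l₂ ≠ ⊥
  e1 : p₁ ≠ V
  e2 : p₂ ≠ V
  ne : l₁ ≠ l₂

theorem Pa.cj (h : Pa V W p₁ l₁ l₂ p₂) (hg : g ∈ 𝓝(V)) : Pa V W (cj g p₁) (cj g l₁) (cj g l₂) (cj g p₂) :=
  have e := cj_of_mem_norm hg
  ⟨h.a1.cj g, h.a2.cj g, h.b1.cj g, h.b2.cj g, inc_cj h.c1 g, inc_cj h.c2 g, e ▸ inc_cj h.d1 g, e ▸ inc_cj h.d2 g,
    fun e' => h.e1 (cj_inj.1 (e'.trans e.symm)), fun e' => h.e2 (cj_inj.1 (e'.trans e.symm)), fun e' => h.ne (cj_inj.1 e')⟩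

namespace Hf
variable (h : Hf V W)
include h

theorem U0 : V ⊓ W ≠ ⊥ := let ⟨_, hu, u1⟩ := h.exU; ne_bot_of_mem hu u1

theorem nrm (hp : Pt V p) (ht : t ∈ p) (t1 : t ≠ 1) : ∃ g, cj g V = p ∧ ∃ u ∈ V ⊓ W, u ≠ 1 ∧ g * u * g⁻¹ = t := by
  obtain ⟨g, rfl⟩ := hp
  obtain ⟨v, hv, rfl⟩ := mem_cj'.1 ht
  obtain ⟨u, hu, u1⟩ := h.exU
  obtain ⟨m, hm, rfl⟩ := h.fuse hv (fun e => t1 (by simp [e])) hu u1
  exact ⟨g * m, by rw [cj_mul, cj_of_mem_norm hm], u, hu, u1, by group⟩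

theorem thru (hp : Pt V p) (hu : u ∈ V ⊓ W) (u1 : u ≠ 1) (e : u ∈ p) : p = V := by
  obtain ⟨g, rfl⟩ := hp
  exact (h.el16 (h.l.el.conj g) ((le_cent1_iff.2 ((h.l.el.conj g).cent e)).trans (h.cent_u hu u1).le)
    ((card_cj g V).trans h.l.cardV)).resolve_right (h.not_conj g)

theorem uniq (hp : Pt V p) (hp' : Pt V p') (ht : t ∈ p) (ht' : t ∈ p') (t1 : t ≠ 1) : p' = p := by
  obtain ⟨g, rfl, u, hu, u1, rfl⟩ := h.nrm hp ht t1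
  rw [← h.thru (hp'.cj g⁻¹) hu u1 (mem_cj_inv.2 ht'), cj_cj_inv]

theorem flag' (hp : Pt V p) (hl : Pt W l) (ht : t ∈ p ⊓ l) (t1 : t ≠ 1) :
    ∃ g, cj g V = p ∧ cj g W = l ∧ ∃ u ∈ V ⊓ W, u ≠ 1 ∧ g * u * g⁻¹ = t := by
  obtain ⟨g, rfl, u, hu, u1, rfl⟩ := h.nrm hp ht.1 t1
  exact ⟨g, rfl, by rw [← h.symm.thru (hl.cj g⁻¹) ⟨hu.2, hu.1⟩ u1 (mem_cj_inv.2 ht.2), cj_cj_inv], u, hu, u1, rfl⟩

theorem flag (hp : Pt V p) (hl : Pt W l) (e : p ⊓ l ≠ ⊥) : ∃ g, cj g V = p ∧ cj g W = l :=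
  let ⟨_, ht, t1⟩ := exists_ne_one e
  let ⟨g, e1, e2, _⟩ := h.flag' hp hl ht t1
  ⟨g, e1, e2⟩

theorem fl_norm (hp : Pt V p) (hl : Pt W l) (e : p ⊓ l ≠ ⊥) : l ≤ 𝓝(p) := by
  obtain ⟨g, rfl, rfl⟩ := h.flag hp hl e
  exact norm_cj g h.l.norm

theorem digon (hp : Pt V p) (hp' : Pt V p') (hl : Pt W l) (hl' : Pt W l') (e1 : p ⊓ l ≠ ⊥) (e2 : p ⊓ l' ≠ ⊥)
    (e3 : p' ⊓ l ≠ ⊥) (e4 : p' ⊓ l' ≠ ⊥) (hne : p ≠ p') : l = l' := by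
  have pi : ∀ p, Pt V p → El2 p := fun p ⟨g, e⟩ => e ▸ h.l.el.conj g
  obtain ⟨t, ht, t1⟩ := exists_ne_one (((pi p hp).pi.inf_left l).meet_cent ((pi p' hp').pi.inf_left l') (norm_inf
    (inf_le_right.trans (h.fl_norm hp' hl e3)) (inf_le_left.trans (h.symm.fl_norm hl' hp (inc_symm e2)))) e4)
  obtain ⟨x, hx, x1⟩ := exists_ne_one e1
  obtain ⟨g, rfl, rfl, u, hu, u1, rfl⟩ := h.flag' hp' hl' ht.1 t1
  have e5 : g⁻¹ * x * g ∈ V ⊔ W := (h.cent_u hu u1).le (mem_cj.1 (by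
    rw [cj_cent1]; exact mem_cent1_symm.1 (cent_le_cent1 hx ht.2)))
  rcases h.inv_mem e5 ((pi p hp).conj g⁻¹ _ (by simpa using (conj_mem_cj (g := g⁻¹)).2 hx.1)) with e | e
  · exact absurd (h.uniq hp' hp (mem_cj.2 e) hx.1 x1) hne
  · exact h.symm.uniq hl' hl (mem_cj.2 e) hx.2 x1

theorem ln (hl : Pt W l) (e : V ⊓ l ≠ ⊥) : ∃ m ∈ 𝓝(V), cj m W = l :=
  let ⟨g, e1, e2⟩ := h.flag (pt_self V) hl e; ⟨g, mem_norm_iff_cj.2 e1, e2⟩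

theorem tr (hl : Pt W l) (hl' : Pt W l') (e : V ⊓ l ≠ ⊥) (e' : V ⊓ l' ≠ ⊥) (n : l ≠ W) (n' : l' ≠ W) :
    ∃ a ∈ W, cj a l = l' := by
  obtain ⟨m, hm, rfl⟩ := h.ln hl e
  obtain ⟨m', hm', rfl⟩ := h.ln hl' e'
  exact h.l.tr m hm (fun e => n (cj_of_mem_norm e)) m' hm' fun e => n' (cj_of_mem_norm e)

theorem trp (hl : Pt W l) (e : V ⊓ l ≠ ⊥) (hp : Pt V p) (hp' : Pt V p') (e1 : p ⊓ l ≠ ⊥) (e2 : p' ⊓ l ≠ ⊥) (n : p ≠ V)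
    (n' : p' ≠ V) : ∃ v ∈ V, cj v p = p' := by
  obtain ⟨m, hm, rfl⟩ := h.ln hl e
  have k : ∀ p, p ⊓ cj m W ≠ ⊥ → p ≠ V → W ⊓ cj m⁻¹ p ≠ ⊥ ∧ cj m⁻¹ p ≠ V := fun p e n =>
    ⟨by simpa using inc_cj (inc_symm e) m⁻¹, fun e' => n (by rw [← cj_of_mem_norm hm, ← e', cj_cj_inv])⟩
  obtain ⟨v, hv, e3⟩ := h.symm.tr (hp.cj m⁻¹) (hp'.cj m⁻¹) (k p e1 n).1 (k p' e2 n').1 (k p e1 n).2 (k p' e2 n').2
  exact ⟨m * v * m⁻¹, conj_mem_of_mem_norm hm hv, by rw [cj_mul, cj_mul, e3, cj_cj_inv]⟩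

theorem split (hl : Pt W l) (hl' : Pt W l') (e : V ⊓ l ≠ ⊥) (e' : V ⊓ l' ≠ ⊥) (n : l ≠ l') (hv : v ∈ V) :
    ∃ a ∈ V ⊓ l, ∃ b ∈ V ⊓ l', a * b = v := by
  have c : ∀ l, Pt W l → V ⊓ l ≠ ⊥ → ♯(V ⊓ l : Subgroup G) = 4 := fun l hl e => by
    obtain ⟨m, hm, rfl⟩ := h.ln hl e
    rw [← h.l.cardU, ← card_cj m (V ⊓ W), cj_inf, cj_of_mem_norm hm]
  refine exists_mul_of_card inf_le_left inf_le_left ?_ hv
  rw [c l hl e, c l' hl' e', h.l.cardV, show V ⊓ l ⊓ (V ⊓ l') = ⊥ from eq_bot_iff.2 fun t ht =>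
    by_contra fun t1 => n (h.symm.uniq hl' hl ht.2.2 ht.1.2 t1), card_bot]
  norm_num

theorem col_same {q₁ q₂ : Subgroup G} (a : Pa V W p₁ l₁ l₂ p₂) (b : Pa V W q₁ l₁ l₂ q₂) (c : Col W p₁ p₂) :
    Col W q₁ q₂ := by
  obtain ⟨v, hv, e⟩ := h.trp a.b1 a.d1 a.a1 b.a1 a.c1 b.c1 a.e1 b.e1
  obtain ⟨w, hw, e'⟩ := h.trp a.b2 a.d2 a.a2 b.a2 a.c2 b.c2 a.e2 b.e2
  obtain ⟨x, hx, y, hy, rfl⟩ := h.split a.b2 a.b1 a.d2 a.d1 a.ne.symm hv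
  obtain ⟨x', hx', y', hy', rfl⟩ := h.split a.b1 a.b2 a.d1 a.d2 a.ne hw
  rw [cj_mul, cj_of_mem_norm (h.fl_norm a.a1 a.b1 a.c1 hy.2)] at e
  rw [cj_mul, cj_of_mem_norm (h.fl_norm a.a2 a.b2 a.c2 hy'.2)] at e'
  have := c.cj (x' * x)
  rwa [cj_mul, cj_mul, e, cj_of_mem_norm (h.fl_norm b.a1 a.b1 b.c1 hx'.2),
    cj_of_mem_norm (h.fl_norm a.a2 a.b2 a.c2 hx.2), e'] at this

theorem col_path {q₁ q₂ k₁ k₂ : Subgroup G} (a : Pa V W p₁ l₁ l₂ p₂) (b : Pa V W q₁ k₁ k₂ q₂) (c : Col W p₁ p₂) :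
    Col W q₁ q₂ := by
  obtain ⟨m, hm, rfl⟩ := h.ln a.b1 a.d1
  obtain ⟨n, hn, rfl⟩ := h.ln b.b1 b.d1
  have a' := a.cj (Subgroup.inv_mem _ hm)
  have b' := b.cj (Subgroup.inv_mem _ hn)
  rw [cj_inv_cj] at a' b'
  obtain ⟨x, hx, e⟩ := h.tr a'.b2 b'.b2 a'.d2 b'.d2 a'.ne.symm b'.ne.symm
  have a'' := a'.cj (h.l.norm hx)
  rw [e, cj_of_mem hx] at a''
  simpa using (h.col_same a'' b' ((c.cj _).cj x)).cj n

theorem tri : ∃ p₁ l₁ l₂ p₂, Pa V W p₁ l₁ l₂ p₂ ∧ Col W p₁ p₂ := by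
  obtain ⟨k, hk, k3, k1⟩ := h.exk
  obtain ⟨m, hm, w, hw, e⟩ := h.exw hk.1 k3 k1
  obtain ⟨m', hm', w', hw', e'⟩ := h.symm.exw hk.2 k3 k1
  obtain ⟨n, hn, rfl⟩ := h.cit.conj3 k3 k1 (h.l.el.conj m' w' hw') (h.r.el.conj m w hw) e' e
  have w1 : n * w' * n⁻¹ ≠ 1 := fun e1 => inv3 (isPi_bot _) (mem_bot.2 e1) (norm_bot.ge (mem_top k)) k3 k1 e
  have h1 : n * w' * n⁻¹ ∈ cj n (cj m' V) := conj_mem_cj.2 hw'
  have h2 : V ⊓ cj m W ≠ ⊥ := by simpa [cj_of_mem_norm hm] using inc_cj h.U0 m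
  have h3 : cj n (cj m' V) ≠ V := fun e1 => inv3 h.l.el.pi (e1 ▸ h1) hk.1 k3 k1 e
  have h4 : cj n (cj m' V) ⊓ cj n W ≠ ⊥ := inc_cj (by simpa [cj_of_mem_norm hm'] using inc_cj h.U0 m') n
  have h5 : cj k (cj n W) = cj n W := by rw [← cj_mul, ← mem_cent1.1 hn, cj_mul, cj_of_mem_norm hk.2]
  have h6 := cj_of_mem_norm hk.1
  exact ⟨cj n (cj m' V), cj m W, cj k (cj m W), cj k (cj n (cj m' V)), ⟨((pt_self V).cj m').cj n,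
    (((pt_self V).cj m').cj n).cj k, (pt_self W).cj m, ((pt_self W).cj m).cj k, ne_bot_of_mem ⟨h1, hw⟩ w1,
    inc_cj (ne_bot_of_mem ⟨h1, hw⟩ w1) k, h2, h6 ▸ inc_cj h2 k, h3, fun e1 => h3 (cj_inj.1 (e1.trans h6.symm)),
    fun e1 => inv3 (h.r.el.conj m).pi hw (mem_norm_iff_cj.2 e1.symm) k3 k1 e⟩,
    cj n W, (pt_self W).cj n, h4, h5 ▸ inc_cj h4 k⟩

theorem col_trans (hp : Pt V p) (hp' : Pt V p') (e : Col W p V) (e' : Col W V p') : Col W p p' := by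
  by_cases h1 : p = V
  · exact h1 ▸ e'
  by_cases h2 : p' = V
  · exact h2 ▸ e
  obtain ⟨l, a, b, c⟩ := e
  obtain ⟨l', a', b', c'⟩ := e'
  by_cases h3 : l = l'
  · exact ⟨l, a, b, h3 ▸ c'⟩
  obtain ⟨_, _, _, _, d, d'⟩ := h.tri
  exact h.col_path d ⟨hp, hp', a, a', b, c', c, b', h1, h2, h3⟩ d'

theorem col_all (hn : NoSE G) (hp : Pt V p) (hp' : Pt V p') : Col W p p' := by
  let H : Subgroup G :=
    { carrier := {g | Col W V (cj g V)}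
      one_mem' := ⟨W, pt_self W, h.U0, by simpa using h.U0⟩
      mul_mem' := fun {a b} ha hb => by
        simpa [cj_mul] using (h.col_trans ((pt_self V).cj a⁻¹) ((pt_self V).cj b) (by simpa using ha.cj a⁻¹) hb).cj a
      inv_mem' := fun {a} ha => by simpa using (ha.cj a⁻¹).symm }
  have h1 : 𝓝(V) ≤ H := fun g hg => ⟨W, pt_self W, h.U0, by rw [cj_of_mem_norm hg]; exact h.U0⟩
  have h2 : 𝓝(W) ≤ H := fun g hg => ⟨W, pt_self W, h.U0, by simpa [cj_of_mem_norm hg] using inc_cj h.U0 g⟩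
  have h3 : ∀ V W : Subgroup G, Hf V W → ∀ t ∈ V, t ≠ 1 → 𝓒₁(t) ≤ 𝓝(V) := fun V W h t ht t1 => by
    obtain ⟨u, hu, u1⟩ := h.exU
    obtain ⟨m, hm, rfl⟩ := h.fuse ht t1 hu u1
    rw [← cj_cent1, h.cent_u hu u1]
    exact cj_le_of_mem hm h.l.syl.le
  have h4 := hn H _ h.syl (h.nT_le.trans h1) fun t ht t1 t2 =>
    (h.inv_mem ht t2).elim (fun e => (h3 V W h t e t1).trans h1) fun e => (h3 W V h.symm t e t1).trans h2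
  obtain ⟨g, rfl⟩ := hp
  obtain ⟨g', rfl⟩ := hp'
  simpa [← cj_mul] using (show Col W V _ from h4.ge (mem_top (g⁻¹ * g'))).cj g

theorem five (hl : Pt W l) : {p | Pt V p ∧ p ⊓ l ≠ ⊥}.ncard = 5 := by
  obtain ⟨g, rfl⟩ := hl
  have e : {p | Pt V p ∧ p ⊓ cj g W ≠ ⊥} = cj g '' Orb 𝓝(W) V := by
    ext p
    refine ⟨fun ⟨a, b⟩ => ⟨cj g⁻¹ p, h.symm.ln (a.cj _) (by simpa using inc_cj (inc_symm b) g⁻¹), cj_cj_inv g p⟩, ?_⟩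
    rintro ⟨_, ⟨n, hn, rfl⟩, rfl⟩
    exact ⟨((pt_self V).cj n).cj g, inc_cj (by simpa [cj_of_mem_norm hn] using inc_cj h.U0 n) g⟩
  have e1 := card_inf_mul_relIndex 𝓝(V) 𝓝(W)
  rw [h.cardB, h.r.cardM] at e1
  rw [e, Set.ncard_image_of_injective _ fun _ _ => cj_inj.1, Orb_card]
  omega

end Hf

theorem four [IsSimpleGroup G] (hc : CIT G) (hn : NoSE G) (h1 : Half V W 4) (h2 : Half W V 4) : L34 G := by
  classical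
  have h : Hf V W := ⟨hc, h1, h2⟩
  letI : MulAction G {p // Pt V p} :=
    { smul := fun g p => ⟨cj g p, p.2.cj g⟩
      one_smul := fun p => Subtype.ext (cj_one _)
      mul_smul := fun a b p => Subtype.ext (cj_mul _ _ _) }
  haveI := Fintype.ofFinite {p // Pt V p}
  let B : Subgroup G → Finset {p // Pt V p} := fun l => Finset.univ.filter fun p => p.1 ⊓ l ≠ ⊥
  have mB : ∀ l p, p ∈ B l ↔ p.1 ⊓ l ≠ ⊥ := fun l p => by simp [B]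
  have cB : ∀ l, Pt W l → (B l).card = 5 := fun l hl => by
    rw [← h.five hl, ← Set.ncard_coe_finset, ← Set.ncard_image_of_injective _ Subtype.val_injective]
    congr 1
    ext p
    exact ⟨fun ⟨q, e, e'⟩ => e' ▸ ⟨q.2, (mB l q).1 e⟩, fun e => ⟨⟨p, e.1⟩, (mB l _).2 e.2, rfl⟩⟩
  let o : {p // Pt V p} := ⟨V, pt_self V⟩
  have c21 : Fintype.card {p // Pt V p} = 21 := by
    let L := (Set.toFinite {l | Pt W l ∧ l ⊓ V ≠ ⊥}).toFinset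
    have mL : ∀ l, l ∈ L ↔ Pt W l ∧ l ⊓ V ≠ ⊥ := fun l => Set.Finite.mem_toFinset _
    have e : Finset.univ.erase o = L.biUnion fun l => (B l).erase o := by
      ext p
      simp only [Finset.mem_erase, Finset.mem_univ, and_true, Finset.mem_biUnion, mL, mB]
      refine ⟨fun e => ?_, fun ⟨_, _, e, _⟩ => e⟩
      obtain ⟨l, a, b, c⟩ := h.col_all hn p.2 (pt_self V)
      exact ⟨l, ⟨a, inc_symm c⟩, e, b⟩
    have e1 := congrArg Finset.card e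
    rw [Finset.card_erase_of_mem (Finset.mem_univ _), Finset.card_biUnion, Finset.sum_const_nat (m := 4) fun l hl => by
      rw [Finset.card_erase_of_mem ((mB l o).2 (inc_symm ((mL l).1 hl).2)), cB l ((mL l).1 hl).1],
      ← Set.ncard_eq_toFinset_card, h.symm.five (pt_self V), Finset.card_univ] at e1
    · omega
    · intro l hl l' hl' hne
      refine Finset.disjoint_left.2 fun p a b => hne ?_
      rw [Finset.mem_erase, mB] at a b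
      exact h.digon p.2 (pt_self V) ((mL l).1 hl).1 ((mL l').1 hl').1 a.2 b.2 (inc_symm ((mL l).1 hl).2)
        (inc_symm ((mL l').1 hl').2) fun e => a.1 (Subtype.ext e)
  haveI : MulAction.IsPretransitive G {p // Pt V p} := ⟨fun ⟨_, g, rfl⟩ ⟨_, g', rfl⟩ =>
    ⟨g' * g⁻¹, Subtype.ext (show cj _ _ = _ by rw [cj_mul, cj_inv_cj])⟩⟩
  have st : MulAction.stabilizer G o = 𝓝(V) := by
    ext g; exact Subtype.ext_iff.trans mem_norm_iff_cj.symm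
  have ix : 𝓝(V).index = 21 := by rw [← st, MulAction.index_stabilizer_of_transitive, Nat.card_eq_fintype_card, c21]
  haveI : FaithfulSMul G {p // Pt V p} := ⟨fun {a b} e => by
    refine (MonoidHom.ker_eq_bot_iff (MulAction.toPermHom G {p // Pt V p})).1
      ((Normal.eq_bot_or_eq_top inferInstance).resolve_right fun e => ?_) (Equiv.ext e)
    rw [show 𝓝(V) = ⊤ from eq_top_iff.2 fun g _ =>
      st.le (show g • o = o from DFunLike.congr_fun (e.ge (mem_top g)) o), index_top] at ix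
    omega⟩
  refine ident21 c21 (L := {b | ∃ l, Pt W l ∧ B l = b}) ⟨fun b ⟨l, hl, e⟩ => e ▸ cB l hl, fun s hs => ?_⟩ ?_ ?_
  · obtain ⟨p, q, hne, rfl⟩ := Finset.card_eq_two.1 hs
    obtain ⟨l, a, b, c⟩ := h.col_all hn p.2 q.2
    refine ⟨B l, ⟨⟨l, a, rfl⟩, by simp [Finset.insert_subset_iff, mB, b, c]⟩, ?_⟩
    rintro _ ⟨⟨l', a', rfl⟩, e⟩
    rw [h.digon p.2 q.2 a a' b ((mB _ _).1 (e (by simp))) c ((mB _ _).1 (e (by simp))) fun e => hne (Subtype.ext e)]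
  · rintro g _ ⟨l, a, rfl⟩
    refine ⟨cj g l, a.cj g, Finset.ext fun p => ?_⟩
    obtain ⟨p, rfl⟩ := MulAction.surjective g p
    simp only [Finset.mem_image, smul_left_cancel_iff, exists_eq_right, mB]
    change cj g p.1 ⊓ _ ≠ ⊥ ↔ _
    rw [← cj_inf, Ne, cj_eq_bot]
  · rw [← 𝓝(V).card_mul_index, ix, h1.cardM]; rfl

end CA.Cit
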