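import Cfsg.Agent.Lib.Cit.D4

/-! The amalgam of a critical pair in a `CIT` group. -/

set_option autoImplicit false
set_option linter.unusedSectionVars false

namespace CA.Cit

open Subgroup Cfsg CA.BG CA.GW CA.Wa CA.Ca CA.OQuo
open scoped commutatorElement

universe u

variable {G : Type u} [Group G] [Finite G] {A H K M N P Q S T T' T'' U V W X Y : Subgroup G}
  {a b g k r s t u u' v w x y z : G} {q : ℕ}

local notation "𝐐(" M ")" => 𝓞({2}, M)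

theorem cyc3 {φ ψ : MulAut G} {i : G} (ia : i * a = a * i) (ib : i * b = b * i) (ii : i * i = z) (zz : z * z = 1)
    (uu : u * u = 1) (ab : a * b * a = b * z) (ba : b * a * b = a * z) (h1 : φ a = a * i * b) (h2 : φ b = b)
    (h3 : φ i = i) (h4 : φ u = u) (k1 : ψ a = a) (k2 : ψ b = b * i * (a * u)) (k3 : ψ i = i) (k4 : ψ u = u) :
    φ (ψ (φ (ψ (φ (ψ a))))) = a := by
  have e1 : ψ (a * i * b) = b * u := by
    rw [map_mul, map_mul, k1, k2, k3]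
    calc _ = a * (i * b) * (i * a) * u := by group
      _ = a * b * (i * a) * i * u := by rw [ib]; nth_rw 1 [ia]; simp only [mul_assoc]
      _ = a * b * a * (i * i) * u := by rw [ia]; simp only [mul_assoc]
      _ = _ := by rw [ab, ii, mul_assoc b, zz, mul_one]
  have e2 : ψ (b * u) = b * i * a := by rw [map_mul, k2, k4, mul_assoc, mul_assoc a, uu, mul_one]
  rw [k1, h1, e1, map_mul φ, h2, h4, e2, map_mul, map_mul, h1, h2, h3]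
  calc _ = b * (i * a) * (i * b) := by group
    _ = b * a * (i * b) * i := by rw [ia]; nth_rw 1 [ib]; simp only [mul_assoc]
    _ = b * a * b * (i * i) := by rw [ib]; simp only [mul_assoc]
    _ = _ := by rw [ba, ii, mul_assoc, zz, mul_one]

theorem Off.Q_eq (h : Off M T A q) (h3 : 3 ∣ q - 1) : 𝐐(M) = Vo M := by
  obtain ⟨k, hk, k3⟩ := exists_orderOf_eq Nat.prime_three ((show 3 ∣ T.relIndex (M ⊓ 𝓝(T)) by
    rwa [← h.idxB, Nat.add_sub_cancel] at h3).trans (relIndex_dvd_card' _ _))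
  have k4 : k ^ 3 = 1 := k3 ▸ pow_orderOf_eq_one k
  have c2 := cls2 hk.2 k4 (h.cit.fpf3 h.syl.pi k4 fun e => by simp [e] at k3) h.syl.pi
  obtain ⟨a, ha, a1⟩ := h.exA
  obtain ⟨x, hx, x3, x1, e⟩ := h.three ha a1
  have aT := h.AT ha
  have h1 : Vo M ⊔ 𝐐(M) ⊓ 𝓒₁(a) = 𝐐(M) := le_antisymm (sup_le (Vo_le M) inf_le_left) fun y hy => by
    have c1 : ⁅y, a⁆ ∈ 𝓒(T) := c2 (commutator_mem_commutator (h.QT hy) aT)
    have c3 : ⁅y, a⁆ ∈ 𝐐(M) := by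
      rw [commutatorElement_def, mul_assoc, mul_assoc, ← mul_assoc a]
      exact mul_mem hy (conj_mem_of_mem_norm (h.nq (h.syl.le aT)) (𝐐(M).inv_mem hy))
    obtain ⟨v, hv, e⟩ := h.br_sur aT a1 ⟨mem_Vo.2 ⟨⟨c3, cent_anti h.QT c1⟩, by
      rw [← PGClassTwo.comm_mul_right (mem_cent.1 c1 a aT), h.el a ha, commutatorElement_one_right]⟩, c1⟩
    rw [show y = v * (v⁻¹ * y) by group]
    refine mul_mem_sup hv ⟨𝐐(M).mul_mem (inv_mem (Vo_le M hv)) hy, mem_cent1.2 ?_⟩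
    nth_rw 2 [← (el_Vo M).inv hv] at e
    calc _ = v⁻¹ * ⁅y, a⁆ * a * y := by rw [commutatorElement_def]; group
      _ = _ := by rw [← e]; group
  have h2 : 𝓒₁(a).relIndex 𝐐(M) = q := by
    have e1 := card_inf_mul_relIndex 𝓒₁(a) (Vo M)
    rw [inf_comm, h.fix a aT a1, h.cardU, h.cardV, pow_two, Nat.mul_right_inj (by have := h.two_le; omega)] at e1
    rw [← inf_relIndex_left]
    nth_rw 2 [← h1]
    rw [relIndex_sup_norm (norm_of_cent ((cent_symm (QV M)).trans (cent_anti inf_le_left))), ← inf_relIndex_left,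
      ← inf_assoc, inf_eq_left.2 (Vo_le M), inf_relIndex_left, e1]
  have h4 : 𝓒₁(x * a * x⁻¹).relIndex 𝐐(M) = q := by
    rw [← h2, ← relIndex_cj x 𝓒₁(a), cj_cent1, cj_of_mem_norm (h.nq hx)]
  have h5 := relIndex_inf_le (H := 𝓒₁(a)) (K := 𝓒₁(x * a * x⁻¹)) (L := 𝐐(M))
  rw [← inf_relIndex_left, ← inf_assoc, dih_inf x3 (h.cit.fpf3 (core_pi _ _) x3 x1) e, relIndex_bot_left, h2, h4] at h5
  exact (eq_of_le_of_card_le (Vo_le M) (by rwa [h.cardV, pow_two])).symm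

namespace Am
variable (h : Am M N q)
include h

theorem cardU : ♯(Vo M ⊓ Vo N : Subgroup G) = q := h.U_eq ▸ h.l.cardU

theorem cent_u (h3 : ¬ 3 ∣ q - 1) (hu : u ∈ Vo M ⊓ Vo N) (u1 : u ≠ 1) : 𝓒₁(u) = 𝓒(Vo M ⊓ Vo N) := by
  have hU : El2 (Vo M ⊓ Vo N) := (el_Vo M).le inf_le_left
  have U0 := ne_bot_of_mem hu u1
  have hP := h.l.cit.cent hU.pi U0
  have hT : Vo N ⊔ 𝐐(M) ≤ 𝓒(Vo M ⊓ Vo N) := cent_symm (h.U_eq.ge.trans inf_le_right)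
  have h1 : 𝐐(𝓝(Vo M ⊓ Vo N)) ≤ 𝓒(Vo M ⊓ Vo N) := by
    obtain ⟨v, hv, v1⟩ := exists_ne_one ((core_pi {2} 𝓝(Vo M ⊓ Vo N)).meet_cent hU.pi (core_le _ _) U0)
    refine cent_symm fun w hw => ?_
    by_cases w1 : w = 1
    · exact w1 ▸ one_mem _
    obtain ⟨k, hk, rfl⟩ := h.l.trU (h.U_eq.ge hv.1) v1 (h.U_eq.ge hw) w1
    exact conj_mem_of_mem_norm (mem_norm_cent (le_norm_core _ _
      (h.U_eq ▸ mem_norm_inf (h.l.nrm hk.1) (mem_norm_cent hk.2)))) hv.2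
  obtain ⟨S, hS, e⟩ := syl_superset p2 hP (cent_le_norm _)
  have h2 : S ≤ 𝓒(Vo M ⊓ Vo N) := by
    by_contra e1
    obtain ⟨a, ha, a1, a2⟩ := exists_sq_mem hS.pi e1
    have e2 := (h.l.cit.bs hU le_rfl (hS.le ha) (fun e => a1 (h1 e)) a2).1
    have e3 : ¬ 3 ∣ ♯(Vo M ⊓ Vo N ⊓ 𝓒₁(a) : Subgroup G) := fun e => by simpa using hU.pi.inf_left _ 3 Nat.prime_three e
    rw [h.cardU] at e2
    generalize ♯(Vo M ⊓ Vo N ⊓ 𝓒₁(a) : Subgroup G) = m at *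
    have : m ^ 2 % 3 = 1 := by
      rcases (by omega : m % 3 = 1 ∨ m % 3 = 2) with e | e <;> simp [Nat.pow_mod, e]
    omega
  rw [le_antisymm h2 e] at hS
  refine (hS.syl_of_norm_le p2 le_top fun g hg => mem_norm_of_cj_le fun y hy => ?_).eq_of_le (h.l.cit.c1 hU.pi hu u1)
    (cent_le_cent1 hu) le_top
  obtain ⟨v, hv, rfl⟩ := mem_cj'.1 hy
  have e1 := cent_anti hT (conj_mem_of_mem_norm (mem_norm_cent hg.2) (cent_symm le_rfl hv))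
  have e2 := cent_anti le_sup_right e1
  exact h.U_eq.le ⟨mem_Vo.2 ⟨⟨(h.l.cV h.l.cit).le (cent_anti (Vo_le M) e2), e2⟩, (hU.conj g) _ hy⟩, e1⟩

theorem not_mem (ha : a ∈ Vo N) (a1 : a ∉ 𝐐(M)) : a ∉ 𝓒(Vo M ⊔ 𝐐(N)) := fun e =>
  a1 (Vo_le M (h.symm.U_eq.le ⟨ha, e⟩).2)

theorem mem_Q2 (h3 : ¬ 3 ∣ q - 1) (ha : a ∈ Vo N) (a1 : a ∉ 𝐐(M)) (hr : r ∈ 𝐐(M) ⊓ 𝓒₁(a)) : r ∈ 𝐐(N) := by
  obtain ⟨g, hg, e⟩ := h.r.part' ha
  have hne : BG.cj g (Vo M ⊔ 𝐐(N)) ≠ Vo M ⊔ 𝐐(N) := fun e' => h.not_mem ha a1 (e' ▸ e.2)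
  have e0 := h.r.cU_eq hg
  rw [← e0, h.symm.U_eq] at e
  obtain ⟨u, hu, rfl⟩ := mem_cj'.1 e
  have e1 := h.symm.cent_u h3 hu fun e => a1 (by simp [e])
  have e2 : Vo N ⊓ 𝓒(Vo M ⊔ 𝐐(N)) ⊔ Vo N ⊓ 𝓒(BG.cj g (Vo M ⊔ 𝐐(N))) = Vo N :=
    eq_of_le_of_card_le (sup_le inf_le_left inf_le_left) (by
      rw [card_sup_of_disjoint (inf_le_left.trans (norm_of_comm (el_Vo N).comm inf_le_left)) (eq_bot_iff.2 fun v hv =>
        by_contra fun v1 => hne (h.r.eq_of (h.r.syl.cj_mem hg) hv.1 hv.2 v1)), h.r.cardU, (h.r.cj hg).cardU, h.r.cardV,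
        pow_two])
  rw [← h.r.cV h.r.cit, ← e2, cent_sup, ← e0, h.symm.U_eq, ← cj_cent, ← e1, cj_cent1]
  exact ⟨e1.ge (cent_anti inf_le_right (QV M hr.1)), hr.2⟩

theorem step (ha : a ∈ Vo N) (a1 : a ∉ 𝐐(M)) (hx : x ∈ M) (x3 : x ^ 3 = 1) (x1 : x ≠ 1) (e : a * x * a⁻¹ = x⁻¹)
    (hr : r ∈ 𝐐(M) ⊓ 𝓒₁(a)) (r1 : r * r ≠ 1) (r2 : r * r ∈ Vo M) :
    x * (r * r) * x⁻¹ ∉ 𝐐(N) ∧ x * (r * r) * x⁻¹ * (a * (x * (r * r) * x⁻¹) * a⁻¹) = r * r ∧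
      MulAut.conj (x * r * x⁻¹) a = a * r⁻¹ * (x * (r * r) * x⁻¹) ∧ MulAut.conj (x * r * x⁻¹) r⁻¹ = r⁻¹ := by
  have hf := h.l.cit.fpf3 (core_pi {2} M) x3 x1
  have aT := h.l.AT ha
  have ar : a * r * a⁻¹ = r := mul_inv_eq_iff_eq_mul.2 (mem_cent1.1 hr.2).symm
  have e1 : ∀ y, a * (x * y * x⁻¹) * a⁻¹ = x⁻¹ * (a * y * a⁻¹) * x := fun y => by
    rw [← conj_mul, ← conj_mul, ← conj_inv (a := x), e, inv_inv]
  have t1 := tri3 (h.l.nq hx) x3 hf hr.1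
  have t2 := tri3 (h.l.nq hx) x3 hf (mul_mem hr.1 hr.1)
  have c := comm3 (h.l.nq hx) x3 hf hr.1
  have zU : r * r ∈ Vo M ⊓ 𝓒(Vo N ⊔ 𝐐(M)) := (h.l.fix a aT a1).le ⟨r2, mul_mem hr.2 hr.2⟩
  refine ⟨fun e2 => x1 ?_, ?_, ?_, ?_⟩
  · have e3 := mem_norm_iff_cj.2 (h.l.cj_T hx h.l.syl zU r1 (le_cent_sup (zp_le.2 (QV N e2))
      (zp_le.2 (cent_symm (QV M) (conj_mem_of_mem_norm (h.l.nrm hx) r2))) (mem_zpowers _)))
    have e4 := mul_mem aT (conj_mem_of_mem_norm e3 (inv_mem aT))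
    rw [show a * (x * a⁻¹ * x⁻¹) = a * x * a⁻¹ * x⁻¹ by group, e, ← mul_inv_rev,
      ← eq_inv_of_mul_eq_one_left ((mul_assoc _ _ _).symm.trans ((pow_three' x).symm.trans x3))] at e4
    exact one_of_cube h.l.syl.pi e4 x3
  · rw [e1, show a * (r * r) * a⁻¹ = r * r by rw [← conj_mul, ar], eq_inv_of_mul_eq_one_right ((mul_assoc _ _ _).symm.trans t2), (el_Vo M).inv r2]
  · have e2 := e1 r
    rw [ar, eq_inv_of_mul_eq_one_right t1] at e2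
    rw [← (el_Vo M).inv (conj_mem_of_mem_norm (h.l.nrm hx) r2), ← conj_mul, MulAut.conj_apply]
    generalize x * r * x⁻¹ = g at *
    calc _ = a⁻¹ * (a * g * a⁻¹) * (a * a) * g⁻¹ := by group
      _ = _ := by rw [e2, el_Vo N a ha, (el_Vo N).inv ha, c.eq]; group
  · rw [MulAut.conj_apply, ← c.inv_left.eq, mul_inv_cancel_right]

theorem Q_eq : 𝐐(M) = Vo M := by
  by_cases h3 : 3 ∣ q - 1
  · exact h.l.Q_eq h3
  refine le_antisymm (by_contra fun hne => ?_) (Vo_le M)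
  obtain ⟨a, ha, a1⟩ := h.l.exA
  obtain ⟨x, hx, x3, x1, e⟩ := h.l.three ha a1
  obtain ⟨r, hr, r1, r2⟩ := exists_sq (core_pi {2} M) (h.l.nq hx) x3 (h.l.cit.fpf3 (core_pi {2} M) x3 x1)
    (h.l.nq (h.rl ha)) (el_Vo N a ha) e (fun _ => mem_Vo) hne
  have rN := h.mem_Q2 h3 ha a1 hr
  have zU := h.U_eq.le ((h.l.fix a (h.l.AT ha) a1).le ⟨r2, mul_mem hr.2 hr.2⟩)
  obtain ⟨b1, s1, s2, s3⟩ := h.step ha a1 hx x3 x1 e hr r1 r2
  have hb := conj_mem_of_mem_norm (h.l.nrm hx) r2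
  have hg := conj_mem_of_mem_norm (h.l.nq hx) hr.1
  generalize x * (r * r) * x⁻¹ = b at *
  generalize x * r * x⁻¹ = g at *
  obtain ⟨y, hy, y3, y1, e'⟩ := h.r.three hb b1
  have rb : r ∈ 𝓒₁(b) := cent_le_cent1 hb (QV M hr.1)
  obtain ⟨-, t1, t2, t3⟩ := h.symm.step hb b1 hy y3 y1 e' ⟨rN, rb⟩ r1 zU.2
  have hc := conj_mem_of_mem_norm (h.r.nrm hy) zU.2
  have hg' := conj_mem_of_mem_norm (h.r.nq hy) rN
  generalize y * (r * r) * y⁻¹ = c at *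
  generalize y * r * y⁻¹ = g' at *
  have aa := el_Vo N a ha
  have bb := el_Vo M b hb
  have zz := el_Vo M _ r2
  have ab : a * b * a = b * (r * r) := by rw [← s1, ← mul_assoc, bb, one_mul, inv_of_sq aa]
  have ba : b * a * b = a * (r * r) := by
    rw [← inv_of_sq zz, ← s1, inv_of_sq aa, mul_inv_rev, mul_inv_rev, mul_inv_rev, inv_of_sq aa, inv_of_sq bb]
    calc _ = a * a * (b * a * b) := by rw [aa, one_mul]
      _ = _ := by group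
  have hu : a * c ∈ Vo N ⊓ Vo M := h.symm.U_eq.le ((h.r.fix b (h.r.AT hb) b1).le ⟨mul_mem ha hc, mem_cent1.2 (by
    have cb : b * c * b⁻¹ = c * (r * r) := by rw [← t1, ← mul_assoc, el_Vo N c hc, one_mul]
    rw [eq_comm, ← mul_inv_eq_iff_eq_mul, ← conj_mul, cb, inv_of_sq bb, ba, mul_assoc a, (el_Vo N).mc hc zU.2,
      ← mul_assoc (r * r), zz, one_mul])⟩)
  have k := cyc3 (φ := MulAut.conj g) (ψ := MulAut.conj g') (z := r * r) (mem_cent1.1 (inv_mem hr.2))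
    (mem_cent1.1 (inv_mem rb)) (by rw [← mul_inv_rev, inv_of_sq zz]) zz (el_Vo N _ hu.1) ab ba s2
    (cj_eq_of_cent (QV M hg) hb) s3 (cj_eq_of_cent (QV M hg) hu.2) (cj_eq_of_cent (QV N hg') ha)
    (by rw [t2, ← mul_assoc a, aa, one_mul]) t3 (cj_eq_of_cent (QV N hg') hu.1)
  obtain ⟨u, hu', u1⟩ := h.l.exU
  rw [h.U_eq] at hu'
  have k1 : g * g' ∈ 𝓒₁(a) := pi2_of_cube ((h.l.cit.c1 (el_Vo M).pi hu'.1 u1).of_le (zp_le.2
    (mul_mem (cent_le_cent1 hu'.1 (QV M hg)) (cent_le_cent1 hu'.2 (QV N hg'))))) (mem_cent1.2 (by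
      rw [← mul_inv_eq_iff_eq_mul, ← MulAut.conj_apply, pow_three]
      simp only [map_mul, MulAut.mul_apply]; exact k))
  have k2 : MulAut.conj g (MulAut.conj g' a) = a := by
    rw [← MulAut.mul_apply, ← map_mul]; exact mul_inv_eq_iff_eq_mul.2 (mem_cent1.1 k1)
  rw [show MulAut.conj g' a = a from cj_eq_of_cent (QV N hg') ha, s2, mul_assoc, mul_eq_left, inv_mul_eq_one] at k2
  exact r1 (k2 ▸ bb)

theorem T_eq : Vo N ⊔ 𝐐(M) = Vo M ⊔ Vo N := by rw [h.Q_eq, sup_comm]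

theorem T_eq' : Vo M ⊔ 𝐐(N) = Vo N ⊔ 𝐐(M) := by rw [h.Q_eq, h.symm.Q_eq, sup_comm]

theorem B_le (hg : g ∈ M ⊓ 𝓝(Vo N ⊔ 𝐐(M))) : g ∈ N := h.r.nV.le (mem_norm_of_cj_le fun y hy => by
  obtain ⟨a, ha, rfl⟩ := mem_cj'.1 hy
  by_cases a1 : a ∈ 𝐐(M)
  · exact (h.U_eq.le (conj_mem_of_mem_norm (mem_norm_inf (h.l.nrm hg.1) (mem_norm_cent hg.2))
      (h.U_eq.ge ⟨h.Q_eq.le a1, ha⟩))).2
  obtain ⟨c, hc, d, hd, e⟩ := h.l.dec (conj_mem_of_mem_norm hg.2 (h.l.AT ha))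
  have e1 := (el_Vo N).conj g _ hy
  have c1 : c ∉ 𝐐(M) := fun e' => conj_not_mem (h.l.nq hg.1) a1 (e ▸ mul_mem e' hd)
  rw [h.Q_eq] at hd
  rw [← e] at e1 ⊢
  refine mul_mem hc (h.U_eq.le ((h.l.fix c (h.l.AT hc) c1).le ⟨hd, mem_cent1.2 ?_⟩)).2
  rw [eq_inv_of_mul_eq_one_left e1, mul_inv_rev, (el_Vo M).inv hd, (el_Vo N).inv hc])

theorem cube (hk : k ∈ M ⊓ 𝓝(Vo N ⊔ 𝐐(M))) : k ^ 3 ∈ Vo N ⊔ 𝐐(M) := by
  have hk' : k ∈ N ⊓ 𝓝(Vo M ⊔ 𝐐(N)) := ⟨h.B_le hk, h.T_eq' ▸ hk.2⟩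
  obtain ⟨a, ha, a1⟩ := h.l.exA
  obtain ⟨b, hb, b1⟩ := h.r.exA
  have ka := conj_mem_of_mem_norm (h.r.nrm hk'.1) ha
  have e1 := h.l.inv hk (h.l.AT ka) hb
  have e2 := h.r.inv hk' (h.r.AT hb) ha
  have sw : ∀ a ∈ Vo N, a * (b * a * b⁻¹) = b * (a * b * a⁻¹) := fun a ha => by
    rw [← (el_Vo N).inv (h.r.br (h.r.AT hb) ha).1, mul_inv_rev, conj_inv, (el_Vo N).inv ha, (el_Vo M).inv hb]
    simp only [mul_assoc]
  rw [sw _ ka, sw a ha] at e2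
  have hu := h.l.br (h.l.AT ha) hb
  have u1 := h.l.br_ne (h.l.AT ha) a1 hb (h.symm.not_mem hb b1)
  have e3 : k * (b * (a * b * a⁻¹)) * k⁻¹ = k⁻¹ * (k⁻¹ * (b * (a * b * a⁻¹)) * k) * k := by rw [← e2, ← e1]; group
  refine (h.l.cU hu u1).le ⟨pow_mem hk.1 3, mem_cent1.2 ?_⟩
  generalize b * (a * b * a⁻¹) = u at *
  calc _ = k * k * (k * u * k⁻¹) * k := by rw [pow_three]; group
    _ = _ := by rw [e3, pow_three]; group

theorem q_cases : q = 2 ∨ q = 4 := by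
  obtain ⟨n, hn⟩ := ((el_Vo M).pi.inf_left (Vo N)).exists_card p2
  rw [h.cardU] at hn
  have h1 := h.l.idxB
  have h2 := h.l.two_le
  obtain ⟨j, hj⟩ := PiNat.exists_pow Nat.prime_three (n := q - 1) (fun p hp hd => by
    obtain ⟨k, hk, e⟩ := exists_orderOf_eq hp ((show p ∣ (Vo N ⊔ 𝐐(M)).relIndex (M ⊓ 𝓝(Vo N ⊔ 𝐐(M))) by
      rwa [← h1, Nat.add_sub_cancel] at hd).trans (relIndex_dvd_card' _ _))
    have p1 : p ≠ 2 := by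
      rintro rfl
      have : 2 ∣ q := hn ▸ dvd_pow_self 2 (by rintro rfl; omega)
      omega
    have e1 := (h.l.syl.pi.orderOf (h.cube hk)).eq_one (((piNat_prime hp).2 p1).of_dvd (e ▸ orderOf_pow_dvd 3))
    rw [orderOf_eq_one_iff, ← orderOf_dvd_iff_pow_eq_one, e] at e1
    exact (Nat.prime_dvd_prime_iff_eq hp Nat.prime_three).1 e1) (by omega)
  have h3 : ∀ j, 3 ^ j % 8 = 1 ∨ 3 ^ j % 8 = 3 := fun j => by
    induction j with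
    | zero => simp
    | succ j ih => rw [pow_succ]; omega
  have h4 := h3 j
  match n, hn with
  | 0, hn => omega
  | 1, hn => omega
  | 2, hn => omega
  | n + 3, hn => rw [pow_add] at hn; omega

theorem half : Half (Vo M) (Vo N) q := by
  have hT := h.T_eq
  have nV := h.l.nV
  have nW := h.r.nV
  have ne : ∀ g ∈ M, g ∉ N → BG.cj g (Vo N ⊔ 𝐐(M)) ≠ Vo N ⊔ 𝐐(M) := fun g hg g1 e =>
    g1 (h.B_le ⟨hg, mem_norm_iff_cj.2 e⟩)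
  have cu : ∀ g ∈ M, Vo M ⊓ BG.cj g (Vo N) = Vo M ⊓ 𝓒(BG.cj g (Vo N ⊔ 𝐐(M))) := fun g hg => by
    rw [← h.l.cU_eq hg, h.U_eq, cj_inf, cj_of_mem_norm (h.l.nrm hg)]
  refine ⟨el_Vo M, (h.l.cV h.l.cit).trans h.Q_eq, h.rl.trans (norm_Vo M), ?_, h.l.cardV, h.cardU, ?_, ?_, ?_, ?_, ?_,
    ?_, ?_, ?_, ?_⟩ <;> try simp only [nV, nW]
  · exact hT ▸ h.l.syl
  · have e1 := h.l.idxM
    have e2 := card_mul_relIndex h.l.QT
    rw [h.l.idx, h.Q_eq, h.l.cardV, ← h.Q_eq] at e2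
    rw [← card_mul_relIndex h.l.syl.le, ← e2, Nat.eq_sub_of_add_eq e1, Nat.sq_sub_sq q 1 ]
    ring
  · exact fun a ha a1 => (h.l.fix a (hT.ge ha) fun e => a1 (h.Q_eq.le e)).trans h.U_eq
  · exact fun u hu => hT ▸ h.l.cU (h.U_eq.ge hu)
  · obtain ⟨g, hg, e⟩ := h.l.exists_g h.l.syl
    exact ⟨g, hg, fun e' => e (cj_of_mem_norm (mem_norm_sup (h.r.nrm e') (h.l.nq hg)))⟩
  · exact fun g hg g1 => eq_bot_iff.2 fun u hu => by_contra fun u1 => ne g hg g1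
      (h.l.eq_of (h.l.syl.cj_mem hg) (h.U_eq.ge hu.1) ((cu g hg).le ⟨hu.1.1, hu.2⟩) u1)
  · exact fun v hv => let ⟨g, hg, e⟩ := h.l.part' hv; ⟨g, hg, ((cu g hg).ge e).2⟩
  · intro g hg g1 g' hg' g2
    obtain ⟨t, ht, e⟩ := h.l.tr (h.l.syl.cj_mem hg) (ne g hg g1) (h.l.syl.cj_mem hg') (ne g' hg' g2)
    obtain ⟨c, hc, d, hd, rfl⟩ := h.l.dec ht
    refine ⟨c, hc, ?_⟩
    have e1 : BG.cj d (BG.cj g (Vo N)) = BG.cj g (Vo N) := cj_of_mem_norm (by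
      rw [← cj_norm, nW]
      exact cj_mono g (h.Q_eq.le.trans h.symm.rl) ((cj_of_mem_norm (h.l.nq hg)).ge hd))
    rw [← e1, ← cj_mul, ← cj_mul, cj_eq_iff, ← cj_mul, eq_comm, ← mem_norm_iff_cj, nW]
    refine h.B_le ⟨M.mul_mem (inv_mem (mul_mem (h.l.syl.le ht) hg)) hg', mem_norm_iff_cj.2 ?_⟩
    rw [cj_mul, ← e, ← cj_mul, ← cj_mul, mul_assoc, inv_mul_cancel, cj_one]
  · exact fun u hu u' hu' u1 u2 =>
      let ⟨k, hk, e⟩ := h.l.trU (h.U_eq.ge hu) u1 (h.U_eq.ge hu') u2; ⟨k, ⟨hk.1, h.B_le hk⟩, e⟩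
  · obtain ⟨a, ha, a1⟩ := h.l.exA
    exact ⟨a, ha, h.l.three ha a1⟩

end Am

end CA.Cit
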