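import Cfsg.Agent.Lib.Odd.PF2b
import Cfsg.Agent.Lib.Odd.BGMisc
import Cfsg.Agent.Lib.Odd.BGCoprime
import Cfsg.Agent.Lib.Odd.PF1d
import Cfsg.Agent.Lib.Grp.H7Cop2
import Cfsg.Agent.Lib.Char.H12Misc

/-! An abelian subgroup equal to the centralizer of each of its nonidentity elements, and an
element whose class size is prime to its index. -/

set_option autoImplicit false
set_option linter.unusedSectionVars false

namespace CA.R3

open Subgroup Cfsg CA.H7Cop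
open CA.PF hiding mem_cent1
open CA.BG hiding cj_one cj_mul cj_inv_cj cj_cj_inv cj
open scoped ComplexConjugate

variable {G : Type*} [Group G] [Finite G] {B : Subgroup G} {g u x y z : G}

/-- `B` is the centralizer of each of its nonidentity elements -/
structure CC (B : Subgroup G) : Prop where
  ne : B ≠ ⊥
  c : ∀ u ∈ B, u ≠ 1 → 𝓒₁(u) = B

/-- conjugates of nonidentity elements of `B` -/
def TB (B : Subgroup G) (z : G) : Prop := ∃ y ∈ B, y ≠ 1 ∧ IsConj y z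

namespace CC

variable (h : CC B)
include h

theorem comm : IsMulCommutative B := comm_iff_le_cent.2 fun u hu => mem_cent.2 fun v hv => by
  by_cases e : u = 1
  · simp [e]
  · exact mem_cent1.1 ((h.c u hu e).ge hv)

theorem norm (hu : u ∈ B) (h1 : u ≠ 1) (hg : g * u * g⁻¹ ∈ B) : g ∈ 𝓝(B) := by
  haveI := Fintype.ofFinite G
  rw [mem_norm_iff_cj]
  conv_lhs => rw [← h.c u hu h1, cj_cent1]
  exact h.c _ hg (conj_ne_one_iff.2 h1)

theorem nti : NTI (nz B) ⊤ 𝓝(B) := by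
  classical
  haveI := Fintype.ofFinite G
  exact ⟨nz_nonempty h.ne, le_top, fun a ha g _ =>
    ⟨fun e => h.norm ha.1 (mem_nz.1 ha).2 e.1, fun e =>
      mem_nz.2 ⟨conj_mem_of_mem_norm e ha.1, conj_ne_one_iff.2 (mem_nz.1 ha).2⟩⟩⟩

theorem mem_of_comm (hu : u ∈ B) (h1 : u ≠ 1) (e : z * u = u * z) : z ∈ B :=
  h.c u hu h1 ▸ mem_cent1.2 e

theorem cop : (♯B).Coprime B.index := by
  refine Nat.Coprime.symm (Nat.coprime_of_dvd fun p hp h1 h2 => ?_)
  obtain ⟨u, hu, ho⟩ := exists_orderOf_eq hp h2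
  have u1 : u ≠ 1 := fun e => hp.ne_one (by rw [← ho, e, orderOf_one])
  obtain ⟨P, hP, hle⟩ := syl_superset hp (K := zpowers u)
    (isPi_of_card_eq hp (by rw [Nat.card_zpowers, ho])) le_top
  have uP := hle (mem_zpowers u)
  obtain ⟨z, hz, z1⟩ := exists_ne_one (hP.pi.center_ne_bot (ne_bot_of_mem uP u1))
  have zB : z ∈ B := h.mem_of_comm hu u1 (mem_cent.1 hz.2 u uP).symm
  refine not_dvd_relIndex_of_le hp hP (K := B) (fun v hv => ?_) (by rwa [relIndex_top_right])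
  exact h.mem_of_comm zB z1 (mem_cent.1 hz.2 v hv)

theorem ind (hz : TB B z) : 𝓒₁(z).index = B.index := by
  obtain ⟨y, hy, y1, e⟩ := hz
  rw [← ind_conj e, h.c y hy y1]

theorem ncard_TB : {z | TB B z}.ncard = (♯B - 1) * 𝓝(B).index := by
  classical
  haveI := Fintype.ofFinite G
  have := h.nti.card_clsup
  rw [relIndex_top_right, Set.ncard_diff_singleton_of_mem (show (1 : G) ∈ (B : Set G) from one_mem B)] at this
  rw [show ♯B = (B : Set G).ncard from rfl, ← this]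
  congr 1
  ext z
  constructor
  · rintro ⟨y, hy, y1, e⟩
    obtain ⟨g, rfl⟩ := isConj_iff.1 e
    exact ⟨g, mem_top g, y, mem_nz.2 ⟨hy, y1⟩, rfl⟩
  · rintro ⟨g, -, y, hy, rfl⟩
    exact ⟨y, hy.1, (mem_nz.1 hy).2, isConj_iff.2 ⟨g, rfl⟩⟩

end CC

section Char

variable [Fintype G] {χ : G → ℂ}

theorem irr_mul (hχ : χ ∈ irr (⊤ : Subgroup G)) (hc : 𝓒₁(x).index.Coprime 𝓒₁(y).index) :
    χ x * χ y = χ 1 * χ (x * y) := by
  have h1 := CChar.CharInt.sum_irr_conj_mul (mem_irr_top.1 hχ) x y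
  rw [Finset.sum_congr rfl (g := fun _ => χ (x * y)) fun g _ => by
    obtain ⟨k, e⟩ := isConj_iff.1 (conj_mul hc (isConj_iff.2 ⟨g, rfl⟩) (IsConj.refl y))
    rw [← e]; exact mem_CInv.1 (irr_CInv hχ) k (mem_top k) _] at h1
  rw [Finset.sum_const, Finset.card_univ, nsmul_eq_mul, ← Nat.card_eq_fintype_card,
    eq_div_iff (irr_one_ne hχ), mul_assoc, mul_assoc] at h1
  have h0 : (Nat.card G : ℂ) ≠ 0 := Nat.cast_ne_zero.2 Nat.card_pos.ne'
  rw [← mul_left_cancel₀ h0 h1, mul_comm]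

theorem dirr_mul (hχ : Dirr (⊤ : Subgroup G) χ) (hc : 𝓒₁(x).index.Coprime 𝓒₁(y).index) :
    χ x * χ y = χ 1 * χ (x * y) := by
  rcases hχ with h | h
  · exact irr_mul h hc
  · simpa using irr_mul h hc

theorem Ind_zero {L : Subgroup G} {δ : G → ℂ} (hδ : δ ∈ cfOn (nz B)) (hz : ¬ TB B z) :
    Ind ⊤ L δ z = 0 := by
  refine mem_cfOn.1 (Ind_on_clsup hδ) z ?_
  rintro ⟨g, -, y, hy, rfl⟩
  exact hz ⟨y, hy.1, (mem_nz.1 hy).2, isConj_iff.2 ⟨g, rfl⟩⟩

variable (h : CC B) (hc : 𝓒₁(x).index.Coprime B.index) (hx : ¬ TB B x)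
  (hxy : ∀ y ∈ B, y ≠ 1 → ¬ TB B (x * y))
include h

theorem CC.Ind_irr {i : Lin B} (hi : i ≠ 1) : Ind 𝓝(B) B (lin i) ∈ irr 𝓝(B) := by
  have hN : Nrm B 𝓝(B) := nrm_of_le_normalizer (le_norm_self B) le_rfl
  refine (inertia_Ind_irr_iff hN (lin_irr i)).2 fun g hg => ?_
  obtain ⟨u, hu, u1, e⟩ := (exists_fixed_irr_iff hg.1).1 ⟨lin i, lin_irr i,
    fun e => hi (lin_injective (e.trans (lin_one B).symm)), hg.2⟩
  exact h.mem_of_comm hu u1 e

include hc hx hxy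

theorem CC.dot_eq (hχ : χ ∈ irr (⊤ : Subgroup G)) (h0 : χ x ≠ 0) {i j : Lin B} (hi : i ≠ 1)
    (hj : j ≠ 1) : dot B (lin i) χ = dot B (lin j) χ := by
  have hN : Nrm B 𝓝(B) := nrm_of_le_normalizer (le_norm_self B) le_rfl
  have cN : χ ∈ CInv 𝓝(B) := CInv_mono le_top (irr_CInv hχ)
  rw [← dot_Ind_left B (lin i) cN, ← dot_Ind_left B (lin j) cN]
  have ia := h.Ind_irr hi
  have ib := h.Ind_irr hj
  set α := Ind 𝓝(B) B (lin i)
  set β := Ind 𝓝(B) B (lin j)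
  by_contra hne
  have hαβ : α ≠ β := fun e => hne (by rw [e])
  have on : α - β ∈ cfOn (nz B) := by
    refine mem_cfOn.2 fun w hw => ?_
    by_cases e : w = 1
    · simp only [α, β, e, Pi.sub_apply, Ind_one (le_norm_self B), lin_apply_one, sub_self]
    · have : w ∉ (B : Set G) := fun hB => hw (mem_nz.2 ⟨hB, e⟩)
      have e1 : α w = 0 := mem_cfOn.1 (hN.Ind_on B (lin_on i)) w this
      have e2 : β w = 0 := mem_cfOn.1 (hN.Ind_on B (lin_on j)) w this
      rw [Pi.sub_apply, e1, e2, sub_self]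
  have ci : α - β ∈ CInv 𝓝(B) := sub_mem (irr_CInv ia) (irr_CInv ib)
  have n2 : nrm ⊤ (Ind ⊤ 𝓝(B) (α - β)) = 2 := by
    have : dot ⊤ (Ind ⊤ 𝓝(B) (α - β)) (Ind ⊤ 𝓝(B) (α - β)) = (2 : ℕ) := by
      rw [h.nti.dot_Ind on ci on]
      simp only [dot_sub_left, dot_sub_right, dot_irr_self ia, dot_irr_self ib, dot_irr_ne ia ib hαβ,
        dot_irr_ne ib ia hαβ.symm]
      norm_num
    exact_mod_cast nrm_of_dot_nat this
  obtain ⟨a, b, ha, hb, -, e⟩ := exists_of_nrm_two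
    (VC_Ind le_top (sub_mem (irr_VC ia) (irr_VC ib))) n2
  have z : ∀ w, ¬ TB B w → b w = - a w := fun w hw => by
    have := Ind_zero (L := 𝓝(B)) on hw
    rw [e, Pi.add_apply] at this
    linear_combination this
  have a0 : a x ≠ 0 := by
    have d : dot ⊤ (a + b) χ ≠ 0 := by
      rw [← e, dot_Ind_left _ _ (irr_CInv hχ), dot_sub_left]
      exact sub_ne_zero.2 hne
    rw [dot_add_left] at d
    rcases ha.eq_or (irr_Dirr hχ) with e1 | e1 | e1
    · rwa [e1]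
    · rw [e1]; simpa using h0
    rcases hb.eq_or (irr_Dirr hχ) with e2 | e2 | e2
    · intro e3; rw [← e2, z x hx, e3, neg_zero] at h0; exact h0 rfl
    · intro e3
      have := z x hx
      rw [e2, e3, neg_zero, Pi.neg_apply, neg_eq_zero] at this
      exact h0 this
    · rw [e1, e2, add_zero] at d; exact absurd rfl d
  apply hαβ
  rw [← sub_eq_zero]
  funext w
  by_cases hw : w ∈ nz B
  · have w1 := (mem_nz.1 hw).2
    have c' : 𝓒₁(x).index.Coprime 𝓒₁(w).index := by rwa [h.c w hw.1 w1]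
    have e1 := dirr_mul ha c'
    have e2 := dirr_mul hb c'
    rw [z x hx, z _ (hxy w hw.1 w1), z 1 (by
      rintro ⟨y, -, y1, e⟩; exact y1 (isConj_one_left.1 e))] at e2
    rw [← h.nti.Ind_apply ci on hw, e, Pi.add_apply, Pi.zero_apply]
    exact mul_left_cancel₀ a0 (by linear_combination e1 - e2)
  · exact mem_cfOn.1 on w hw

theorem CC.const (hχ : χ ∈ irr (⊤ : Subgroup G)) (h0 : χ x ≠ 0) (hy : y ∈ B) (y1 : y ≠ 1)
    (hz : z ∈ B) (z1 : z ≠ 1) : χ y = χ z := by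
  classical
  have cf : Res (B : Set G) χ ∈ CF B := Res_CF' (CInv_mono le_top (irr_CInv hχ))
  have ex : ∀ w ∈ B, χ w = ∑ i : Lin B, conj (dot B (lin i) χ) * lin i w := fun w hw => by
    rw [← Res_of_mem χ (A := (B : Set G)) hw, CF_expand_apply cf, irr_eq_image_lin h.comm,
      Finset.sum_image fun _ _ _ _ e => lin_injective e]
    refine Finset.sum_congr rfl fun i _ => ?_
    rw [dot_Res_left (lin_on i), dot_comm]
  obtain ⟨c, hc'⟩ : ∃ c, ∀ i : Lin B, i ≠ 1 → dot B (lin i) χ = c := by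
    by_cases e : ∃ j : Lin B, j ≠ 1
    · obtain ⟨j, hj⟩ := e
      exact ⟨_, fun i hi => h.dot_eq hc hx hxy hχ h0 hi hj⟩
    · exact ⟨0, fun i hi => absurd ⟨i, hi⟩ e⟩
  rw [← sub_eq_zero, ex y hy, ex z hz, ← Finset.sum_sub_distrib,
    Finset.sum_congr rfl (g := fun i => conj c * (lin i y - lin i z)) fun i _ => ?_,
    ← Finset.mul_sum, Finset.sum_sub_distrib, sum_lin_apply h.comm y1, sum_lin_apply h.comm z1]
  · simp
  by_cases e : i = 1
  · simp [e, lin_of_mem _ hy, lin_of_mem _ hz, Lin.one_apply]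
  · rw [hc' i e]; ring

end Char

theorem CC.conj_mul (h : CC B) (hc : 𝓒₁(x).index.Coprime B.index) (hx : ¬ TB B x)
    (hxy : ∀ y ∈ B, y ≠ 1 → ¬ TB B (x * y)) (hy : y ∈ B) (y1 : y ≠ 1) (hz : TB B z) :
    IsConj (x * y) (x * z) := by
  classical
  haveI := Fintype.ofFinite G
  obtain ⟨w, hw, w1, e⟩ := hz
  have cy : 𝓒₁(x).index.Coprime 𝓒₁(y).index := by rwa [h.c y hy y1]
  have cw : 𝓒₁(x).index.Coprime 𝓒₁(w).index := by rwa [h.c w hw w1]
  refine IsConj.trans ?_ (H7Cop.conj_mul cw (IsConj.refl x) e)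
  refine H12Misc.isConj_of_forall fun χ => Or.inr ?_
  have hχ := mem_irr_top.2 χ.2
  refine mul_left_cancel₀ (irr_one_ne hχ) ?_
  rw [← irr_mul hχ cy, ← irr_mul hχ cw]
  by_cases h0 : χ.1 x = 0
  · rw [h0, zero_mul, zero_mul]
  · rw [h.const hc hx hxy hχ h0 hy y1 hw w1]

/-- the counting consequence -/
theorem CC.count (h : CC B) (hc : 𝓒₁(x).index.Coprime B.index) (hx : ¬ TB B x)
    (hxy : ∀ y ∈ B, y ≠ 1 → ¬ TB B (x * y)) (hy : y ∈ B) (y1 : y ≠ 1) :
    ♯𝓒₁(x * y) * (♯B - 1) ≤ B.relIndex 𝓝(B) * ♯B := by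
  have h1 : {z | TB B z}.ncard ≤ 𝓒₁(x * y).index := by
    rw [← ncard_cl]
    exact Set.ncard_le_ncard_of_injOn (fun z => x * z) (fun z hz => h.conj_mul hc hx hxy hy y1 hz)
      (fun _ _ _ _ e => mul_left_cancel e)
  rw [h.ncard_TB] at h1
  have h2 := 𝓒₁(x * y).card_mul_index
  rw [← B.card_mul_index, ← relIndex_mul_index (le_norm_self B)] at h2
  refine Nat.le_of_mul_le_mul_right ?_ (Nat.pos_of_ne_zero (index_ne_zero_of_finite (H := 𝓝(B))))
  calc _ = ♯𝓒₁(x * y) * ((♯B - 1) * 𝓝(B).index) := by ring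
    _ ≤ ♯𝓒₁(x * y) * 𝓒₁(x * y).index := Nat.mul_le_mul_left _ h1
    _ = _ := by rw [h2]; ring

end CA.R3
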