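import Cfsg.Agent.Lib.Cit.CtG2
import Cfsg.Agent.Lib.Cit.Ca
import Cfsg.Agent.Lib.Odd.BG1b
import Cfsg.Agent.Lib.Grp.H8PG
import Cfsg.Agent.S4037
import Cfsg.Agent.S4134

/-! Tools for groups with few class sizes. -/

set_option autoImplicit false
set_option linter.unusedSectionVars false

namespace CA.R3

open Subgroup Cfsg CA.BG CA.H7Cop CA.H7Ito CA.Ca
open scoped commutatorElement

variable {G : Type*} [Group G] [Finite G] {B H K : Subgroup G} {g u v w x y z : G} {p q r : ℕ}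
  {π : Set ℕ}

/-- class size -/
scoped notation "ι(" x ")" => Subgroup.index 𝓒₁(x)

/-- normal closure of an element -/
scoped notation "ncl(" x ")" => Subgroup.normalClosure ({x} : Set _)

theorem ne_one_of_prime (hp : p.Prime) (h : orderOf x = p) : x ≠ 1 :=
  fun e => hp.ne_one (by rw [← h, e, orderOf_one])

theorem cent_le_zp (h : y ∈ zpowers x) : 𝓒₁(x) ≤ 𝓒₁(y) := cent_zpowers x ▸ cent_le_cent1 h

theorem exists_pp (hx : x ≠ 1) : ∃ y ∈ zpowers x, (orderOf y).Prime := by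
  obtain ⟨p, hp, h⟩ := exists_prime_dvd_card (zpowers_ne_bot.2 hx)
  obtain ⟨y, hy, e⟩ := exists_orderOf_eq hp h
  exact ⟨y, hy, e ▸ hp⟩

theorem ord_dvd_zp (h : y ∈ zpowers x) : orderOf y ∣ orderOf x := orderOf_dvd_of_mem_zpowers h

theorem comm_zp (h1 : u ∈ zpowers x) (h2 : v ∈ zpowers x) : u ∈ 𝓒₁(v) :=
  mem_cent1_symm.1 (cent_le_zp h1 (mem_cent1_symm.1 (cent_le_zp h2 (mem_cent1_self x))))

theorem cmul (h : y ∈ 𝓒₁(x)) (hc : (orderOf x).Coprime (orderOf y)) :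
    𝓒₁(x * y) = 𝓒₁(x) ⊓ 𝓒₁(y) := CS1.centralizer_mul (mem_cent1.1 h).symm hc

theorem imul (h : y ∈ 𝓒₁(x)) (hc : (orderOf x).Coprime (orderOf y)) :
    ι(x * y) = 𝓒₁(y).relIndex 𝓒₁(x) * ι(x) := CS1.index_centralizer_mul (mem_cent1.1 h).symm hc

theorem cop_pp (hp : p.Prime) (hq : q.Prime) (h : p ≠ q) {i j : ℕ} (hx : orderOf x = p ^ i)
    (hy : orderOf y = q ^ j) : (orderOf x).Coprime (orderOf y) := by
  rw [hx, hy]; exact Nat.coprime_pow_primes _ _ hp hq h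

/-- splitting into a `p`-part and a `p'`-part -/
theorem exists_parts (hp : p.Prime) (g : G) : ∃ u ∈ zpowers g, ∃ v ∈ zpowers g, g = u * v ∧
    (∃ j, orderOf u = p ^ j) ∧ (orderOf v).Coprime p ∧ 𝓒₁(g) = 𝓒₁(u) ⊓ 𝓒₁(v) := by
  haveI := Fact.mk hp
  obtain ⟨u, v, hu, hv, e, ⟨k, hk⟩, ho⟩ := PRes.exists_p_part (p := p) g
  obtain ⟨j, -, hj⟩ := (Nat.dvd_prime_pow hp).1 (orderOf_dvd_of_pow_eq_one hk)
  refine ⟨u, hu, v, hv, e, ⟨j, hj⟩, ho, ?_⟩
  conv_lhs => rw [e]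
  exact cmul (comm_zp hv hu) (by rw [hj]; exact (ho.symm.pow_left j))

theorem index_inf_cop (h : H.index.Coprime K.index) : (H ⊓ K).index = H.index * K.index := by
  have := relIndex_inf_of_cop (A := H) (B := K) le_top le_top (by simpa using h)
  rw [relIndex_top_right] at this
  rw [← relIndex_mul_index (inf_le_right : H ⊓ K ≤ K), inf_relIndex_right, this]

theorem rel_cop (h : H.index.Coprime K.index) : H.relIndex K = H.index := by
  simpa using relIndex_inf_of_cop (A := H) (B := K) le_top le_top (by simpa using h)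

theorem index_dvd_rel (H K : Subgroup G) : H.index ∣ H.relIndex K * K.index := by
  rw [← inf_relIndex_right, relIndex_mul_index inf_le_right]
  exact index_dvd_of_le inf_le_left

/-- an element of order `p` in the centre of a Sylow subgroup, inside a normal subgroup and
centralising a `p`-subgroup -/
theorem exists_zc' (hp : p.Prime) (N : Subgroup G) [N.Normal] (hN : p ∣ ♯N) (hK : IsPi {p} K) :
    ∃ z ∈ N, orderOf z = p ∧ z ∈ 𝓒(K) ∧ ¬ p ∣ ι(z) := by
  obtain ⟨P, hP, hle⟩ := syl_superset hp hK le_top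
  have h1 := (hP.inf_normal' le_top (top_le_norm N P)).ne_bot hp rfl hN
  have h2 := hP.pi.meet_cent (hP.pi.inf_right N)
    (norm_inf (top_le_norm N P) (le_norm_self P)) h1
  obtain ⟨z, hz, ho⟩ := exists_orderOf_eq hp
    (((hP.pi.inf_right N).inf_left _).dvd_card h2)
  refine ⟨z, hz.1.1, ho, cent_anti hle hz.2, ?_⟩
  rw [← relIndex_top_right]
  exact not_dvd_relIndex_of_le hp hP (le_cent1_iff.2 hz.2)

theorem exists_zc (hp : p.Prime) (h : p ∣ Nat.card G) : ∃ z : G, orderOf z = p ∧ ¬ p ∣ ι(z) := by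
  obtain ⟨z, -, h1, -, h2⟩ := exists_zc' hp ⊤ (by simpa using h) (isPi_bot _)
  exact ⟨z, h1, h2⟩

theorem exists_zc1 (hp : p.Prime) {j : ℕ} (h : orderOf u = p ^ j) (h1 : u ≠ 1) :
    ∃ z ∈ 𝓒₁(u), orderOf z = p ∧ ¬ p ∣ ι(z) := by
  have hj : j ≠ 0 := by rintro rfl; exact h1 (orderOf_eq_one_iff.1 h)
  obtain ⟨z, -, h1, h2, h3⟩ := exists_zc' hp ⊤ (K := zpowers u)
    (by simpa using (dvd_pow_self p hj).trans (h ▸ orderOf_dvd_natCard u))
    (isPi_of_card_eq_pow hp (by rw [Nat.card_zpowers, h]))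
  exact ⟨z, cent_zpowers u ▸ h2, h1, h3⟩

theorem le_cent_rel (hK : K ≤ H) (hn : H ≤ 𝓝(K)) (hw : w ∈ H)
    (hc : (♯K).Coprime (𝓒₁(w).relIndex H)) : K ≤ 𝓒₁(w) := by
  haveI : (K.subgroupOf H).Normal := (normal_subgroupOf_iff_le_normalizer hK).2 hn
  have := le_c_of_coprime (K := K.subgroupOf H) (w := (⟨w, hw⟩ : H))
    (by rwa [CS1.index_centralizer_coe, Coprime.card_subgroupOf hK])
  intro k hk
  exact mem_cent1.2 (congrArg Subtype.val (mem_cent1.1 (this (x := ⟨k, hK hk⟩) hk)))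

theorem ito' {Γ : Type*} [Group Γ] [Finite Γ] {n : ℕ} (h : ∀ x : Γ, ι(x) = 1 ∨ ι(x) = n) :
    Group.IsNilpotent Γ := by
  have key : Group.IsNilpotent (⊤ : Subgroup Γ) := by
    by_cases e : ∃ x : Γ, ι(x) ≠ 1
    · obtain ⟨x, hx⟩ := e
      have e := (h x).resolve_left hx
      obtain ⟨p, hp, a, -, h2⟩ := Cfsg.Agent.S4134.result n
        (by have := ind_pos x; omega) h ⟨x, e⟩
      obtain ⟨P⟩ : Nonempty (Sylow p Γ) := inferInstance
      obtain ⟨h3, ⟨N, h4, h5, h6, -⟩, -⟩ := h2 P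
      rw [← h5.sup_eq_top]
      exact nil_sup (nil_of_comm h6) P.isPGroup'.isNilpotent (top_le_norm _ _) (top_le_norm _ _)
    · push Not at e
      exact nil_of_comm (comm_iff_le_cent.2 fun x _ => mem_cent.2 fun y _ =>
        mem_center_iff.1 (ind_one.1 (e x)) y)
  exact Group.nilpotent_of_surjective (topEquiv (G := Γ)).toMonoidHom topEquiv.surjective

theorem ito {n : ℕ} (h : ∀ x ∈ H, 𝓒₁(x).relIndex H = 1 ∨ 𝓒₁(x).relIndex H = n) :
    Group.IsNilpotent H :=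
  ito' (n := n) fun x => by rw [CS1.index_centralizer_coe]; exact h x x.2

theorem kaz (hp : p.Prime) (h : PiNat {p} ι(x)) : Group.IsSolvable ncl(x) := by
  obtain ⟨k, hk⟩ := h.exists_pow hp (ind_pos x).ne'
  exact Cfsg.Agent.S4037.result x hp k (by rw [CS1.ncard_carrier, hk])

theorem mem_ncl (x : G) : x ∈ ncl(x) := subset_normalClosure rfl

theorem kaz_mem (hp : p.Prime) (h : PiNat {p} ι(x)) : x ∈ solvableRadical G :=
  Core.le_solvRad (kaz hp h) (mem_ncl x)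

theorem ncl_le (h : ∀ g, g * x * g⁻¹ ∈ K) : ncl(x) ≤ K := by
  refine (closure_le _).2 fun y hy => ?_
  obtain ⟨z, rfl, e⟩ := Group.mem_conjugatesOfSet_iff.1 hy
  obtain ⟨g, rfl⟩ := isConj_iff.1 e
  exact h g

theorem ncl_pi (hx : PiNat π (orderOf x)) (hN : IsPi π (N x)) : IsPi π ncl(x) :=
  ((isPi_zpowers.2 hx).sup hN (top_le_norm _ _)).of_le (ncl_le fun g => by
    rw [show g * x * g⁻¹ = g * x * g⁻¹ * x⁻¹ * x by group]
    exact mul_mem (mem_sup_right (mem_N (isConj_iff.2 ⟨g, rfl⟩) (IsConj.refl x)))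
      (mem_sup_left (mem_zpowers x)))

theorem N_le_ncl (x : G) : N x ≤ ncl(x) := N_le fun y e => by
  obtain ⟨g, rfl⟩ := isConj_iff.1 e
  exact normalClosure_normal.conj_mem _ (mem_ncl x) g

theorem ind_map {Γ : Type*} [Group Γ] (f : G →* Γ) (hf : Function.Surjective f) (x : G) :
    ι(f x) ∣ ι(x) :=
  (index_dvd_of_le (H := 𝓒₁(x).map f) (by
    rintro _ ⟨y, hy, rfl⟩
    exact mem_cent1.2 (by rw [← map_mul, mem_cent1.1 hy, map_mul]))).trans (index_map_dvd _ hf)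

theorem solv_ext (N : Subgroup G) [N.Normal] (h1 : Group.IsSolvable N)
    (h2 : Group.IsSolvable (G ⧸ N)) : Group.IsSolvable G :=
  solvable_of_ker_le_range N.subtype (QuotientGroup.mk' N) (by simp)

theorem solv_top (h : Group.IsSolvable (⊤ : Subgroup G)) : Group.IsSolvable G :=
  solvable_of_surjective (f := (topEquiv (G := G)).toMonoidHom) topEquiv.surjective

theorem solv_of_pidx (N : Subgroup G) [N.Normal] (h1 : Group.IsSolvable N) (h : PiNat {p} N.index) :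
    Group.IsSolvable G :=
  solv_ext N h1 (CChar.CharBurn.isSolvable_of_primes (p := p) (q := p) fun r hr e => Or.inl (h r hr e))

/-- two elements of `p`-power class size commute when `O_p = 1` -/
theorem kf' (hp : p.Prime) (hO : pCore p G = ⊥) (hx : PiNat {p} ι(x)) (hy : PiNat {p} ι(y)) :
    x * y = y * x := by
  set S := solvableRadical G
  have nF : 𝓕(S).Normal := normal_of_top_le_norm (norm_fit (top_le_norm S ⊤))
  have hF : IsPi {p}ᶜ 𝓕(S) := by
    refine (isPi_compl_iff hp).2 fun e => (syl_core_fit hp S).ne_bot hp rfl e ?_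
    haveI := Fact.mk hp
    haveI : 𝓞({p}, S).Normal := normal_of_top_le_norm (norm_core _ (top_le_norm S ⊤))
    exact BG.eq_bot_mono (Core.le_pCore ((core_pi _ S).isPGroup hp)) hO
  have h1 : 𝓕(S) ≤ 𝓒₁(x) := le_c_of_coprime (hF.nat.coprime' hx)
  have h2 : 𝓕(S) ≤ 𝓒₁(y) := le_c_of_coprime (hF.nat.coprime' hy)
  exact mem_cent1.1 (h2 (cent_fit_le Core.isSolvable_solvRad ⟨kaz_mem hp hx, le_cent1_iff.1 h1⟩))

theorem kf (hp : p.Prime) (hx : PiNat {p} ι(x)) (hy : PiNat {p} ι(y)) :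
    x * y * x⁻¹ * y⁻¹ ∈ pCore p G := by
  haveI := Fact.mk hp
  have := kf' hp (Core.pCore_quotient_pCore (p := p) (G := G))
    (hx.of_dvd (ind_map _ (QuotientGroup.mk'_surjective _) x))
    (hy.of_dvd (ind_map _ (QuotientGroup.mk'_surjective _) y))
  rw [← QuotientGroup.ker_mk' (pCore p G), MonoidHom.mem_ker, map_mul, map_mul, map_mul, this]
  simp

/-- a prime dividing the order of a centreless group divides a class size -/
theorem exists_dvd_ind (hZ : center G = ⊥) (hp : p.Prime) (h : p ∣ Nat.card G) :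
    ∃ x : G, p ∣ ι(x) := by
  by_contra hn
  push Not at hn
  haveI := Fact.mk hp
  obtain ⟨P⟩ : Nonempty (Sylow p G) := inferInstance
  haveI := (CS1.split (fun x _ => hn x) P).1
  have hP := syl_top hp P
  refine hP.ne_bot hp rfl (by simpa using h) (BG.eq_bot_mono (fun u hu => mem_center_iff.2 fun x => ?_) hZ)
  exact (mem_cent1.1 (le_c_of_coprime (hP.pi.nat.coprime ((piNat_compl_iff hp).2 (hn x))) hu)).symm

/-- `x` has a minimal centraliser -/
def Mx (x : G) : Prop := ∀ w, 𝓒₁(w) ≤ 𝓒₁(x) → 𝓒₁(w) = 𝓒₁(x)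

theorem Mx.le (h : Mx x) (hy : y ∈ 𝓒₁(x)) (hc : (orderOf x).Coprime (orderOf y)) :
    𝓒₁(x) ≤ 𝓒₁(y) := by
  have e := cmul hy hc
  rw [← h _ (e.le.trans inf_le_left), e]
  exact inf_le_right

theorem Mx.comm (h : Mx x) (hp : p.Prime) {j : ℕ} (hx : orderOf x = p ^ j) (hu : 𝓒₁(u) = 𝓒₁(x))
    (ho : (orderOf u).Coprime p) : IsMulCommutative 𝓒₁(x) := by
  have h' : Mx u := fun w e => hu ▸ h w (hu ▸ e)
  refine comm_iff_le_cent.2 (fun v hv => le_cent1_iff.1 ?_)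
  obtain ⟨a, ha, b, hb, -, ⟨k, h1⟩, h2, e⟩ := exists_parts hp v
  rw [e]
  refine le_inf (hu ▸ h'.le ?_ (h1 ▸ ho.pow_right k)) (h.le ?_ (hx ▸ h2.symm.pow_left j))
  · rw [hu]; exact zpowers_le.2 hv ha
  · exact zpowers_le.2 hv hb

/-- groups in which centralisers of nonidentity elements are incomparable -/
theorem cai_of_F (h : ∀ x y : G, y ≠ 1 → 𝓒₁(x) ≤ 𝓒₁(y) → 𝓒₁(x) = 𝓒₁(y)) : CAI G := by
  intro t ht
  have t1 := ne_one_of_prime Nat.prime_two ht
  have mx : Mx t := fun w e => h w t t1 e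
  by_cases e : IsPi {2} 𝓒₁(t)
  swap
  · simp only [IsPi, not_forall] at e
    obtain ⟨q, hq, h1, h2⟩ := e
    obtain ⟨u, hu, ho⟩ := exists_orderOf_eq hq h1
    have c : (orderOf u).Coprime 2 := ho ▸ (Nat.coprime_primes hq Nat.prime_two).2 h2
    exact mx.comm Nat.prime_two (j := 1) (by simpa using ht)
      (h t u (ne_one_of_prime hq ho) (mx.le hu (ht ▸ c.symm))).symm c
  obtain ⟨S, hS, hle⟩ := syl_superset Nat.prime_two e le_top
  refine comm_of_le ?_ hle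
  obtain ⟨z, zS, z2, hz⟩ := exists_cinv hS.pi (ne_bot_of_mem (hle (mem_cent1_self t)) t1)
  have z1 := ne_one_of_prime Nat.prime_two z2
  have zz : z * z = 1 := by rw [← pow_two, ← z2, pow_orderOf_eq_one]
  have k1 : ∀ u ∈ S, u ∉ 𝓒(S) → u * u = 1 := fun u hu hn => by
    by_contra h2
    have c := mem_cent1.1 (hz hu)
    have e1 : u * z * (u * z) = u * u := by
      rw [mul_assoc, ← mul_assoc z, ← c, mul_assoc, zz, mul_one]
    have e2 := h u (u * u) h2 (cent_le_zp (mul_mem (mem_zpowers u) (mem_zpowers u)))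
    have e3 := h (u * z) (u * u) h2 (cent_le_zp (e1 ▸ mul_mem (mem_zpowers _) (mem_zpowers _)))
    refine hn (le_cent1_iff.1 ?_)
    rw [h u z z1 fun g hg => ?_]
    · exact hz
    have a1 := mem_cent1.1 hg
    have a2 := mem_cent1.1 (e3.ge (e2.le hg))
    rw [← mul_assoc, a1, mul_assoc, mul_assoc] at a2
    exact mem_cent1.2 (mul_left_cancel a2)
  refine comm_iff_le_cent.2 fun u hu => ?_
  by_contra hn
  refine hn (mem_cent.2 fun v hv => ?_)
  by_cases h1 : v ∈ 𝓒(S)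
  · exact (mem_cent.1 h1 u hu).symm
  by_cases h2 : u * v ∈ 𝓒(S)
  · have := mem_cent.1 h2 u hu
    rw [mul_assoc] at this
    exact (mul_left_cancel this).symm
  have a := k1 _ (mul_mem hu hv) h2
  calc v * u = u * u * (v * u) * (v * v) := by rw [k1 u hu hn, k1 v hv h1]; group
    _ = u * (u * v * (u * v)) * v := by group
    _ = u * v := by rw [a, mul_one]

namespace CC

variable (h : CC B)
include h

theorem hall : Hall (primesOf B) B ⊤ :=
  IsHallIn.hall ⟨le_top, by rw [relIndex_top_right]; exact h.cop⟩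

theorem tb_of (hz : z ≠ 1) (hp : p.Prime) (h1 : p ∣ ♯𝓒₁(z)) (h2 : p ∣ ♯B) : TB B z := by
  obtain ⟨u, hu, ho⟩ := exists_orderOf_eq hp h1
  obtain ⟨P, hP, hle⟩ := h.hall.exists_syl_le hp ⟨hp, h2⟩
  obtain ⟨g, -, e⟩ := hP.syl_conj_le hp (K := zpowers u)
    (isPi_of_card_eq hp (by rw [Nat.card_zpowers, ho])) le_top
  have u1 : g * u * g⁻¹ ≠ 1 := by simpa using ne_one_of_prime hp ho
  refine ⟨g * z * g⁻¹, h.mem_of_comm (hle (e (conj_mem_cj.2 (mem_zpowers u)))) u1 ?_,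
    by simpa using hz, (isConj_iff.2 ⟨g, rfl⟩).symm⟩
  calc _ = g * (z * u) * g⁻¹ := by group
    _ = _ := by rw [← mem_cent1.1 hu]; group

theorem pi_of (hz : z ≠ 1) (hn : ¬ TB B z) : IsPi (primesOf B)ᶜ 𝓒₁(z) :=
  fun _ hp e e' => hn (h.tb_of hz hp e e'.2)

theorem ntb (ho : PiNat (primesOf B)ᶜ (orderOf z)) : ¬ TB B z := by
  rintro ⟨y, hy, y1, e⟩
  obtain ⟨g, rfl⟩ := isConj_iff.1 e
  rw [show orderOf (g * y * g⁻¹) = orderOf y from (MulAut.conj g).orderOf_eq y] at ho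
  exact y1 (orderOf_eq_one_iff.1 (((isPi_primesOf B).orderOf hy).eq_one ho))

theorem normal_of_le [K.Normal] (h1 : K ≠ ⊥) (hle : K ≤ B) : B.Normal := by
  obtain ⟨v, hv, v1⟩ := exists_ne_one h1
  exact normal_of_top_le_norm fun g _ =>
    h.norm (hle hv) v1 (hle (Normal.conj_mem inferInstance v hv g))

theorem normal_of (hw : w ∈ 𝓝(B)) (hw1 : w ∉ B) (hc : ι(w).Coprime B.index) : B.Normal := by
  have hL : ncl(w) ≤ 𝓝(B) := ncl_le fun g => by
    obtain ⟨b, hb, c, hc', rfl⟩ := exists_mul hc.symm g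
    rw [show b * c * w * (b * c)⁻¹ = b * (c * w * c⁻¹) * b⁻¹ by group, mem_cent1.1 hc',
      mul_inv_cancel_right]
    exact mul_mem (mul_mem (le_norm_self B hb) hw) (inv_mem (le_norm_self B hb))
  obtain ⟨u, hu, u1⟩ := exists_ne_one h.ne
  have vB : u * w * u⁻¹ * w⁻¹ ∈ B := by
    rw [show u * w * u⁻¹ * w⁻¹ = u * (w * u⁻¹ * w⁻¹) by group]
    exact mul_mem hu (conj_mem_of_mem_norm hw (inv_mem hu))
  have vL : u * w * u⁻¹ * w⁻¹ ∈ ncl(w) :=
    mul_mem (normalClosure_normal.conj_mem _ (mem_ncl w) u) (inv_mem (mem_ncl w))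
  have v1 : u * w * u⁻¹ * w⁻¹ ≠ 1 := fun e => hw1 (h.mem_of_comm hu u1 (by
    rw [mul_inv_eq_one, mul_inv_eq_iff_eq_mul] at e; exact e.symm))
  generalize u * w * u⁻¹ * w⁻¹ = v at vB vL v1
  refine normal_of_top_le_norm fun g _ => h.norm vB v1 ?_
  refine (h.hall.of_le (le_norm_self B) le_top).mem_of_normal le_rfl
    (hL (normalClosure_normal.conj_mem _ vL g)) ?_
  rw [show orderOf (g * v * g⁻¹) = orderOf v from (MulAut.conj g).orderOf_eq v]
  exact (isPi_primesOf B).orderOf vB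

theorem ntb_mul (hc : ι(x).Coprime B.index) (hx : ¬ TB B x) (hM : x ∉ 𝓞((primesOf B)ᶜ, ⊤))
    (hy : y ∈ B) (y1 : y ≠ 1) : ¬ TB B (x * y) := fun ht => by
  have x1 : x ≠ 1 := fun e => hM (e ▸ one_mem _)
  have e := h.c y hy y1
  have h1 := card_N_dvd (b := y) (a := x) (by rw [e]; exact hc.symm)
    (by rw [ind_comm, h.ind ht, e])
  rw [e] at h1
  have h2 : IsPi (primesOf B)ᶜ (N x) := PiNat.of_dvd (by simpa using h.hall.idx) h1
  exact hM (le_core (ncl_pi ((h.pi_of x1 hx).orderOf (mem_cent1_self x)) h2) le_top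
    (top_le_norm _ _) (mem_ncl x))

/-- the contradiction from the counting inequality -/
theorem big (hn : ¬ B.Normal) (hr : r.Prime) (ho : orderOf x = r) (hc : ι(x).Coprime B.index)
    (hx : ¬ TB B x) (hc' : ι(w).Coprime B.index) (hw : ¬ TB B w) (hM : w ∉ 𝓞((primesOf B)ᶜ, ⊤))
    {δ : ℕ} (h2 : 2 ≤ δ) (h1 : ∀ y ∈ B, y ≠ 1 → δ ≤ ♯𝓒₁(w * y))
    (h3 : ∀ s R, s.Prime → ¬ s ∣ ♯B → IsPi {s} R → R ≠ ⊥ → R ≤ 𝓝(B) →
      ∃ g, ♯(R ⊔ zpowers (g * x * g⁻¹)) ∣ δ ∧ g * x * g⁻¹ ∈ 𝓒(R)) : ♯B ≤ 2 := by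
  obtain ⟨y, hy, y1⟩ := exists_ne_one h.ne
  have c := (Nat.mul_le_mul_right _ (h1 y hy y1)).trans
    (h.count hc' hw (fun _ => h.ntb_mul hc' hw hM) hy y1)
  have ce : (♯B).Coprime (B.relIndex 𝓝(B)) := (h.hall.of_le (le_norm_self B) le_top).coprime
  have eN := card_mul_relIndex (le_norm_self B)
  set e := B.relIndex 𝓝(B)
  have e0 : e ≠ 0 := relIndex_ne_zero' _ _
  have k : ∀ s, s.Prime → s ∣ e → ∃ R g, Syl s R 𝓝(B) ∧ ♯(R ⊔ zpowers (g * x * g⁻¹)) ∣ δ ∧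
      g * x * g⁻¹ ∈ 𝓒(R) := fun s hs e1 => by
    obtain ⟨R, hR⟩ := syl_exists hs 𝓝(B)
    obtain ⟨g, hg⟩ := h3 s R hs (not_dvd_of_coprime hs ce.symm e1) hR.pi
      (hR.ne_bot hs rfl (eN ▸ e1.mul_left _)) hR.le
    exact ⟨R, g, hR, hg⟩
  have d : e ∣ δ := (Nat.dvd_iff_prime_pow_dvd_dvd _ _).2 fun s j hs e1 => by
    rcases j with _ | j
    · simp
    obtain ⟨R, g, hR, h4, -⟩ := k s hs ((dvd_pow_self s j.succ_ne_zero).trans e1)
    refine (Nat.Coprime.dvd_of_dvd_mul_right (k := s ^ (j + 1)) (n := R.relIndex 𝓝(B)) (m := ♯R)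
      (((Nat.Prime.coprime_iff_not_dvd hs).2 (hR.not_dvd hs)).pow_left _) ?_).trans
      ((card_dvd le_sup_left).trans h4)
    rw [card_mul_relIndex hR.le, ← eN]
    exact e1.mul_left _
  have ne : e ≠ δ := fun e1 => by
    obtain ⟨s, hs, e2⟩ := Nat.exists_prime_and_dvd (show e ≠ 1 by omega)
    have oc : ∀ g, orderOf (g * x * g⁻¹) = r := fun g => ho ▸ (MulAut.conj g).orderOf_eq x
    obtain ⟨R, g, -, h4, -⟩ := k s hs e2
    obtain ⟨R, g, hR, h4, h5⟩ := k r hr (e1 ▸ (oc g ▸ orderOf_dvd_card_of_mem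
      (mem_sup_right (mem_zpowers _))).trans h4)
    have pr : (♯(zpowers (g * x * g⁻¹))).Prime := by rwa [Nat.card_zpowers, oc]
    have hd : zpowers (g * x * g⁻¹) ⊓ R = ⊥ := inf_eq_bot_of_prime_not_le pr fun hle => by
      refine hn (h.normal_of (hR.le (hle (mem_zpowers _))) (fun hB => hx ?_) (by rwa [ind_conj']))
      exact ⟨_, hB, ne_one_of_prime hr (oc g), (isConj_iff.2 ⟨g, rfl⟩).symm⟩
    rw [sup_comm, card_sup_of_disjoint (norm_of_cent (zpowers_le.2 h5)) hd, Nat.card_zpowers, oc,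
      ← e1] at h4
    have h6 := h4.trans (Dvd.intro_left _ eN)
    rw [← card_mul_relIndex hR.le, mul_comm] at h6
    exact hR.not_dvd hr (Nat.dvd_of_mul_dvd_mul_left (card_pos' R) h6)
  obtain ⟨m, rfl⟩ := d
  have m2 : 2 ≤ m := by
    rcases m with _ | _ | m
    · omega
    · exact absurd (by simp) ne
    · omega
  rw [mul_assoc] at c
  have := (Nat.mul_le_mul_right _ m2).trans (Nat.le_of_mul_le_mul_left c (Nat.pos_of_ne_zero e0))
  omega

end CC

end CA.R3
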