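import Cfsg.Agent.Lib.Cit.CtG3

/-! Centreless groups with three class sizes `a, b, c > 1`, `a ∣ c`: the case `b ∣ c`. -/

set_option autoImplicit false
set_option linter.unusedSectionVars false

namespace CA.R3

open Subgroup Cfsg CA.BG CA.H7Cop CA.H7Ito CA.Ca
open scoped commutatorElement

variable {G : Type*} [Group G] [Finite G] {B H K : Subgroup G} {g u v w x y z : G}
  {p q r a b c : ℕ}

theorem ne_one_of_ind (h : 1 < ι(x)) : x ≠ 1 := by
  rintro rfl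
  rw [ind_one.2 (one_mem _)] at h
  omega

theorem eq_of_ind (hle : 𝓒₁(x) ≤ 𝓒₁(y)) (h : ι(x) = ι(y)) : 𝓒₁(x) = 𝓒₁(y) :=
  eq_of_le_idx hle h.le

theorem card_eq_of_ind (h : ι(x) = ι(y)) : ♯𝓒₁(x) = ♯𝓒₁(y) :=
  Nat.eq_of_mul_eq_mul_right (ind_pos x) (by rw [card_mul_index, h, card_mul_index])

theorem exists_elt' {A : Subgroup G} (hr : r.Prime) (h : r ∣ A.index) :
    ∃ c, c ∉ A ∧ ∃ j, orderOf c = r ^ j := by
  obtain ⟨c, -, h⟩ := exists_elt (A := A) (B := ⊤) hr (by simpa using h)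
  exact ⟨c, h⟩

theorem dvd_cent_of_pp {j : ℕ} (h : orderOf u = r ^ j) (h1 : u ≠ 1) : r ∣ ♯𝓒₁(u) := by
  have hj : j ≠ 0 := by rintro rfl; exact h1 (orderOf_eq_one_iff.1 h)
  exact (dvd_pow_self r hj).trans (h ▸ orderOf_dvd_card_of_mem (mem_cent1_self u))

theorem pp_of_prime (h : orderOf u = r) : orderOf u = r ^ 1 := by simpa using h

theorem pidx_of (N : Subgroup G) (h : ∀ r u j, r.Prime → r ≠ p → orderOf u = r ^ j → u ∈ N) :
    PiNat {p} N.index := fun r hr e => by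
  by_contra hne
  obtain ⟨u, h1, j, h2⟩ := exists_elt' hr e
  exact h1 (h r u j hr hne h2)

/-- three class sizes, two of them minimal -/
structure H3 (G : Type*) [Group G] (a b c : ℕ) : Prop where
  z : center G = ⊥
  t : ∀ x : G, x ≠ 1 → ι(x) = a ∨ ι(x) = b ∨ ι(x) = c
  cop : a.Coprime b
  ac : a ∣ c
  ne : a ≠ c
  xa : ∃ x : G, x ≠ 1 ∧ ι(x) = a
  xb : ∃ x : G, x ≠ 1 ∧ ι(x) = b
  xc : ∃ x : G, ι(x) = c

namespace H3

variable (h : H3 G a b c)
include h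

theorem one_lt (hx : x ≠ 1) : 1 < ι(x) := by
  have := ind_pos x
  have : ι(x) ≠ 1 := fun e => hx (by simpa [h.z] using ind_one.1 e)
  omega

theorem a1 : 1 < a := let ⟨_, h1, e⟩ := h.xa; e ▸ h.one_lt h1
theorem b1 : 1 < b := let ⟨_, h1, e⟩ := h.xb; e ▸ h.one_lt h1
theorem c0 : 0 < c := let ⟨x, e⟩ := h.xc; e ▸ ind_pos x
theorem nab : ¬ a ∣ b := fun e => h.a1.ne' (h.cop.eq_one_of_dvd e)
theorem nba : ¬ b ∣ a := fun e => h.b1.ne' (h.cop.symm.eq_one_of_dvd e)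
theorem nca : ¬ c ∣ a := fun e => h.ne (Nat.dvd_antisymm h.ac e)
theorem ncb : ¬ c ∣ b := fun e => h.nab (h.ac.trans e)
theorem c1 : 1 < c := h.a1.trans_le (Nat.le_of_dvd h.c0 h.ac)
theorem n1A (hx : ι(x) = a) : x ≠ 1 := ne_one_of_ind (hx ▸ h.a1)
theorem n1B (hx : ι(x) = b) : x ≠ 1 := ne_one_of_ind (hx ▸ h.b1)
theorem n1C (hx : ι(x) = c) : x ≠ 1 := ne_one_of_ind (hx ▸ h.c1)

theorem upA (hx : H.index = a) (hle : H ≤ 𝓒₁(y)) (y1 : y ≠ 1) : ι(y) = a := by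
  have d := hx ▸ index_dvd_of_le hle
  rcases h.t y y1 with e | e | e
  exacts [e, absurd (e ▸ d) h.nba, absurd (e ▸ d) h.nca]

theorem upB (hx : H.index = b) (hle : H ≤ 𝓒₁(y)) (y1 : y ≠ 1) : ι(y) = b := by
  have d := hx ▸ index_dvd_of_le hle
  rcases h.t y y1 with e | e | e
  exacts [absurd (e ▸ d) h.nab, e, absurd (e ▸ d) h.ncb]

theorem dnA (d : a ∣ ι(w)) : ι(w) = a ∨ ι(w) = c := by
  rcases h.t w (ne_one_of_ind (h.a1.trans_le (Nat.le_of_dvd (ind_pos w) d))) with e | e | e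
  exacts [Or.inl e, absurd (e ▸ d) h.nab, Or.inr e]

theorem dnB (d : b ∣ ι(w)) : ι(w) = b ∨ ι(w) = c := by
  rcases h.t w (ne_one_of_ind (h.b1.trans_le (Nat.le_of_dvd (ind_pos w) d))) with e | e | e
  exacts [absurd (e ▸ d) h.nba, Or.inl e, Or.inr e]

theorem mxC (hx : ι(x) = c) : Mx x := fun w e => by
  have d := hx ▸ index_dvd_of_le e
  refine eq_of_ind e ?_
  rcases h.dnA (h.ac.trans d) with e | e
  exacts [absurd (e ▸ d) h.nca, e.trans hx.symm]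

theorem ppA (hx : ι(x) = a) : ∃ u ∈ zpowers x, (orderOf u).Prime ∧ ι(u) = a ∧ 𝓒₁(u) = 𝓒₁(x) := by
  obtain ⟨u, hu, ho⟩ := exists_pp (h.n1A hx)
  have e := h.upA hx (cent_le_zp hu) (ne_one_of_prime ho rfl)
  exact ⟨u, hu, ho, e, (eq_of_ind (cent_le_zp hu) (hx.trans e.symm)).symm⟩

theorem ppB (hx : ι(x) = b) : ∃ u ∈ zpowers x, (orderOf u).Prime ∧ ι(u) = b ∧ 𝓒₁(u) = 𝓒₁(x) := by
  obtain ⟨u, hu, ho⟩ := exists_pp (h.n1B hx)
  have e := h.upB hx (cent_le_zp hu) (ne_one_of_prime ho rfl)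
  exact ⟨u, hu, ho, e, (eq_of_ind (cent_le_zp hu) (hx.trans e.symm)).symm⟩

theorem zB (hp : p.Prime) (d : p ∣ a) (ho : orderOf z = p) (hz : ¬ p ∣ ι(z)) : ι(z) = b := by
  rcases h.t z (ne_one_of_prime hp ho) with e | e | e
  exacts [absurd (e ▸ d) hz, e, absurd (e ▸ d.trans h.ac) hz]

theorem zA (hp : p.Prime) (d : p ∣ b) (d' : p ∣ c) (ho : orderOf z = p) (hz : ¬ p ∣ ι(z)) :
    ι(z) = a := by
  rcases h.t z (ne_one_of_prime hp ho) with e | e | e
  exacts [e, absurd (e ▸ d) hz, absurd (e ▸ d') hz]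

theorem relA (hx : ι(x) = a) (hv : v ∈ 𝓒₁(x)) (hc : (orderOf x).Coprime (orderOf v)) :
    𝓒₁(v).relIndex 𝓒₁(x) = 1 ∨ 𝓒₁(v).relIndex 𝓒₁(x) * a = c := by
  have e := imul hv hc
  rw [hx] at e
  refine (h.dnA (e ▸ Dvd.intro_left _ rfl)).imp (fun e1 => ?_) fun e1 => e ▸ e1
  exact Nat.eq_of_mul_eq_mul_right (m := a) (by have := h.a1; omega) (by rw [← e, e1, one_mul])

theorem relB (hx : ι(x) = b) (hv : v ∈ 𝓒₁(x)) (hc : (orderOf x).Coprime (orderOf v)) :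
    𝓒₁(v).relIndex 𝓒₁(x) = 1 ∨ 𝓒₁(v).relIndex 𝓒₁(x) * b = c := by
  have e := imul hv hc
  rw [hx] at e
  refine (h.dnB (e ▸ Dvd.intro_left _ rfl)).imp (fun e1 => ?_) fun e1 => e ▸ e1
  exact Nat.eq_of_mul_eq_mul_right (m := b) (by have := h.b1; omega) (by rw [← e, e1, one_mul])

theorem dvdG_a : a ∣ Nat.card G := let ⟨x, _, e⟩ := h.xa; e ▸ index_dvd_card _
theorem dvdG_b : b ∣ Nat.card G := let ⟨x, _, e⟩ := h.xb; e ▸ index_dvd_card _

theorem gam_dvd (hx : ι(x) = a) (hu : ι(u) = c) : ♯𝓒₁(u) ∣ ♯𝓒₁(x) := by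
  obtain ⟨k, hk⟩ := h.ac
  have e := 𝓒₁(u).card_mul_index.trans 𝓒₁(x).card_mul_index.symm
  rw [hu, hx, hk, mul_comm a, ← mul_assoc] at e
  exact ⟨k, (Nat.eq_of_mul_eq_mul_right (by have := h.a1; omega) e).symm⟩

theorem N_ne (hx : x ≠ 1) : N x ≠ ⊥ := fun e => hx (by simpa [h.z] using central_of_N e)

/-- the order of `x` involves only primes of `N x` -/
theorem ord_pi {π : Set ℕ} (ho : (orderOf u).Prime) (hN : IsPi π (N u)) (hc : PiNat πᶜ ι(u)) :
    PiNat π (orderOf u) := by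
  rw [piNat_prime ho]
  by_contra hn
  have := central_of (dvd_refl _) (hN.nat.coprime hc) (((piNat_prime ho).2 hn).coprime' hN)
  exact ne_one_of_prime ho rfl (by simpa [h.z] using this)

theorem cop_a : PiNat {p | p ∣ b}ᶜ a := piNat_of_coprime h.cop

section I

variable (hb : b ∣ c) (hab : a < b)
include hb

theorem abc : a * b ∣ c := h.cop.mul_dvd_of_dvd_of_dvd h.ac hb

theorem dvd_c (hp : p.Prime) (d : p ∣ Nat.card G) : p ∣ c := by
  obtain ⟨x, e⟩ := exists_dvd_ind h.z hp d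
  rcases h.t x (ne_one_of_ind (hp.one_lt.trans_le (Nat.le_of_dvd (ind_pos x) e))) with e1 | e1 | e1
  exacts [(e1 ▸ e).trans h.ac, (e1 ▸ e).trans hb, e1 ▸ e]

theorem exA (hq : q.Prime) (d : q ∣ b) : ∃ x : G, orderOf x = q ∧ ι(x) = a := by
  obtain ⟨z, h1, h2⟩ := exists_zc hq (d.trans h.dvdG_b)
  exact ⟨z, h1, h.zA hq d (d.trans hb) h1 h2⟩

include hab

theorem dich (hx : ι(x) = a) (hy : ι(y) = b) :
    ι(y * x) = b ∨ c = a * b ∧ ncl(x) ≤ 𝓒₁(y) := by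
  have hc : ι(y).Coprime ι(x) := by rw [hx, hy]; exact h.cop.symm
  have h1 := ind_le_mul hc
  have h2 := ind_mul_dvd hc
  rw [hy] at h1
  rw [hy, hx] at h2
  rcases h.t _ (ne_one_of_ind (h.b1.trans_le h1)) with e | e | e
  · omega
  · exact Or.inl e
  have e1 : c = a * b := Nat.dvd_antisymm (mul_comm a b ▸ e ▸ h2) (h.abc hb)
  refine Or.inr ⟨e1, ncl_le fun g => ?_⟩
  have e2 := ind_conj (conj_mul hc (IsConj.refl y) (isConj_iff.2 ⟨g, rfl⟩))
  have e3 := ind_conj' g x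
  generalize g * x * g⁻¹ = x' at e2 e3
  have e4 : 𝓒₁(y) ⊓ 𝓒₁(x') = 𝓒₁(y * x') := eq_of_le_idx (fun k hk => mem_cent1.2 (by
      rw [← mul_assoc, mem_cent1.1 hk.1, mul_assoc, mem_cent1.1 hk.2, mul_assoc]))
    (by rw [index_inf_cop (e3 ▸ hc), ← e2, e, e1, hy, e3, hx, mul_comm])
  have := mem_cent1.1 (e4.ge (mem_cent1_self _)).1
  rw [mul_assoc] at this
  exact mem_cent1.2 (mul_left_cancel this)

theorem dich' (hx : ι(x) = a) (hy : ι(y) = b) :
    IsPi {p | p ∣ b} (N x) ∨ c = a * b ∧ ncl(x) ≤ 𝓒₁(y) :=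
  (h.dich hb hab hx hy).imp_left fun e p _ d => d.trans (hy ▸ card_N_dvd
    (by rw [hx, hy]; exact h.cop.symm) (by rw [e, hy]))

theorem not_inf_A (hx : ι(x) = a) (hy : ι(y) = a) (hg : 𝓒₁(g) = 𝓒₁(x) ⊓ 𝓒₁(y)) : ι(g) ≠ c := by
  intro e
  have h1 := index_inf_le (H := 𝓒₁(x)) (K := 𝓒₁(y))
  rw [← hg, e, hx, hy] at h1
  have := Nat.le_of_dvd h.c0 (h.abc hb)
  have := h.a1
  nlinarith

section I1

variable (h1 : ∀ x : G, ι(x) = a → IsPi {p | p ∣ b} (N x))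
include h1

theorem piA (hx : ι(x) = a) : PiNat {p | p ∣ b} (orderOf x) := fun p hp d => by
  obtain ⟨u, hu, ho⟩ := exists_orderOf_eq hp (H := zpowers x) (by rwa [Nat.card_zpowers])
  have e := h.upA hx (cent_le_zp hu) (ne_one_of_prime hp ho)
  exact h.ord_pi (ho ▸ hp) (h1 u e) (e ▸ h.cop_a) p hp (ho ▸ dvd_refl _)

theorem commA (hx : ι(x) = a) (hy : ι(y) = a) : y ∈ 𝓒₁(x) :=
  le_c_of_coprime ((ncl_pi (h.piA hb hab h1 hy) (h1 y hy)).nat.coprime (hx ▸ h.cop_a)) (mem_ncl y)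

theorem eqA (hx : ι(x) = a) (hy : ι(y) = a) (hc : (orderOf x).Coprime (orderOf y)) :
    𝓒₁(x) = 𝓒₁(y) := by
  have e := cmul (h.commA hb hab h1 hx hy) hc
  have e1 := (h.dnA (w := x * y) (hx ▸ index_dvd_of_le (e.le.trans inf_le_left))).resolve_right
    (h.not_inf_A hb hab hx hy e)
  rw [← eq_of_ind (e.le.trans inf_le_left) (e1.trans hx.symm),
    eq_of_ind (e.le.trans inf_le_right) (e1.trans hy.symm)]

theorem I1a (hq : q.Prime) (hr : r.Prime) (hne : q ≠ r) (dq : q ∣ b) (dr : r ∣ b) :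
    Group.IsSolvable G := by
  obtain ⟨x, ox, hx⟩ := h.exA hb hq dq
  obtain ⟨x', ox', hx'⟩ := h.exA hb hr dr
  have e0 := h.eqA hb hab h1 hx hx' (by rw [ox, ox']; exact (Nat.coprime_primes hq hr).2 hne)
  have ch : ∀ s, s.Prime → ∃ w : G, (orderOf w).Prime ∧ orderOf w ≠ s ∧ orderOf w ∣ b ∧ ι(w) = a ∧
      𝓒₁(w) = 𝓒₁(x) := fun s _ => by
    by_cases e : q = s
    · exact ⟨x', ox' ▸ hr, by rw [ox', ← e]; exact hne.symm, ox' ▸ dr, hx', e0.symm⟩
    · exact ⟨x, ox ▸ hq, ox ▸ e, ox ▸ dq, hx, rfl⟩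
  have all : ∀ y : G, ι(y) = a → 𝓒₁(y) = 𝓒₁(x) := fun y hy => by
    obtain ⟨u, -, h2, h3, h4⟩ := h.ppA hy
    obtain ⟨w, h5, h6, -, h7, h8⟩ := ch _ h2
    rw [← h4, ← h8, h.eqA hb hab h1 h7 h3 ((Nat.coprime_primes h5 h2).2 h6)]
  set A := 𝓒₁(x) with hA
  haveI : A.Normal := normal_of_top_le_norm fun g _ => mem_norm_iff_cj.2 (by
    rw [hA, cj_cent1]; exact all _ ((ind_conj' g x).trans hx))
  have ia : A.index = a := hx
  have tC : ∀ g ∈ A, ι(g) = c → 𝓒₁(g) ≤ A := fun g hg e => by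
    by_contra hn
    obtain ⟨p, hp, d⟩ := Nat.exists_prime_and_dvd (relIndex_eq_one.not.2 hn)
    obtain ⟨v, hv, vA, j, ov⟩ := exists_elt hp d
    have pa : p ∣ a := d.trans (ia ▸ relIndex_dvd_index_of_normal _ _)
    have pb : ∀ w : G, (orderOf w).Prime → orderOf w ∣ b → orderOf w ≠ p := fun w _ e1 e2 =>
      not_dvd_of_coprime hp h.cop pa (e2 ▸ e1)
    obtain ⟨u, hu, u', hu', e1, ⟨i, ou⟩, ou', e2⟩ := exists_parts hp g
    have uA := zpowers_le.2 hg hu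
    have uA' := zpowers_le.2 hg hu'
    by_cases e3 : u' = 1
    · rw [e3, mul_one] at e1
      exact hn ((h.mxC e).le (mem_cent1_symm.1 hg) (cop_pp hp hq
        (ox ▸ (pb x (ox ▸ hq) (ox ▸ dq)).symm) (e1 ▸ ou) (pp_of_prime ox)))
    rcases h.t u' e3 with e4 | e4 | e4
    · exact hn (all u' e4 ▸ cent_le_zp hu')
    · obtain ⟨k, hk, ok, -, e5⟩ := h.ppB e4
      obtain ⟨w, w1, w2, w3, -, w4⟩ := ch _ ok
      have kp : orderOf k ≠ p := fun e =>
        not_dvd_of_coprime hp ou' (e ▸ ord_dvd_zp hk) dvd_rfl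
      have kg := zpowers_le.2 hu' hk
      have c1 := cop_pp hp ok kp.symm ou (pp_of_prime rfl)
      have e6 : 𝓒₁(u * k) = 𝓒₁(g) := by rw [cmul (comm_zp kg hu) c1, e5, e2]
      refine hn (e6 ▸ w4 ▸ (h.mxC (by rw [e6, e])).le (mem_cent1_symm.1 (w4 ▸ ?_)) ?_)
      · exact mul_mem uA (zpowers_le.2 hg kg)
      · rw [Commute.orderOf_mul_eq_mul_orderOf_of_coprime (mem_cent1.1 (comm_zp hu kg)) c1]
        exact Nat.Coprime.mul_left (cop_pp hp w1 (pb w w1 w3).symm ou (pp_of_prime rfl))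
          ((Nat.coprime_primes ok w1).2 w2.symm)
    · exact vA (mem_cent1_symm.1 ((h.mxC e4).le (cent_le_zp hu' hv) (ov ▸ ou'.pow_right j)
        (mem_cent1_symm.1 uA')))
  have nil : Group.IsNilpotent A := ito (n := c / a) fun g hg => by
    have k : 𝓒₁(g).relIndex A * a = c → 𝓒₁(g).relIndex A = c / a := fun e => by
      rw [← e, Nat.mul_div_cancel _ (by have := h.a1; omega)]
    by_cases g1 : g = 1
    · exact Or.inl (relIndex_eq_one.2 fun k _ => by simp [g1, mem_cent1])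
    rcases h.t g g1 with e | e | e
    · exact Or.inl (relIndex_eq_one.2 (all g e).ge)
    · obtain ⟨k', hk, ok, -, e5⟩ := h.ppB e
      obtain ⟨w, w1, w2, -, w3, w4⟩ := ch _ ok
      have := h.relA w3 (v := k') (w4 ▸ zpowers_le.2 hg hk) ((Nat.coprime_primes w1 ok).2 w2)
      rw [e5, w4] at this
      exact this.imp_right k
    · exact Or.inr (k (by rw [← ia, relIndex_mul_index (tC g hg e), e]))
  have tB : ∀ p j (v : G), p.Prime → p ∣ a → orderOf v = p ^ j → v ≠ 1 → ι(v) = b := by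
    intro p j v hp pa ov v1
    have pb := not_dvd_of_coprime hp h.cop pa
    have pv : p ∣ orderOf v := ov ▸ dvd_pow_self p (by rintro rfl; exact v1 (orderOf_eq_one_iff.1 ov))
    rcases h.t v v1 with e | e | e
    · exact absurd (h.piA hb hab h1 e p hp pv) pb
    · exact e
    have d := (dvd_cent_of_pp ov v1).trans (h.gam_dvd hx e)
    obtain ⟨z, hz, oz⟩ := exists_orderOf_eq hp (((core_pi {p} A).inf_left 𝓒(A)).dvd_card
      (meet_cent_of_nil nil le_rfl (core_le _ _) (le_norm_core _ _)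
        ((nil_hall_core {p} nil).ne_bot hp rfl d)))
    exact absurd (h.piA hb hab h1 (h.upA ia (le_cent1_iff.2 hz.2) (ne_one_of_prime hp oz)) p hp
      (oz ▸ dvd_rfl)) pb
  refine solv_ext A (solv_of_nil nil) (isSolvable_of_comm fun s t => ?_)
  have hZ : (center (G ⧸ A)).comap (QuotientGroup.mk' A) = ⊤ := by
    rw [← index_eq_one]
    by_contra hn
    obtain ⟨p, hp, d⟩ := Nat.exists_prime_and_dvd hn
    obtain ⟨v, hv, j, ov⟩ := exists_elt' hp d
    have pa : p ∣ a := d.trans (ia ▸ index_dvd_of_le fun k hk => by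
      simp [mem_comap, (QuotientGroup.eq_one_iff k).2 hk])
    have e := tB p j v hp pa ov fun e => hv (e ▸ one_mem _)
    refine hv (mem_center_iff.2 fun s => ?_)
    obtain ⟨g, rfl⟩ := QuotientGroup.mk'_surjective A s
    obtain ⟨k, hk, l, hl, rfl⟩ := exists_mul (A := A) (B := 𝓒₁(v)) (by rw [ia, e]; exact h.cop) g
    rw [map_mul, show QuotientGroup.mk' A k = 1 from (QuotientGroup.eq_one_iff k).2 hk, one_mul,
      ← map_mul, mem_cent1.1 hl, map_mul]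
  obtain ⟨g, rfl⟩ := QuotientGroup.mk'_surjective A t
  exact mem_center_iff.1 (hZ.ge (mem_top g)) s

theorem I1b (hq : q.Prime) (hbq : PiNat {q} b) : Group.IsSolvable G := by
  by_contra hG
  have σq : ∀ x : G, ι(x) = a → IsPi {q} ncl(x) := fun x hx p hp d =>
    hbq p hp (ncl_pi (h.piA hb hab h1 hx) (h1 x hx) p hp d)
  have qa : PiNat {q}ᶜ a := fun p hp d e => by
    obtain ⟨s, hs, d'⟩ := Nat.exists_prime_and_dvd h.b1.ne'
    exact not_dvd_of_coprime hp h.cop d ((show p = s from e.trans (hbq s hs d').symm) ▸ d')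
  set S := solvableRadical G
  have tC : ∀ u, u ∉ S → ι(u) = c := fun u hu => by
    rcases h.t u fun e => hu (e ▸ one_mem _) with e | e | e
    · exact absurd (Core.le_solvRad ((σq u e).isSolvable hq) (mem_ncl u)) hu
    · exact absurd (kaz_mem hq (e ▸ hbq)) hu
    · exact e
  obtain ⟨x, -, hx⟩ := h.xa
  have ox := (σq x hx).orderOf (mem_ncl x)
  have cA : ∀ r y, r.Prime → r ≠ q → orderOf y = r → y ∈ 𝓒₁(x) → ι(y) = c := by
    intro p y hp pq oy hy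
    have c1 : (orderOf y).Coprime (orderOf x) := (oy ▸ (piNat_prime hp).2 pq).coprime' ox
    rcases h.t y (ne_one_of_prime hp oy) with e | e | e
    · exact absurd ((σq y e).orderOf (mem_ncl y) p hp (oy ▸ dvd_rfl)) pq
    swap
    · exact e
    exfalso
    obtain ⟨e1, e2⟩ := (h.dich hb hab hx e).resolve_left fun e1 => h.nab (by
      rw [← e1, ← hx, cmul (mem_cent1_symm.1 hy) c1]; exact index_dvd_of_le inf_le_right)
    refine hG (CChar.CharBurn.isSolvable_of_primes (p := p) (q := q) fun r hr d => ?_)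
    rcases (Nat.Prime.dvd_mul hr).1 (e1 ▸ h.dvd_c hb hr d) with d1 | d1
    swap
    · exact Or.inr (hbq r hr d1)
    by_contra hn
    push Not at hn
    have d2 : r ∣ 𝓒(ncl(x)).relIndex 𝓒₁(y) := by
      refine ((Nat.Prime.dvd_mul hr).1 (d1.trans ((hx ▸ index_dvd_of_le (cent_le_cent1
        (mem_ncl x))).trans (index_dvd_rel _ 𝓒₁(y))))).resolve_right fun d => hn.2 (hbq r hr (e ▸ d))
    obtain ⟨v, hv, h2, j, ov⟩ := exists_elt hr d2
    refine h2 (le_cent1_iff.1 (le_cent_rel e2 (top_le_norm _ _) hv ?_))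
    rcases h.relB e hv (cop_pp hp hr hn.1.symm (pp_of_prime oy) ov) with e3 | e3
    · simp [e3]
    · rw [Nat.eq_of_mul_eq_mul_right (by have := h.b1; omega) (e3.trans e1)]
      exact (σq x hx).nat.coprime qa
  have nS : ¬ Group.IsSolvable (G ⧸ S) := fun e => hG (solv_ext S Core.isSolvable_solvRad e)
  obtain ⟨d, hd⟩ : ∃ d, d ∉ S := by
    by_contra hn
    push Not at hn
    exact hG (Core.solvRad_eq_top_iff.1 (eq_top_iff.2 fun g _ => hn g))
  have gm : ∀ r, r.Prime → r ∣ S.index → r ∣ ♯𝓒₁(d) := fun r hr e => by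
    obtain ⟨u, hu, j, ou⟩ := exists_elt' hr e
    rw [card_eq_of_ind ((tC d hd).trans (tC u hu).symm)]
    exact dvd_cent_of_pp ou fun e => hu (e ▸ one_mem _)
  have st : ∀ s, s.Prime → s ≠ q → s ∣ S.index → ¬ s ∣ c := fun s hs sq ds => by
    obtain ⟨r, hr, dr, rs, rq⟩ : ∃ r, r.Prime ∧ r ∣ S.index ∧ r ≠ s ∧ r ≠ q := by
      by_contra hn
      refine nS (CChar.CharBurn.isSolvable_of_primes (p := s) (q := q) fun r hr e => ?_)
      by_contra hn'
      push Not at hn'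
      exact hn ⟨r, hr, e, hn'⟩
    obtain ⟨u, hu, ou⟩ := exists_orderOf_eq hr ((gm r hr dr).trans (h.gam_dvd hx (tC d hd)))
    have e1 := cA r u hr rq ou hu
    obtain ⟨l, hl, ol⟩ := exists_orderOf_eq hs
      (card_eq_of_ind ((tC d hd).trans e1.symm) ▸ gm s hs ds)
    have c1 : (orderOf u).Coprime (orderOf l) := by rw [ou, ol]; exact (Nat.coprime_primes hr hs).2 rs
    have l1 := (h.mxC e1).le hl c1
    have e2 := cA s l hs sq ol (mem_cent1_symm.1 (l1 (mem_cent1_symm.1 hu)))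
    have e3 := eq_of_ind l1 (e1.trans e2.symm)
    have cm := (h.mxC e1).comm hr (pp_of_prime ou) e3.symm (ou ▸ c1.symm)
    obtain ⟨z, hz, oz, h2⟩ := exists_zc1 hs (pp_of_prime ol) (ne_one_of_prime hs ol)
    rwa [cA s z hs sq oz (cent_le_cent1 (mem_cent1_symm.1 hu)
      (comm_iff_le_cent.1 cm (e3.ge hz)))] at h2
  have h2 : PiNat {q} ι(QuotientGroup.mk' S d) := fun s hs e => by
    by_contra sq
    exact st s hs sq (e.trans (index_dvd_card _))
      (e.trans (tC d hd ▸ ind_map _ (QuotientGroup.mk'_surjective S) d))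
  have := kaz_mem hq h2
  rw [Core.solvRad_quotient_solvRad, mem_bot] at this
  exact hd ((QuotientGroup.eq_one_iff d).1 this)

end I1

end I

end H3

end CA.R3
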