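import Cfsg.Agent.Lib.Cit.CtG4

/-! Centreless groups with three class sizes: end of the case `b ∣ c`, and the case `¬ b ∣ c`
with a normal `p`-subgroup. -/

set_option autoImplicit false
set_option linter.unusedSectionVars false

namespace CA.R3

open Subgroup Cfsg CA.BG CA.H7Cop CA.H7Ito CA.Ca
open scoped commutatorElement

variable {G : Type*} [Group G] [Finite G] {B H K : Subgroup G} {g u v w x y z : G}
  {p q r a b c : ℕ}

theorem mem_pcore (hp : p.Prime) {j : ℕ} (ho : orderOf x = p ^ j) (h : PiNat {p} ι(x)) :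
    x ∈ pCore p G := by
  haveI := Fact.mk hp
  obtain ⟨k, hk⟩ := h.exists_pow hp (ind_pos x).ne'
  exact CS1.mem_pCore (k := j) (ho ▸ pow_orderOf_eq_one x) hk

theorem pcore_pi (hp : p.Prime) : IsPi {p} (pCore p G) :=
  haveI := Fact.mk hp
  isPi_of_isPGroup hp Core.isPGroup_pCore

theorem rel_one (h : g = 1) : 𝓒₁(g).relIndex H = 1 :=
  relIndex_eq_one.2 fun k _ => by simp [h, mem_cent1]

theorem center_normal (K : Subgroup G) [K.Normal] : (𝓩(K) : Subgroup G).Normal :=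
  normal_of_top_le_norm ((top_le_norm K ⊤).trans (norm_center K))

namespace H3

variable (h : H3 G a b c)
include h

theorem I2 (hb : b ∣ c) (hab : a < b) (hx : ι(x) = a) (hn : ¬ IsPi {p | p ∣ b} (N x)) :
    Group.IsSolvable G := by
  have all : ∀ y : G, ι(y) = b → c = a * b ∧ ncl(x) ≤ 𝓒₁(y) := fun y hy =>
    (h.dich' hb hab hx hy).resolve_left hn
  have ec : c = a * b := let ⟨y, _, hy⟩ := h.xb; (all y hy).1
  have a0 : 0 < a := by have := h.a1; omega
  have b0 : 0 < b := by have := h.b1; omega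
  simp only [IsPi, not_forall] at hn
  obtain ⟨p, hp, d, pb⟩ := hn
  replace pb : ¬ p ∣ b := pb
  have pa : p ∣ a := ((Nat.Prime.dvd_mul hp).1
    (ec ▸ h.dvd_c hb hp (d.trans (card_subgroup_dvd_card _)))).resolve_right pb
  obtain ⟨y, yX, oy, -, hy'⟩ := exists_zc' hp ncl(x) (d.trans (card_dvd (N_le_ncl x))) (isPi_bot _)
  have hy := h.zB hp pa oy hy'
  have EX : ncl(y) ≤ ncl(x) := ncl_le fun g => normalClosure_normal.conj_mem _ yX g
  have EB : ∀ y' : G, ι(y') = b → ncl(y) ≤ 𝓒₁(y') := fun y' e => EX.trans (all y' e).2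
  have Ec : IsMulCommutative ncl(y) := comm_iff_le_cent.2 (ncl_le fun g =>
    le_cent1_iff.1 (EB _ ((ind_conj' g y).trans hy)))
  have Ep : IsPi {p} ncl(y) := (core_pi {p} ncl(y)).of_le (ncl_le fun g =>
    conj_mem_of_norm (norm_core _ (top_le_norm _ ⊤)) (mem_top g)
      (IsPi.le_core_of_nil (isPi_of_card_eq hp (by rw [Nat.card_zpowers, oy]))
        (zpowers_le.2 (mem_ncl y)) (nil_of_comm Ec) (mem_zpowers y)))
  have Eb : (♯ncl(y)).Coprime b := Ep.nat.coprime ((piNat_compl_iff hp).2 pb)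
  have EA : ∀ x' : G, ι(x') = a → ncl(y) ≤ 𝓒₁(x') := fun x' e => by
    obtain ⟨u, -, ou, e1, e2⟩ := h.ppA e
    rw [← e2]
    by_cases e3 : IsPi {p | p ∣ b} (N u)
    · have := ncl_pi (h.ord_pi ou e3 (e1 ▸ h.cop_a)) e3
      exact le_cent1_iff.2 (cent_of_norm_cop (top_le_norm _ _) (top_le_norm _ _)
        (this.nat.coprime (piNat_of_coprime Eb)) (mem_ncl u))
    · exact ncl_le fun g => mem_cent1_symm.1 (((h.dich' hb hab e1 ((ind_conj' g y).trans hy)).resolve_left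
        e3).2 (mem_ncl u))
  set C := 𝓒(ncl(y)) with hC
  haveI : C.Normal := normal_of_top_le_norm (norm_cent (top_le_norm _ ⊤))
  have le0 : C ≤ 𝓒₁(y) := cent_le_cent1 (mem_ncl y)
  have tC : ∀ u, u ∉ C → ι(u) = c := fun u hu => by
    rcases h.t u fun e => hu (e ▸ one_mem _) with e | e | e
    exacts [absurd (le_cent1_iff.1 (EA u e)) hu, absurd (le_cent1_iff.1 (EB u e)) hu, e]
  have V : ∀ x' v : G, ι(x') = a → v ∈ 𝓒₁(x') → (orderOf x').Coprime (orderOf v) → v ∈ C := by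
    intro x' v e hv hc
    refine le_cent1_iff.1 (le_cent_rel (EA x' e) (top_le_norm _ _) hv ?_)
    rcases h.relA e hv hc with e1 | e1
    · simp [e1]
    · rwa [Nat.eq_of_mul_eq_mul_right a0 (e1.trans (ec.trans (mul_comm a b)))]
  obtain ⟨q, hq, qb⟩ := Nat.exists_prime_and_dvd h.b1.ne'
  have bC : b ∣ C.index := hy ▸ index_dvd_of_le le0
  have hbq : PiNat {q} b := fun r hr e => by
    by_contra rq
    obtain ⟨x', ox, e1⟩ := h.exA hb hq qb
    rcases (Nat.Prime.dvd_mul hr).1 (e.trans (bC.trans (index_dvd_rel C 𝓒₁(x')))) with e2 | e2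
    · obtain ⟨v, hv, h2, j, ov⟩ := exists_elt hr e2
      exact h2 (V x' v e1 hv (cop_pp hq hr (Ne.symm rq) (pp_of_prime ox) ov))
    · exact not_dvd_of_coprime hr h.cop (e1 ▸ e2) e
  have qa : PiNat {q}ᶜ a := (piNat_compl_iff hq).2 fun e => not_dvd_of_coprime hq h.cop e qb
  have idx : PiNat {q} C.index := pidx_of C fun r u j hr rq ou => by
    by_contra hu
    have e := tC u hu
    have k : ∀ z ∈ 𝓒₁(u), orderOf z = q → ι(z) ≠ a := fun z hz oz e1 =>
      hu (V z u e1 (mem_cent1_symm.1 hz) (cop_pp hq hr rq.symm (pp_of_prime oz) ou))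
    obtain ⟨t0, h0, i, o0⟩ := exists_elt' hq (qb.trans bC)
    obtain ⟨t, ht, ot⟩ := exists_orderOf_eq hq (card_eq_of_ind ((tC t0 h0).trans e.symm) ▸
      dvd_cent_of_pp o0 fun e => h0 (e ▸ one_mem _))
    have l1 := (h.mxC e).le ht (cop_pp hr hq rq ou (pp_of_prime ot))
    rcases h.t t (ne_one_of_prime hq ot) with e1 | e1 | e1
    · exact k t ht ot e1
    · have tK := mem_pcore hq (pp_of_prime ot) (e1 ▸ hbq)
      haveI := center_normal (pCore q G)
      have pK := pcore_pi (G := G) hq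
      obtain ⟨z, hz, oz, -, h2⟩ := exists_zc' hq 𝓩(pCore q G) ((pK.inf_left _).dvd_card
        (pK.center_ne_bot (ne_bot_of_mem tK (ne_one_of_prime hq ot)))) (isPi_bot _)
      refine k z (le_cent_rel (H := 𝓒₁(t)) (inf_le_right.trans (cent_le_cent1 tK))
        (top_le_norm _ _) (mem_cent1_symm.1 ht) ?_ hz) oz (h.zA hq qb (qb.trans hb) oz h2)
      have e2 := relIndex_mul_index l1
      rw [e1, e, ec] at e2
      rw [Nat.eq_of_mul_eq_mul_right b0 e2]
      exact (pK.inf_left _).nat.coprime qa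
    · obtain ⟨z, hz, oz, h2⟩ := exists_zc1 hq (pp_of_prime ot) (ne_one_of_prime hq ot)
      exact k z ((eq_of_ind l1 (e.trans e1.symm)).ge hz) oz (h.zA hq qb (qb.trans hb) oz h2)
  by_cases hpa : PiNat {p} a
  · refine CChar.CharBurn.isSolvable_of_primes (p := p) (q := q) fun r hr d => ?_
    exact ((Nat.Prime.dvd_mul hr).1 (ec ▸ h.dvd_c hb hr d)).imp (hpa r hr) (hbq r hr)
  simp only [PiNat, not_forall] at hpa
  obtain ⟨r, hr, ra, rp⟩ := hpa
  obtain ⟨z, oz, hz'⟩ := exists_zc hr (ra.trans h.dvdG_a)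
  have hz := h.zB hr ra oz hz'
  have W : ∀ y' g : G, C ≤ 𝓒₁(y') → g ∈ 𝓒₁(y') → (orderOf g).Coprime (orderOf y') →
      (ι(g) = b ∨ ι(g) = c) → 𝓒₁(g) ≤ 𝓒₁(y') := by
    rintro y' g hle hg hc (e | e)
    · refine relIndex_eq_one.1 ((h.relB e (mem_cent1_symm.1 hg) hc).resolve_right fun e1 => ?_)
      have e2 := Nat.eq_of_mul_eq_mul_right b0 (e1.trans ec)
      exact h.a1.ne' ((idx.of_dvd (e2 ▸ (relIndex_anti hle _).trans
        (relIndex_dvd_index_of_normal _ _))).eq_one qa)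
    · exact (h.mxC e).le (mem_cent1_symm.1 hg) hc
  have zC : 𝓒₁(z) ≤ C := fun k hk => le_cent1_iff.1 (ncl_le fun g => mem_cent1_symm.1 (W _ z
    (cent_le_cent1 (normalClosure_normal.conj_mem _ (mem_ncl y) g))
    (mem_cent1_symm.1 (EB z hz (normalClosure_normal.conj_mem _ (mem_ncl y) g)))
    (by rw [show orderOf (g * y * g⁻¹) = orderOf y from (MulAut.conj g).orderOf_eq y, oz, oy]
        exact (Nat.coprime_primes hr hp).2 rp) (Or.inl hz) hk))
  have e1 := eq_of_ind (zC.trans le0) (hz.trans hy.symm)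
  have e2 : C = 𝓒₁(y) := le_antisymm le0 (e1 ▸ zC)
  have iC : C.index = b := e2 ▸ hy
  have W1 : ∀ g ∈ C, (orderOf g).Coprime p → (ι(g) = b ∨ ι(g) = c) → 𝓒₁(g) ≤ C :=
    fun g hg hc e => e2 ▸ W y g le0 (le0 hg) (oy ▸ hc) e
  have W2 : ∀ g ∈ C, ∀ j, orderOf g = p ^ j → (ι(g) = b ∨ ι(g) = c) → 𝓒₁(g) ≤ C :=
    fun g hg j hc e => e2 ▸ e1 ▸ W z g (e2.le.trans e1.ge) (e1.ge (le0 hg))
      (cop_pp hp hr (Ne.symm rp) hc (pp_of_prime oz)) e
  refine solv_of_pidx C (solv_of_nil (ito (n := a) fun g hg => ?_)) idx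
  by_cases g1 : g = 1
  · exact Or.inl (rel_one g1)
  obtain ⟨u, hu, v, hv, e3, ⟨j, ou⟩, ov, e4⟩ := exists_parts hp g
  have k : (ι(g) = b ∨ ι(g) = c) → 𝓒₁(g) ≤ C := fun e => by
    by_cases u1 : u = 1
    · rw [u1, one_mul] at e3
      exact W1 g hg (e3 ▸ ov) e
    by_cases v1 : v = 1
    · rw [v1, mul_one] at e3
      exact W2 g hg j (e3 ▸ ou) e
    rcases h.t u u1 with e5 | e5
    swap
    · exact (cent_le_zp hu).trans (W2 u (zpowers_le.2 hg hu) j ou e5)
    rcases h.t v v1 with e6 | e6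
    swap
    · exact (cent_le_zp hv).trans (W1 v (zpowers_le.2 hg hv) ov e6)
    rcases e with e | e
    · exact absurd (e ▸ e5 ▸ index_dvd_of_le (cent_le_zp hu)) h.nab
    · exact absurd e (h.not_inf_A hb hab e5 e6 e4)
  rcases h.t g g1 with e | e | e
  · exact Or.inr (by rw [rel_cop (by rw [e, iC]; exact h.cop), e])
  · exact Or.inl (relIndex_eq_one.2 (eq_of_le_idx (k (Or.inl e)) (by rw [e, iC])).ge)
  · have := relIndex_mul_index (k (Or.inr e))
    rw [iC, e, ec] at this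
    exact Or.inr (Nat.eq_of_mul_eq_mul_right b0 this)

theorem caseI' (hb : b ∣ c) (hab : a < b) : Group.IsSolvable G := by
  by_cases h1 : ∀ x : G, ι(x) = a → IsPi {p | p ∣ b} (N x)
  · obtain ⟨q, hq, qb⟩ := Nat.exists_prime_and_dvd h.b1.ne'
    by_cases e : PiNat {q} b
    · exact h.I1b hb hab h1 hq e
    simp only [PiNat, not_forall] at e
    obtain ⟨r, hr, rb, rq⟩ := e
    exact h.I1a hb hab h1 hq hr (Ne.symm rq) qb rb
  · push Not at h1
    obtain ⟨x, hx, hn⟩ := h1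
    exact h.I2 hb hab hx hn

theorem caseI (hb : b ∣ c) : Group.IsSolvable G := by
  rcases lt_trichotomy a b with e | e | e
  · exact h.caseI' hb e
  · exact absurd (e ▸ dvd_rfl) h.nab
  · exact caseI' (a := b) (b := a) ⟨h.z, fun x e => by have := h.t x e; tauto, h.cop.symm, hb,
      fun e => h.ncb (e ▸ dvd_rfl), h.xb, h.xa, h.xc⟩ h.ac e

section II

variable (hb : ¬ b ∣ c)
include hb

theorem mxB (hy : ι(y) = b) : Mx y := fun w e => eq_of_ind e (by
  have d := hy ▸ index_dvd_of_le e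
  rw [hy]
  exact (h.dnB d).resolve_right fun e => hb (e ▸ d))

theorem cc_of_not (hp : p.Prime) (oy : orderOf y = p) (hy : ι(y) = b) (hn : ¬ IsPi {p} 𝓒₁(y)) :
    CC 𝓒₁(y) := by
  simp only [IsPi, not_forall] at hn
  obtain ⟨q, hq, d, qp⟩ := hn
  obtain ⟨u, hu, ou⟩ := exists_orderOf_eq hq d
  have c1 : (orderOf u).Coprime p := ou ▸ (Nat.coprime_primes hq hp).2 qp
  have l1 := (h.mxB hb hy).le hu (oy ▸ c1.symm)
  have cm := (h.mxB hb hy).comm hp (pp_of_prime oy)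
    (eq_of_ind l1 (hy.trans (h.upB hy l1 (ne_one_of_prime hq ou)).symm)).symm c1
  refine ⟨ne_bot_of_mem (mem_cent1_self y) (ne_one_of_prime hp oy), fun v hv v1 => ?_⟩
  have l2 := le_cent1_iff.2 (comm_iff_le_cent.1 cm hv)
  exact (eq_of_ind l2 (hy.trans (h.upB hy l2 v1).symm)).symm

variable (hp : p.Prime) (hy : ι(y) = b) (hP : IsPi {p} 𝓒₁(y))
include hp hy hP

theorem pa : PiNat {p} a := hP.nat.of_dvd (h.cop.dvd_of_dvd_mul_right
  (by rw [← hy, card_mul_index]; exact h.dvdG_a))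

theorem pda : p ∣ a := by
  obtain ⟨q, hq, d⟩ := Nat.exists_prime_and_dvd h.a1.ne'
  exact (show q = p from h.pa hb hp hy hP q hq d) ▸ d

theorem piB (hu : ι(u) = b) : IsPi {p} 𝓒₁(u) := by
  rw [isPi_iff, card_eq_of_ind (hu.trans hy.symm)]; exact hP

theorem npC {j : ℕ} (ou : orderOf u = p ^ j) : ι(u) ≠ c := fun e => by
  have hn : ¬ IsPi {p} 𝓒₁(u) := fun h1 => hb (by
    have e1 := 𝓒₁(u).card_mul_index.trans 𝓒₁(y).card_mul_index.symm
    rw [e, hy] at e1
    refine Nat.Coprime.dvd_of_dvd_mul_left (((piNat_compl_iff hp).2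
      (not_dvd_of_coprime hp h.cop (h.pda hb hp hy hP))).coprime' h1.nat) ?_
    rw [e1]; exact Dvd.intro_left _ rfl)
  simp only [IsPi, not_forall] at hn
  obtain ⟨r, hr, d, rp⟩ := hn
  obtain ⟨l, hl, ol⟩ := exists_orderOf_eq hr d
  obtain ⟨z, hz, oz, h2⟩ := exists_zc1 hp ou (h.n1C e)
  exact rp ((h.piB hb hp hy hP (h.zB hp (h.pda hb hp hy hP) oz h2)).orderOf (mem_cent1_symm.1
    ((h.mxC e).le hl (cop_pp hp hr (Ne.symm rp) ou (pp_of_prime ol)) hz)) r hr (ol ▸ dvd_rfl))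

theorem pK {j : ℕ} (ou : orderOf u = p ^ j) (hu : ι(u) ≠ b) : u ∈ pCore p G := by
  by_cases u1 : u = 1
  · exact u1 ▸ one_mem _
  rcases h.t u u1 with e | e | e
  exacts [mem_pcore hp ou (e ▸ h.pa hb hp hy hP), absurd e hu, absurd e (h.npC hb hp hy hP ou)]

theorem cc_of_core (oy : orderOf y = p) (hO : pCore p G = ⊥) : CC 𝓒₁(y) := by
  haveI := Fact.mk hp
  obtain ⟨x, x1, hx⟩ := h.xa
  obtain ⟨r, hr, hM⟩ := exists_core_ne_bot (kaz hp (hx ▸ h.pa hb hp hy hP))
    (ne_bot_of_mem (mem_ncl x) x1)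
  have pM := core_pi {r} ncl(x)
  have nM := normal_of_top_le_norm (norm_core {r} (top_le_norm ncl(x) ⊤))
  generalize 𝓞({r}, ncl(x)) = M at hM pM nM
  have rp : p ≠ r := by
    rintro rfl
    exact hM (BG.eq_bot_mono (Core.le_pCore (pM.isPGroup hp)) hO)
  have tB : ∀ u ∈ 𝓒₁(y), u ≠ 1 → ι(u) = b := fun u hu u1 => by
    by_contra hn
    obtain ⟨j, ou⟩ := (hP.orderOf hu).exists_pow hp (orderOf_pos u).ne'
    exact u1 (by simpa [hO] using h.pK hb hp hy hP ou hn)
  refine ⟨ne_bot_of_mem (mem_cent1_self y) (ne_one_of_prime hp oy), fun u hu u1 => ?_⟩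
  refine eq_of_ind ?_ ((tB u hu u1).trans hy.symm)
  obtain ⟨v, hv, ov⟩ := exists_pp u1
  have vB := zpowers_le.2 hu hv
  have le : zpowers v ⊔ zpowers y ≤ 𝓒₁(y) := sup_le (zpowers_le.2 vB) (zpowers_le.2 (mem_cent1_self y))
  have cy : IsCyclic (zpowers v ⊔ zpowers y : Subgroup G) := by
    by_contra hn
    refine hM (eq_bot_iff.2 (coprime_abelian_gen_cent1 (comm_sup (comm_of_cyclic (cyc_zpowers v))
      (comm_of_cyclic (cyc_zpowers y)) (cent_zpowers y ▸ zpowers_le.2 vB)) hn (top_le_norm _ _)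
      (pM.coprime_ne (hP.of_le le) rp.symm) fun k hk k1 => ?_))
    exact (BG.inf_eq_bot_of_cop (pM.coprime_ne (h.piB hb hp hy hP (tB k (le hk) k1)) rp.symm)).le
  have := eq_of_cyc_of_card cy le_sup_left le_sup_right (by
    rw [Nat.card_zpowers, Nat.card_zpowers, oy]
    exact hP.orderOf vB _ ov dvd_rfl)
  rw [← cent_zpowers y, ← this, cent_zpowers]
  exact cent_le_zp hv

theorem IIb (hO : pCore p G ≠ ⊥) : Group.IsSolvable G := by
  haveI := Fact.mk hp
  have pK := pcore_pi (G := G) hp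
  have pa := h.pa hb hp hy hP
  have pb : PiNat {p}ᶜ b := (piNat_compl_iff hp).2 (not_dvd_of_coprime hp h.cop (h.pda hb hp hy hP))
  set K := pCore p G with hK
  have hS : Syl p 𝓒₁(y) ⊤ := Hall.mk' le_top hP (by rwa [relIndex_top_right, hy])
  have KB : K ≤ 𝓒₁(y) := hS.le_of_norm' pK le_top (top_le_norm _ _)
  obtain ⟨V, VK, V1, nV, mV⟩ := exists_minNormal (top_le_norm K ⊤) hO
  haveI := normal_of_top_le_norm nV
  have tV : ∀ v ∈ V, v ≠ 1 → ι(v) = b := fun v hv v1 => by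
    obtain ⟨j, ov⟩ := (pK.orderOf (VK hv)).exists_pow hp (orderOf_pos v).ne'
    rcases h.t v v1 with e | e | e
    swap
    · exact e
    swap
    · exact absurd e (h.npC hb hp hy hP ov)
    have lt := comm_lt_of_nil (hP.isNilpotent hp) le_rfl (VK.trans KB) (top_le_norm _ _) V1
    have k : ∀ v', IsConj v v' → v' * v⁻¹ ∈ ⁅𝓒₁(y), V⁆ := fun v' e1 => by
      obtain ⟨g, rfl⟩ := isConj_iff.1 e1
      obtain ⟨s, hs, t, ht, rfl⟩ := exists_mul (A := 𝓒₁(y)) (B := 𝓒₁(v))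
        (by rw [hy, e]; exact h.cop.symm) g
      rw [show s * t * v * (s * t)⁻¹ = s * (t * v * t⁻¹) * s⁻¹ by group, mem_cent1.1 ht,
        mul_inv_cancel_right]
      exact commutator_mem_commutator hs hv
    have le : N v ≤ ⁅V, 𝓒₁(y)⁆ := (closure_le _).2 (by
      rintro _ ⟨s, t, h1, h2, rfl⟩
      rw [comm_symm, show s * t⁻¹ = s * v⁻¹ * (t * v⁻¹)⁻¹ by group]
      exact mul_mem (k s h1) (inv_mem (k t h2)))
    exact absurd (mV _ (le.trans lt.le) (h.N_ne v1) (top_le_norm _ _) ▸ le) (not_le_of_gt lt)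
  have fpf : ∀ w : G, w ≠ 1 → (orderOf w).Coprime p → V ⊓ 𝓒₁(w) = ⊥ := fun w w1 ow => by
    by_contra hn
    obtain ⟨v, hv, v1⟩ := exists_ne_one hn
    exact w1 (orderOf_eq_one_iff.1 (((h.piB hb hp hy hP (tV v hv.1 v1)).orderOf
      (mem_cent1_symm.1 hv.2)).eq_one ((piNat_compl_iff_coprime hp).2 ow)))
  have nB : ∀ w : G, w ≠ 1 → (orderOf w).Coprime p → ι(w) = a ∨ ι(w) = c := fun w w1 ow => by
    rcases h.t w w1 with e | e | e
    · exact Or.inl e
    · exact absurd (orderOf_eq_one_iff.1 (((h.piB hb hp hy hP e).orderOf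
        (mem_cent1_self w)).eq_one ((piNat_compl_iff_coprime hp).2 ow))) w1
    · exact Or.inr e
  by_cases hc : PiNat {p} c
  · refine solv_of_pidx (p := p) _ Core.isSolvable_solvRad (pidx_of _ fun r u j hr rp ou => ?_)
    by_cases u1 : u = 1
    · exact u1 ▸ one_mem _
    rcases nB u u1 (ou ▸ ((Nat.coprime_primes hr hp).2 rp).pow_left j) with e | e
    exacts [kaz_mem hp (e ▸ pa), kaz_mem hp (e ▸ hc)]
  simp only [PiNat, not_forall] at hc
  obtain ⟨r, hr, rc, rp⟩ := hc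
  have rG : r ∣ Nat.card G := let ⟨u, e⟩ := h.xc; rc.trans (e ▸ index_dvd_card _)
  have rb : r ∣ b := ((Nat.Prime.dvd_mul hr).1 (𝓒₁(y).card_mul_index ▸ rG)).resolve_left
    (fun e => rp (hP r hr e)) |>.trans hy.dvd
  obtain ⟨x, ox, hx'⟩ := exists_zc hr rG
  have hx := h.zA hr rb rc ox hx'
  have x1 := h.n1A hx
  -- every conjugate of `C(x)` lies in `C(x) K`
  have key : ∀ g, cj g 𝓒₁(x) ≤ 𝓒₁(x) ⊔ K := fun g => by
    rw [cj_cent1]
    have e1 := (ind_conj' g x).trans hx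
    have o1 : orderOf (g * x * g⁻¹) = r := ox ▸ (MulAut.conj g).orderOf_eq x
    generalize g * x * g⁻¹ = x' at e1 o1
    set f := QuotientGroup.mk' K
    have mK : ∀ s, s ∈ K ↔ f s = 1 := fun s => (QuotientGroup.eq_one_iff s).symm
    have cm : IsMulCommutative (zpowers (f x) ⊔ zpowers (f x') : Subgroup (G ⧸ K)) := by
      refine comm_sup (comm_of_cyclic (cyc_zpowers _)) (comm_of_cyclic (cyc_zpowers _)) ?_
      rw [cent_zpowers, zpowers_le, mem_cent1]
      have := (mK _).1 (kf hp (hx ▸ pa) (e1 ▸ pa))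
      simpa [mul_inv_eq_iff_eq_mul] using this
    set L := (zpowers (f x) ⊔ zpowers (f x')).comap f
    have dL : ∀ s ∈ L, ∀ t ∈ L, s * t * s⁻¹ * t⁻¹ ∈ K := fun s hs t ht => by
      rw [mK, map_mul, map_mul, map_mul, mem_cent.1 (comm_iff_le_cent.1 cm ht) _ hs]
      simp
    have xL : x ∈ L := mem_sup_left (mem_zpowers _)
    have xL' : x' ∈ L := mem_sup_right (mem_zpowers _)
    obtain ⟨E, hE, le⟩ := syl_superset hr (K := zpowers x)
      (isPi_of_card_eq hr (by rw [Nat.card_zpowers, ox])) (zpowers_le.2 xL)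
    have cE : IsMulCommutative E := comm_iff_le_cent.2 fun s hs => mem_cent.2 fun t ht => by
      have : t * s * t⁻¹ * s⁻¹ ∈ K ⊓ E := mem_inf.2 ⟨dL t (hE.le ht) s (hE.le hs),
        mul_mem (mul_mem (mul_mem ht hs) (inv_mem ht)) (inv_mem hs)⟩
      rw [BG.inf_eq_bot_of_cop (pK.coprime_ne hE.pi (Ne.symm rp)), mem_bot] at this
      simpa [mul_inv_eq_iff_eq_mul] using this
    have cy := abelian_regular_cyclic cE V1 (top_le_norm _ _) fun s hs s1 =>
      fpf s s1 ((piNat_compl_iff_coprime hp).1 ((hE.pi.ne rp).orderOf hs))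
    obtain ⟨k, hk, le'⟩ := hE.syl_conj_le hr (K := zpowers x')
      (isPi_of_card_eq hr (by rw [Nat.card_zpowers, o1])) (zpowers_le.2 xL')
    have e2 := eq_of_cyc_of_card cy le' le (by rw [card_cj, Nat.card_zpowers, Nat.card_zpowers, ox, o1])
    have xs : x ∈ 𝓒₁(x) ⊔ K := mem_sup_left (mem_cent1_self x)
    have xs' : x' ∈ 𝓒₁(x) ⊔ K := by
      rw [show x' = (k * x' * k⁻¹ * x'⁻¹)⁻¹ * (k * x' * k⁻¹) by group]
      exact mul_mem (mem_sup_right (inv_mem (dL k hk x' xL'))) (zpowers_le.2 xs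
        (e2.le (conj_mem_cj.2 (mem_zpowers x'))))
    have kL : k ∈ 𝓒₁(x) ⊔ K := by
      have : L ≤ ((𝓒₁(x) ⊔ K).map f).comap f := comap_mono (sup_le
        (zpowers_le.2 (mem_map_of_mem f xs)) (zpowers_le.2 (mem_map_of_mem f xs')))
      rw [comap_map_eq, QuotientGroup.ker_mk', sup_assoc, sup_idem] at this
      exact this hk
    rw [← cent_zpowers x', ← cj_inv_cj k 𝓒(zpowers x'), cj_cent, e2, cent_zpowers]
    exact cj_le_of_mem (inv_mem kL) le_sup_left
  set H := 𝓒₁(x)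
  haveI nH : (H ⊔ K).Normal := normal_of_top_le_norm fun g _ => mem_norm_of_cj_le (by
    rw [cj_sup, cj_of_mem_norm (top_le_norm K ⊤ (mem_top g))]; exact sup_le (key g) le_sup_right)
  have hH : PiNat {p}ᶜ ((K ⊓ H).relIndex H) := (piNat_compl_iff hp).2 fun e => by
    obtain ⟨u, hu, h2, j, ou⟩ := exists_elt hp e
    exact h2 ⟨h.pK hb hp hy hP ou fun e => rp ((h.piB hb hp hy hP e).orderOf
      (mem_cent1_symm.1 hu) r hr (ox ▸ dvd_rfl)), hu⟩
  haveI := Fintype.ofFinite G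
  obtain ⟨U, hU⟩ := PF.exists_sdprod (K := K ⊓ H) (L := H) (PF.nrm_of_le_normalizer inf_le_right
    (norm_inf (top_le_norm _ _) (le_norm_self H))) ((pK.inf_left H).nat.coprime hH)
  have pU : IsPi {p}ᶜ U := by rw [isPi_iff, ← hU.relIndex]; exact hH
  have eU : U ⊔ K = H ⊔ K := by rw [← hU.sup', sup_assoc, sup_eq_right.2 (inf_le_left : K ⊓ H ≤ K)]
  have iH : PiNat {p} (H ⊔ K).index := pa.of_dvd (hx ▸ index_dvd_of_le le_sup_left)
  have iU : PiNat {p} U.index := by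
    rw [← relIndex_mul_index hU.le_right, hU.relIndex_right]
    exact (pK.inf_left H).nat.mul (hx ▸ pa)
  have k : ∀ w ∈ U, ∃ j, PiNat {p} j ∧ 𝓒₁(w).relIndex U * U.index = j * ι(w) := fun w hw => by
    refine ⟨U.relIndex 𝓒₁(w), ?_, by
      rw [← inf_relIndex_right, relIndex_mul_index inf_le_right, ← inf_relIndex_right U, inf_comm U,
        relIndex_mul_index inf_le_left]⟩
    have e1 := disjoint_sup_cent (A := zpowers w) (K := U) (N := K) (le_norm_of_le (zpowers_le.2 hw))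
      (top_le_norm _ _) (top_le_norm _ _) (pU.inf_eq_bot' pK)
    rw [cent_zpowers] at e1
    rw [← inf_relIndex_right]
    refine PiNat.relIndex_trans (K := (U ⊔ K) ⊓ 𝓒₁(w)) (inf_le_inf_right _ le_sup_left) inf_le_right
      ?_ ?_
    · have := (hall_sup_normal (π := {p}ᶜ) (pU.inf_left 𝓒₁(w)) (N := K ⊓ 𝓒₁(w))
        (inf_le_right.trans (norm_inf (top_le_norm _ _) (le_norm_self _)))
        (by rw [compl_compl]; exact pK.inf_left _)).idx
      rwa [compl_compl, ← e1] at this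
    · rw [inf_relIndex_right, eU]
      exact iH.of_dvd (relIndex_dvd_index_of_normal _ _)
  have nU : Group.IsNilpotent U := by
    have oU : ∀ w ∈ U, (orderOf w).Coprime p := fun w hw =>
      (piNat_compl_iff_coprime hp).1 (pU.orderOf hw)
    have kA : ∀ w ∈ U, ι(w) ≠ c → 𝓒₁(w).relIndex U = 1 := fun w hw e => by
      by_cases w1 : w = 1
      · exact rel_one w1
      obtain ⟨j, h1, h2⟩ := k w hw
      rw [(nB w w1 (oU w hw)).resolve_right e] at h2
      exact ((h1.mul pa).of_dvd (Dvd.intro _ h2)).eq_one (pU.relIndex _)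
    have kC : ∀ w ∈ U, ∀ w' ∈ U, ι(w) = c → ι(w') = c → 𝓒₁(w).relIndex U ∣ 𝓒₁(w').relIndex U := by
      intro w hw w' hw' e e'
      obtain ⟨j, h1, h2⟩ := k w hw
      obtain ⟨j', h1', h2'⟩ := k w' hw'
      refine ((pU.relIndex _).coprime' h1).dvd_of_dvd_mul_right ⟨j', ?_⟩
      refine Nat.eq_of_mul_eq_mul_right (Nat.pos_of_ne_zero (index_ne_zero_of_finite (H := U))) ?_
      rw [e] at h2
      rw [e'] at h2'
      calc _ = j * (𝓒₁(w').relIndex U * U.index) := by ring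
        _ = j' * (𝓒₁(w).relIndex U * U.index) := by rw [h2, h2']; ring
        _ = _ := by ring
    by_cases e : ∃ w ∈ U, ι(w) = c
    · obtain ⟨w, hw, e⟩ := e
      refine ito (n := 𝓒₁(w).relIndex U) fun v hv => ?_
      by_cases e1 : ι(v) = c
      · exact Or.inr (Nat.dvd_antisymm (kC v hv w hw e1 e) (kC w hw v hv e e1))
      · exact Or.inl (kA v hv e1)
    · exact ito (n := 1) fun v hv => Or.inl (kA v hv fun e1 => e ⟨v, hv, e1⟩)
  refine solv_of_pidx (H ⊔ K) ?_ iH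
  rw [← eU]
  exact solv_sup (solv_of_nil nU) (pK.isSolvable hp) (top_le_norm _ _)

end II

end H3

end CA.R3
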