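import Cfsg.Agent.Lib.Cit.CtG5
import Cfsg.Agent.Lib.Grp.H4Cls

/-! Centreless groups with at most three class sizes greater than one. -/

set_option autoImplicit false
set_option linter.unusedSectionVars false

namespace CA.R3

open Subgroup Cfsg CA.BG CA.H7Cop CA.H7Ito CA.Ca
open scoped commutatorElement

variable {G : Type*} [Group G] [Finite G] {B H K R : Subgroup G} {g u v w x y z : G}
  {p q r s a b c : ℕ}

theorem exists_conj_cent (hp : p.Prime) (hR : IsPi {p} R) (h : ¬ p ∣ ι(x)) :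
    ∃ g, g * x * g⁻¹ ∈ 𝓒(R) := by
  haveI := Fact.mk hp
  obtain ⟨P, hP⟩ := (hR.isPGroup hp).exists_le_sylow
  obtain ⟨g, hg⟩ := CS1.exists_conj_mem_centralizer P h
  exact ⟨g, cent_anti hP hg⟩

theorem solv_of_der (h : Group.IsSolvable (⁅H, H⁆ : Subgroup G)) : Group.IsSolvable H := by
  refine solv_ext (commutator H) ?_ (isSolvable_of_comm fun s t => mul_comm (G := Abelianization H) s t)
  rw [← map_subtype_commutator] at h
  exact solvable_of_solvable_injective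
    (f := ((commutator H).equivMapOfInjective _ H.subtype_injective).toMonoidHom) (MulEquiv.injective _)

theorem CC.cent_le (h : CC B) : 𝓒(B) ≤ B :=
  let ⟨u, hu, u1⟩ := exists_ne_one h.ne
  (cent_le_cent1 hu).trans (h.c u hu u1).le

theorem CC.solv_norm (h : CC B) (hc : IsCyclic B) : Group.IsSolvable 𝓝(B) :=
  solv_of_der (solv_of_le (solv_of_comm h.comm) ((H8PG.der_cent_cyc hc le_rfl).trans h.cent_le))

theorem CC.map (h : CC B) (M : Subgroup G) [M.Normal] (hM : IsPi (primesOf B)ᶜ M) :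
    CC (B.map (QuotientGroup.mk' M)) ∧ ♯(B.map (QuotientGroup.mk' M)) = ♯B := by
  have d := (isPi_primesOf B).inf_eq_bot hM
  have k : ∀ u ∈ B, QuotientGroup.mk' M u = 1 → u = 1 := fun u hu e =>
    mem_bot.1 (d.le ⟨hu, (QuotientGroup.eq_one_iff u).1 e⟩)
  refine ⟨⟨?_, ?_⟩, ?_⟩
  · obtain ⟨u, hu, u1⟩ := exists_ne_one h.ne
    exact ne_bot_of_mem (mem_map_of_mem _ hu) fun e => u1 (k u hu e)
  · rintro _ ⟨u, hu, rfl⟩ u1
    have u1' : u ≠ 1 := fun e => u1 (by simp [e])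
    refine le_antisymm (fun t ht => ?_) ?_
    · obtain ⟨g, rfl⟩ := QuotientGroup.mk'_surjective M t
      obtain ⟨n, hn, e⟩ := Coprime.exists_mul_mem_centralizer (A := zpowers u) (N := M) (k := g)
        (top_le_norm _ _) (((isPi_primesOf B).of_le (zpowers_le.2 hu)).coprime hM)
        (Or.inl (solv_of_comm (comm_of_cyclic (cyc_zpowers u)))) fun t hu => by
          obtain ⟨j, rfl⟩ := hu
          rw [← QuotientGroup.eq_one_iff]
          change QuotientGroup.mk' M _ = 1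
          have := mem_cent1.1 (cent_le_zp (zpow_mem_zpowers _ j) ht)
          simp only [map_mul, map_inv, map_zpow, ← this]
          group
      rw [cent_zpowers, h.c u hu u1'] at e
      exact ⟨_, e, by rw [map_mul, show QuotientGroup.mk' M n = 1 from
        (QuotientGroup.eq_one_iff n).2 hn, one_mul]⟩
    · rintro _ ⟨v, hv, rfl⟩
      exact mem_cent1.2 (by rw [← map_mul, mem_cent1.1 ((h.c u hu u1').ge hv), map_mul])
  · refine (Nat.card_congr (Equiv.ofBijective ((QuotientGroup.mk' M).subgroupMap B)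
      ⟨(injective_iff_map_eq_one _).2 fun u e => Subtype.ext (k u u.2 (congrArg Subtype.val e)),
        MonoidHom.subgroupMap_surjective _ _⟩)).symm

namespace H3

variable (h : H3 G a b c) (hB : CC B) (iB : B.index = b)
include h hB iB

theorem ntA (hx : ι(x) = a) : ¬ TB B x := fun e => h.nab (by rw [← hx, hB.ind e, iB])
theorem ntC (hx : ι(x) = c) : ¬ TB B x := fun e => h.ncb (by rw [← hx, hB.ind e, iB])

theorem tyn (z1 : z ≠ 1) (hz : ¬ TB B z) : ι(z) = a ∨ ι(z) = c := by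
  rcases h.t z z1 with e | e | e
  · exact Or.inl e
  · obtain ⟨p, hp, d⟩ := exists_prime_dvd_card hB.ne
    refine absurd (hB.tb_of z1 hp ?_ d) hz
    rwa [Nat.eq_of_mul_eq_mul_right (ind_pos z) (show ♯𝓒₁(z) * ι(z) = ♯B * ι(z) by
      rw [card_mul_index, e, ← iB, card_mul_index])]
  · exact Or.inr e

theorem piAc (hx : ι(x) = a) : IsPi (primesOf B)ᶜ 𝓒₁(x) := hB.pi_of (h.n1A hx) (h.ntA hB iB hx)

theorem cardB : ♯B = a := by
  obtain ⟨x, -, hx⟩ := h.xa
  have e := 𝓒₁(x).card_mul_index.trans B.card_mul_index.symm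
  rw [hx, iB] at e
  exact Nat.dvd_antisymm (((isPi_primesOf B).coprime (h.piAc hB iB hx)).dvd_of_dvd_mul_left
    (e ▸ Dvd.intro _ rfl)) (h.cop.dvd_of_dvd_mul_right (e ▸ Dvd.intro_left _ rfl))

theorem cardA (hx : ι(x) = a) : ♯𝓒₁(x) = b :=
  Nat.eq_of_mul_eq_mul_right (m := a) (by have := h.a1; omega) (by
    rw [← hx, card_mul_index, hx, ← h.cardB hB iB, ← iB, mul_comm, card_mul_index])

theorem copB (hx : ι(x) = a) : ι(x).Coprime B.index := by rw [hx, iB]; exact h.cop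

theorem piB' : PiNat (primesOf B) a := h.cardB hB iB ▸ isPi_primesOf B

theorem dvd_b {k : ℕ} (hk : c = a * k) : k ∣ b := by
  obtain ⟨u, hu⟩ := h.xc
  have e := 𝓒₁(u).card_mul_index.trans B.card_mul_index.symm
  rw [hu, iB, h.cardB hB iB, hk, mul_left_comm] at e
  exact Dvd.intro_left _ (Nat.eq_of_mul_eq_mul_left (by have := h.a1; omega) e)

theorem IIa0 [B.Normal] : Group.IsSolvable G := by
  obtain ⟨x, -, hx⟩ := h.xa
  have pA := h.piAc hB iB hx
  have d := pA.inf_eq_bot' (isPi_primesOf B)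
  have ex := exists_mul (h.copB hB iB hx)
  have nil : Group.IsNilpotent 𝓒₁(x) := ito (n := c / a) fun w hw => by
    by_cases w1 : w = 1
    · exact Or.inl (rel_one w1)
    have le : 𝓒₁(w) ≤ 𝓒₁(x) := fun g hg => by
      obtain ⟨s, hs, t, ht, rfl⟩ := ex g
      have e : t * w * t⁻¹ * w⁻¹ = s⁻¹ * w * s * w⁻¹ := by
        calc _ = s⁻¹ * (s * t * w) * t⁻¹ * w⁻¹ := by group
          _ = _ := by rw [mem_cent1.1 hg]; group
      have h1 : t * w * t⁻¹ * w⁻¹ ∈ 𝓒₁(x) ⊓ B := mem_inf.2 ⟨by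
        rw [e]; exact mul_mem (mul_mem (mul_mem (inv_mem hs) hw) hs) (inv_mem hw), by
        rw [show t * w * t⁻¹ * w⁻¹ = t * (w * t⁻¹ * w⁻¹) by group]
        exact mul_mem ht (Normal.conj_mem inferInstance _ (inv_mem ht) w)⟩
      rw [d, mem_bot, mul_inv_eq_one, mul_inv_eq_iff_eq_mul] at h1
      by_cases t1 : t = 1
      · simpa [t1] using hs
      · exact absurd (mem_bot.1 (d.le ⟨hw, hB.mem_of_comm ht t1 h1.symm⟩)) w1
    have e := relIndex_mul_index le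
    rw [hx] at e
    rcases h.tyn hB iB w1 (hB.ntb (pA.orderOf hw)) with e1 | e1
    · exact Or.inl (relIndex_eq_one.2 (eq_of_ind le (e1.trans hx.symm)).ge)
    · exact Or.inr (by rw [← e1, ← e, Nat.mul_div_cancel _ (by have := h.a1; omega)])
  refine solv_top ?_
  rw [show (⊤ : Subgroup G) = 𝓒₁(x) ⊔ B from (eq_top_iff.2 fun g _ => by
    obtain ⟨s, hs, t, ht, rfl⟩ := ex g
    exact mul_mem (mem_sup_left hs) (mem_sup_right ht)).symm]
  exact solv_sup (solv_of_nil nil) (solv_of_comm hB.comm) (top_le_norm _ _)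

theorem le_two (hx : ι(x) = a) (h2 : ♯B ≤ 2) : 𝓒₁(x) ≤ 𝓞((primesOf B)ᶜ, ⊤) := by
  haveI : 𝓒₁(x).Normal := normal_of_index_eq_two (by
    have := h.a1; have := h.cardB hB iB; omega)
  exact le_core (h.piAc hB iB hx) le_top (top_le_norm _ _)

theorem IIa1 (hn : ¬ B.Normal) (hx : ι(x) = a) : x ∈ 𝓞((primesOf B)ᶜ, ⊤) := by
  by_contra hM
  obtain ⟨x', -, ox, hx', -⟩ := h.ppA hx
  obtain ⟨u, hu⟩ := h.xc
  refine hM (h.le_two hB iB hx (hB.big hn ox rfl (h.copB hB iB hx') (h.ntA hB iB hx')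
    (h.copB hB iB hx) (h.ntA hB iB hx) hM (δ := ♯𝓒₁(u))
    (one_lt_card_iff_ne_bot _ |>.2 (ne_bot_of_mem (mem_cent1_self u) (h.n1C hu)))
    (fun y hy y1 => ?_) fun s R hs sB pR R1 le => ?_) (mem_cent1_self x))
  · refine (card_eq_of_ind (hu.trans (Eq.symm ?_))).le
    have e := hB.c y hy y1
    refine (h.tyn hB iB (fun e => h.ntA hB iB hx ⟨x, ?_, h.n1A hx, IsConj.refl x⟩)
      (hB.ntb_mul (h.copB hB iB hx) (h.ntA hB iB hx) hM hy y1)).resolve_left fun e1 => hn ?_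
    · rw [eq_inv_of_mul_eq_one_left e]; exact inv_mem hy
    have h1 := card_N_dvd (b := x) (a := y) (by rw [e]; exact h.copB hB iB hx) (by rw [e1, hx])
    exact hB.normal_of_le (h.N_ne y1) (e ▸ le_c_of_coprime
      (by rw [e]; exact (h.copB hB iB hx).coprime_dvd_left h1))
  · obtain ⟨g, hg⟩ := exists_conj_cent hs pR (x := x') (by rwa [hx', ← h.cardB hB iB])
    refine ⟨g, ?_, hg⟩
    obtain ⟨w, hw, w1⟩ := exists_ne_one (pR.center_ne_bot R1)
    have ow : PiNat (primesOf B)ᶜ (orderOf w) := (pR.orderOf hw.1).mono fun t e e1 => sB (e ▸ e1.2)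
    have e := (h.tyn hB iB w1 (hB.ntb ow)).resolve_left fun e => hn (hB.normal_of (le hw.1)
      (fun e => hB.ntb ow ⟨w, e, w1, IsConj.refl w⟩) (h.copB hB iB e))
    rw [card_eq_of_ind (hu.trans e.symm)]
    exact card_dvd (sup_le (le_cent1_iff.2 hw.2) (zpowers_le.2 (cent_le_cent1 hw.1 hg)))

section b2

variable (hM : ∀ x : G, ι(x) = a → x ∈ piCore (primesOf B)ᶜ G)
include hM

theorem Mfacts : IsPi (primesOf B)ᶜ (piCore (primesOf B)ᶜ G) ∧ IsCyclic B ∧
    Group.IsNilpotent (piCore (primesOf B)ᶜ G) ∧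
    ∀ x : G, ι(x) = a → piCore (primesOf B)ᶜ G ≤ 𝓒₁(x) := by
  have pM : IsPi (primesOf B)ᶜ (piCore (primesOf B)ᶜ G) := core_top (G := G) _ ▸ core_pi _ _
  have d := pM.inf_eq_bot' (isPi_primesOf B)
  obtain ⟨x, x1, hx⟩ := h.xa
  obtain ⟨y, hy, y1⟩ := exists_ne_one hB.ne
  obtain ⟨u, hu, ou⟩ := exists_pp y1
  refine ⟨pM, abelian_regular_cyclic hB.comm (ne_bot_of_mem (hM x hx) x1) (top_le_norm _ _)
    fun y hy y1 => by rwa [hB.c y hy y1], Kegel.isNilpotent_of_fpf (top_le_norm _ ⊤ (mem_top u)) ou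
    (pow_orderOf_eq_one u) (by rwa [hB.c u (zpowers_le.2 hy hu) (ne_one_of_prime ou rfl)]),
    fun x hx => le_c_of_coprime (pM.nat.coprime' (hx ▸ h.piB' hB iB))⟩

theorem fin1 (hx : ι(x) = a) (hle : 𝓒₁(x) ≤ piCore (primesOf B)ᶜ G) : Group.IsSolvable G := by
  refine solv_top ?_
  rw [show (⊤ : Subgroup G) = B ⊔ piCore (primesOf B)ᶜ G from (eq_top_iff.2 fun g _ => by
    obtain ⟨s, hs, t, ht, rfl⟩ := exists_mul (h.copB hB iB hx) g
    exact mul_mem (mem_sup_right (hle hs)) (mem_sup_left ht)).symm]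
  exact solv_sup (solv_of_comm hB.comm) (solv_of_nil (h.Mfacts hB iB hM).2.2.1) (top_le_norm _ _)

theorem IIa2 {x' : G} (hx : ι(x) = a) (hx' : ι(x') = a) (ox : (orderOf x).Prime)
    (ox' : (orderOf x').Prime) (hne : orderOf x ≠ orderOf x') : Group.IsSolvable G := by
  obtain ⟨pM, cB, nM, MA⟩ := h.Mfacts hB iB hM
  have pA := h.piAc hB iB hx
  have a0 : 0 < a := by have := h.a1; omega
  have oc : ∀ g y : G, orderOf (g * y * g⁻¹) = orderOf y := fun g y => (MulAut.conj g).orderOf_eq y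
  have c1 := (Nat.coprime_primes ox ox').2 hne
  obtain ⟨x', hx', ox', hne, c1, eA⟩ : ∃ x' : G, ι(x') = a ∧ (orderOf x').Prime ∧
      orderOf x ≠ orderOf x' ∧ (orderOf x).Coprime (orderOf x') ∧ 𝓒₁(x') = 𝓒₁(x) := by
    obtain ⟨k, hk⟩ := h.ac
    obtain ⟨r, hr, d⟩ := Nat.exists_prime_and_dvd (show k ≠ 1 from fun e => h.ne (by simp [hk, e]))
    obtain ⟨R, hR⟩ := syl_exists hr 𝓒₁(x)
    obtain ⟨g, hg⟩ := exists_conj_cent hr hR.pi (x := x')
      (hx' ▸ not_dvd_of_coprime hr h.cop.symm (d.trans (h.dvd_b hB iB hk)))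
    have e := (ind_conj' g x').trans hx'
    refine ⟨_, e, by rwa [oc], by rwa [oc], by rwa [oc], (eq_of_ind (relIndex_eq_one.1 ?_)
      (hx.trans e.symm)).symm⟩
    refine (h.relA hx (MA x hx (hM _ e)) (by rwa [oc])).resolve_right fun e1 => ?_
    refine not_dvd_relIndex_of_le hr hR (le_cent1_iff.2 hg) ?_
    rwa [Nat.eq_of_mul_eq_mul_right a0 (e1.trans (hk.trans (mul_comm _ _)))]
  set M := piCore (primesOf B)ᶜ G
  have lM : ∀ L : Subgroup G, L.Normal → IsPi (primesOf B)ᶜ L → L ≤ M := fun L _ e =>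
    (le_core e le_top (top_le_norm _ _)).trans (core_top _).le
  set A := 𝓒₁(x) with hA
  have hall : Hall (primesOf B)ᶜ A ⊤ := Hall.mk' le_top pA (by
    rw [compl_compl, relIndex_top_right, hx]; exact h.piB' hB iB)
  have β : ∀ g, cj g A ≠ A → A ⊓ cj g A ≤ M := fun g hg => by
    have α : ∀ g d t j, Nat.Prime t → orderOf d = t ^ j → d ∉ M → d ∈ cj g A →
        ι(d) = c ∧ 𝓒₁(d) ≤ cj g A := fun g d t j ht od dM hd => by
      have e := (h.tyn hB iB (z := d) (fun e => dM (e ▸ one_mem _)) (hB.ntb ((pA.cj g).orderOf hd))).resolve_left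
        fun e => dM (hM d e)
      refine ⟨e, ?_⟩
      by_cases e1 : t = orderOf x
      · rw [← eA, cj_cent1] at hd ⊢
        exact (h.mxC e).le (mem_cent1_symm.1 hd) (cop_pp ht ox' (e1 ▸ hne) od (pp_of_prime (oc _ _)))
      · rw [cj_cent1] at hd ⊢
        exact (h.mxC e).le (mem_cent1_symm.1 hd) (cop_pp ht ox e1 od (pp_of_prime (oc _ _)))
    have e := cmul (MA x hx (hM _ ((ind_conj' g x').trans hx'))) (by rwa [oc])
    rw [← cj_cent1, eA] at e
    have e1 := (h.dnA (w := x * (g * x' * g⁻¹)) (hx ▸ index_dvd_of_le (e.le.trans inf_le_left))).resolve_left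
      fun e1 => hg (eq_of_le_of_card_eq ((eq_of_ind (e.le.trans inf_le_left) (e1.trans hx.symm)).ge.trans
        (e.le.trans inf_le_right)) (card_cj g A).symm).symm
    by_contra hn
    obtain ⟨t, ht, d⟩ := Nat.exists_prime_and_dvd (relIndex_eq_one.not.2 hn)
    obtain ⟨d, hd, dM, j, od⟩ := exists_elt ht d
    obtain ⟨h1, h2⟩ := α 1 d t j ht od dM (by simpa using hd.1)
    have e2 := eq_of_ind ((le_inf (by simpa using h2) (α g d t j ht od dM hd.2).2).trans e.ge)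
      (h1.trans e1.symm)
    exact dM (lM _ (normal_of_top_le_norm (norm_cent (top_le_norm M ⊤)))
      (pA.of_le (cent_le_cent1 (hM x hx))) (le_cent1_iff.1 ((le_inf (MA _ hx) (by
          rw [← eA, cj_cent1]; exact MA _ ((ind_conj' g x').trans hx'))).trans (e2.trans e).ge)))
  by_cases hAM : A ≤ M
  · exact h.fin1 hB iB hM hx hAM
  have ex := exists_mul (h.copB hB iB hx)
  have nA : ∀ n ∈ B, n ∈ 𝓝(A) → n = 1 := fun n hn nA => by
    by_contra n1
    have l1 : ncl(n) ≤ 𝓝(A) := ncl_le fun g => by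
      obtain ⟨s, hs, t, ht, rfl⟩ := ex g
      rw [show s * t * n * (s * t)⁻¹ = s * (t * n * t⁻¹) * s⁻¹ by group,
        mem_cent1.1 ((hB.c n hn n1).ge ht), mul_inv_cancel_right]
      exact mul_mem (mul_mem (le_norm_self A hs) nA) (inv_mem (le_norm_self A hs))
    have l2 : A ⊓ ncl(n) ≤ M := lM _ ⟨fun k hk g => by
      have := normalClosure_normal.conj_mem _ hk.2 g
      exact ⟨(hall.of_le (le_norm_self A) le_top).mem_of_normal le_rfl (l1 this)
        (by rw [oc]; exact pA.orderOf hk.1), this⟩⟩ (pA.inf_left _)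
    refine hAM (le_trans ?_ l2)
    rw [← coprime_comm_eq_of_cent (K := A) (A := zpowers n) (zpowers_le.2 nA)
      (pA.coprime' ((isPi_primesOf B).of_le (zpowers_le.2 hn)))
      (Or.inl (solv_of_comm (comm_of_cyclic (cyc_zpowers n))))
      (by rw [cent_zpowers, hB.c n hn n1]; exact pA.inf_eq_bot' (isPi_primesOf B))]
    refine le_inf le_rfl ((comm_mono le_rfl (zpowers_le.2 (mem_ncl n))).trans
      ((comm_le_inf (top_le_norm _ _) l1).trans inf_le_right))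
  have mc : ∀ g u, g * u * g⁻¹ ∈ M ↔ u ∈ M := fun g u =>
    ⟨fun e => by simpa [mul_assoc] using Normal.conj_mem inferInstance _ e g⁻¹,
      fun e => Normal.conj_mem inferInstance _ e g⟩
  classical
  haveI := Fintype.ofFinite G
  have nti : PF.NTI ((A : Set G) \ M) ⊤ A := by
    refine ⟨SetLike.not_le_iff_exists.1 hAM, le_top, fun u hu g _ => ⟨fun e => ?_, fun e =>
      ⟨mul_mem (mul_mem e hu.1) (inv_mem e), fun e1 => hu.2 ((mc g u).1 e1)⟩⟩⟩
    have : g ∈ 𝓝(A) := mem_norm_iff_cj.2 (by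
      by_contra hn
      exact e.2 (β g hn ⟨e.1, conj_mem_cj.2 hu.1⟩))
    obtain ⟨s, hs, t, ht, rfl⟩ := ex g
    rw [nA t ht ((mul_mem_cancel_left (le_norm_self A hs)).1 this), mul_one]
    exact hs
  have c2 := nti.card_clsup
  rw [relIndex_top_right, hx, Set.ncard_diff (MA x hx), show (A : Set G).ncard = b from
    h.cardA hB iB hx, show (M : Set G).ncard = ♯M from rfl] at c2
  have c3 := hB.ncard_TB
  rw [h.cardB hB iB] at c3
  have c4 := Set.ncard_le_card (((M : Set G) ∪ PF.clsup ((A : Set G) \ M) ⊤) ∪ {z | TB B z})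
  rw [Set.ncard_union_eq (Set.disjoint_left.2 (by
      rintro z (hz | ⟨g, -, u, hu, rfl⟩)
      · exact hB.ntb (pM.orderOf hz)
      · exact hB.ntb (by rw [oc]; exact pA.orderOf hu.1))),
    Set.ncard_union_eq (Set.disjoint_left.2 (by
      rintro z hz ⟨g, -, u, hu, rfl⟩
      exact hu.2 ((mc g u).1 hz))), c2, c3, show (M : Set G).ncard = ♯M from rfl,
    ← B.card_mul_index, h.cardB hB iB, iB] at c4
  have c5 : ♯M ≤ b := h.cardA hB iB hx ▸ card_le_of_le' (MA x hx)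
  have c6 : 𝓝(B).index ≤ ♯M := by
    obtain ⟨k, rfl⟩ := Nat.exists_eq_add_of_le c5
    obtain ⟨j, rfl⟩ := Nat.exists_eq_add_of_lt h.a1
    rw [Nat.add_sub_cancel_left, Nat.add_sub_cancel] at c4
    exact Nat.le_of_mul_le_mul_left (c := 1 + j) (by nlinarith) (by omega)
  have d : 𝓝(B) ⊓ M = ⊥ := by
    have dd := (isPi_primesOf B).inf_eq_bot pM
    refine eq_bot_iff.2 (le_trans ?_ dd.le)
    refine le_inf (le_trans ?_ hB.cent_le) inf_le_right
    refine cent_of_comm_le_disjoint (N := M) ((comm_mono inf_le_right le_rfl).trans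
      (comm_le_left (top_le_norm _ _))) inf_le_left dd
  refine solv_top ?_
  rw [← eq_of_le_of_card_le (le_top (a := 𝓝(B) ⊔ M)) (by
    rw [card_sup_of_disjoint (top_le_norm _ _) d, card_top, ← 𝓝(B).card_mul_index]
    exact Nat.mul_le_mul_left _ c6)]
  exact solv_sup (hB.solv_norm cB) (solv_of_nil nM) (top_le_norm _ _)

theorem IIa3 (hs : s.Prime) (h1 : ∀ x : G, ι(x) = a → (orderOf x).Prime → orderOf x = s) :
    Group.IsSolvable G := by
  obtain ⟨pM, cB, nM, MA⟩ := h.Mfacts hB iB hM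
  obtain ⟨k, hk⟩ := h.ac
  have a0 : 0 < a := by have := h.a1; omega
  have sk : PiNat {s} k := fun r hr d => by
    have rb := d.trans (h.dvd_b hB iB hk)
    obtain ⟨z, oz, hz⟩ := exists_zc hr (rb.trans h.dvdG_b)
    exact oz ▸ h1 z (h.zA hr rb (hk ▸ d.mul_left a) oz hz) (oz ▸ hr)
  by_cases hsb : PiNat {s} b
  · refine solv_of_pidx _ Core.isSolvable_solvRad (hsb.of_dvd (iB ▸ index_dvd_of_le fun y hy => ?_))
    by_cases y1 : y = 1
    · exact y1 ▸ one_mem _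
    · exact kaz_mem hs (by rwa [hB.c y hy y1, iB])
  simp only [PiNat, not_forall] at hsb
  obtain ⟨r, hr, rb, rs⟩ := hsb
  have rc : ¬ r ∣ c := fun e => ((Nat.Prime.dvd_mul hr).1 (hk ▸ e)).elim
    (not_dvd_of_coprime hr h.cop.symm rb) fun e => rs (sk r hr e)
  obtain ⟨x, hx, ox⟩ : ∃ x : G, ι(x) = a ∧ orderOf x = s := by
    obtain ⟨x, -, hx⟩ := h.xa
    obtain ⟨u, -, ou, e, -⟩ := h.ppA hx
    exact ⟨u, e, h1 u e ou⟩
  have pA := h.piAc hB iB hx
  obtain ⟨R, hR⟩ := syl_exists hr 𝓒₁(x)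
  have tR : ∀ l ∈ R, l ≠ 1 → ι(l) = c ∧ 𝓒₁(l) ≤ 𝓒₁(x) := fun l hl l1 => by
    have e := (h.tyn hB iB l1 (hB.ntb (pA.orderOf (hR.le hl)))).resolve_left fun e => by
      obtain ⟨u, hu, ou, e1, -⟩ := h.ppA e
      exact rs ((hR.pi.orderOf (zpowers_le.2 hl hu) _ ou dvd_rfl).symm.trans (h1 u e1 ou))
    exact ⟨e, (h.mxC e).le (mem_cent1_symm.1 (hR.le hl)) (((hR.pi.ne rs).orderOf hl).coprime'
      (by rw [ox]; exact (piNat_prime hs).2 rfl))⟩
  have cR : R ≤ 𝓒(R) := fun l hl => mem_cent.2 fun l' hl' => by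
    have i : ∀ l (hl : l ∈ R), PiNat {s} ι((⟨l, hR.le hl⟩ : 𝓒₁(x))) := fun l hl => by
      rw [CS1.index_centralizer_coe]
      by_cases l1 : l = 1
      · rw [rel_one l1]; exact piNat_one _
      have := relIndex_mul_index (tR l hl l1).2
      rw [hx, (tR l hl l1).1, hk, mul_comm a] at this
      rwa [Nat.eq_of_mul_eq_mul_right a0 this]
    have e1 := (pcore_pi hs).orderOf (kf hs (i l' hl') (i l hl))
    rw [← orderOf_coe] at e1
    have e2 := (hR.pi.ne rs).orderOf (mul_mem (mul_mem (mul_mem hl' hl) (inv_mem hl')) (inv_mem hl))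
    simpa [mul_inv_eq_iff_eq_mul] using orderOf_eq_one_iff.1 (e1.eq_one e2)
  obtain ⟨l, hl, ol⟩ := exists_orderOf_eq hr (hR.dvd_card hr rfl (h.cardA hB iB hx ▸ rb))
  obtain ⟨el, lA⟩ := tR l hl (ne_one_of_prime hr ol)
  have RD : R ≤ 𝓒₁(l) := cR.trans (cent_le_cent1 hl)
  have hR' := hR.of_le RD lA
  have cD : IsMulCommutative 𝓒₁(l) := by
    have DR : ∀ l' ∈ R, 𝓒₁(l) ≤ 𝓒₁(l') := fun l' hl' => by
      by_contra hn
      obtain ⟨t, ht, d⟩ := Nat.exists_prime_and_dvd (relIndex_eq_one.not.2 hn)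
      by_cases e : t = r
      · exact not_dvd_relIndex_of_le hr hR' (cR.trans (cent_le_cent1 hl')) (e ▸ d)
      obtain ⟨v, hv, h2, j, ov⟩ := exists_elt ht d
      exact h2 (mem_cent1_symm.1 ((h.mxC el).le hv (cop_pp hr ht (Ne.symm e) (pp_of_prime ol) ov) (RD hl')))
    refine comm_iff_le_cent.2 fun d hd => le_cent1_iff.1 ?_
    obtain ⟨u, hu, v, hv, -, ⟨j, ou⟩, ov, e⟩ := exists_parts hr d
    rw [e]
    refine le_inf ?_ ((h.mxC el).le (zpowers_le.2 hd hv) (ol ▸ ov.symm))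
    obtain ⟨g, hg, le⟩ := hR'.syl_conj_le hr (K := zpowers u)
      (isPi_of_card_eq_pow hr (by rw [Nat.card_zpowers, ou])) (zpowers_le.2 (zpowers_le.2 hd hu))
    have := DR _ (le (conj_mem_cj.2 (mem_zpowers u)))
    rwa [← cj_cent1, le_cj_iff, cj_of_mem (inv_mem hg)] at this
  set M := piCore (primesOf B)ᶜ G
  set f := QuotientGroup.mk' M
  have sj : Function.Surjective f := QuotientGroup.mk'_surjective M
  obtain ⟨hB', eB⟩ := hB.map M pM
  have eπ : primesOf (B.map f) = primesOf B := by simp only [primesOf]; rw [eB]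
  have cB' : IsCyclic (B.map f) := isCyclic_of_surjective _ (f.subgroupMap_surjective B)
  by_cases hn : (B.map f).Normal
  · refine solv_ext M (solv_of_nil nM) (solv_top (solv_of_le (hB'.solv_norm cB') (top_le_norm _ _)))
  have cD' : IsMulCommutative (𝓒₁(l).map f) := inferInstance
  set D := 𝓒₁(l).map f
  have cj' : ∀ t, ¬ TB (B.map f) t → ∃ g, g * t * g⁻¹ ∈ D := fun t ht => by
    obtain ⟨u, rfl⟩ := sj t
    by_cases uM : f u = 1
    · exact ⟨1, by rw [uM]; simp⟩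
    have e := (h.tyn hB iB (z := u) (fun e => uM (by simp [e])) (by
      rintro ⟨y, hy, -, e⟩
      refine ht ⟨f y, mem_map_of_mem f hy, fun e1 => uM ?_, f.map_isConj e⟩
      exact isConj_one_right.1 (e1 ▸ f.map_isConj e))).resolve_left
      fun e => uM ((QuotientGroup.eq_one_iff u).2 (hM u e))
    obtain ⟨g, hg⟩ := exists_conj_cent hr hR.pi (x := u) (e ▸ rc)
    exact ⟨f g, by rw [← map_inv, ← map_mul, ← map_mul]; exact mem_map_of_mem f (cent_le_cent1 hl hg)⟩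
  obtain ⟨s', hs', d, sB, h2⟩ : ∃ s', s'.Prime ∧ s' ∣ Nat.card (G ⧸ M) ∧ ¬ s' ∣ ♯(B.map f) ∧
      (s' = s ∨ ¬ s ∣ Nat.card (G ⧸ M)) := by
    by_cases e : s ∣ Nat.card (G ⧸ M)
    · refine ⟨s, hs, e, fun e => pA s hs ?_ ⟨hs, eB ▸ e⟩, Or.inl rfl⟩
      exact ox ▸ orderOf_dvd_card_of_mem (mem_cent1_self x)
    obtain ⟨t, ht, d⟩ := Nat.exists_prime_and_dvd (show (B.map f).index ≠ 1 from fun e =>
      hn (by rw [index_eq_one.1 e]; infer_instance))
    exact ⟨t, ht, d.trans (index_dvd_card _), not_dvd_of_coprime ht hB'.cop.symm d, Or.inr e⟩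
  obtain ⟨t, ot, ht⟩ := exists_zc hs' d
  have t1 := ne_one_of_prime hs' ot
  have nt : ¬ TB (B.map f) t := hB'.ntb (ot ▸ (piNat_prime hs').2 fun e => sB e.2)
  obtain ⟨g0, hg0⟩ := cj' t nt
  have cD2 : ∀ g t, g * t * g⁻¹ ∈ D → cj g⁻¹ D ≤ 𝓒₁(t) := fun g t e => by
    rw [← le_cj_iff, cj_cent1]; exact le_cent1_iff.2 (comm_iff_le_cent.1 cD' e)
  have ct : ι(t).Coprime (B.map f).index := by
    refine Nat.Coprime.coprime_dvd_left ?_ hB'.cop
    have d1 : ι(t) ∣ a * k := by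
      refine (index_dvd_of_le (cD2 g0 t hg0)).trans ?_
      rw [index_cj, ← hk, ← el]
      exact index_map_dvd _ sj
    rw [eB, h.cardB hB iB]
    refine (PiNat.coprime' ((piNat_compl_iff hs).2 ?_) sk).dvd_of_dvd_mul_right d1
    rcases h2 with e | e
    · exact e ▸ ht
    · exact fun e1 => e (e1.trans (index_dvd_card _))
  have tM : t ∉ 𝓞((primesOf (B.map f))ᶜ, ⊤) := by
    rwa [core_top, eπ, Core.piCore_quotient_piCore, mem_bot]
  refine h.fin1 hB iB hM hx (core_top (G := G) _ ▸ h.le_two hB iB hx (eB ▸ hB'.big hn hs' ot ct nt ct nt tM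
    (δ := ♯D) (one_lt_card_iff_ne_bot _ |>.2 (ne_bot_of_mem hg0 (by simpa using t1)))
    (fun y hy y1 => ?_) fun q R hq qB pR R1 le => ?_))
  · obtain ⟨g, hg⟩ := cj' _ (hB'.ntb_mul ct nt tM hy y1)
    exact card_cj g⁻¹ D ▸ card_le_of_le' (cD2 g _ hg)
  · have pR' : IsPi (primesOf (B.map f))ᶜ R := pR.mono fun t e e1 => qB (e ▸ e1.2)
    have dd := pR'.inf_eq_bot' (isPi_primesOf _)
    obtain ⟨w, rfl⟩ := exists_zpowers_of_cyc (abelian_regular_cyclic (H := B.map f)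
      (comm_iff_der_eq_bot.2 (eq_bot_iff.2 (le_trans (le_inf (der_le R)
        ((H8PG.der_cent_cyc cB' le).trans hB'.cent_le)) dd.le))) hB'.ne le fun w hw w1 => by
      by_contra hn
      obtain ⟨u, hu, u1⟩ := exists_ne_one hn
      exact w1 (mem_bot.1 (dd.le ⟨hw, hB'.mem_of_comm hu.1 u1 (mem_cent1.1 hu.2).symm⟩)))
    obtain ⟨g, hg⟩ := cj' w (hB'.ntb (isPi_zpowers.1 pR'))
    have m : g⁻¹ * g0 * t * (g⁻¹ * g0)⁻¹ ∈ cj g⁻¹ D := mem_cj_inv.2 (by convert hg0 using 1; group)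
    refine ⟨g⁻¹ * g0, card_cj g⁻¹ D ▸ card_dvd (sup_le (zpowers_le.2 (mem_cj_inv.2 hg))
      (zpowers_le.2 m)), cent_zpowers w ▸ cD2 g w hg m⟩

end b2

theorem IIa : Group.IsSolvable G := by
  by_cases hn : B.Normal
  · exact h.IIa0 hB iB
  have hM : ∀ x : G, ι(x) = a → x ∈ piCore (primesOf B)ᶜ G := fun x hx =>
    core_top (G := G) _ ▸ h.IIa1 hB iB hn hx
  obtain ⟨x, -, hx⟩ := h.xa
  obtain ⟨u, -, ou, e, -⟩ := h.ppA hx
  by_cases h1 : ∀ x : G, ι(x) = a → (orderOf x).Prime → orderOf x = orderOf u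
  · exact h.IIa3 hB iB hM ou h1
  push Not at h1
  obtain ⟨v, h1, h2, h3⟩ := h1
  exact h.IIa2 hB iB hM h1 e h2 ou h3

omit hB iB in
theorem solv : Group.IsSolvable G := by
  by_cases hb : b ∣ c
  · exact h.caseI hb
  obtain ⟨y, -, hy⟩ := h.xb
  obtain ⟨u, -, ou, e, -⟩ := h.ppB hy
  by_cases hP : IsPi {orderOf u} 𝓒₁(u)
  · by_cases hO : pCore (orderOf u) G = ⊥
    · exact h.IIa (h.cc_of_core hb ou e hP rfl hO) e
    · exact h.IIb hb ou e hP hO
  · exact h.IIa (h.cc_of_not hb ou rfl e hP) e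

end H3

theorem cai_of_three (hZ : center G = ⊥) (h : {n : ℕ | 1 < n ∧ ∃ x : G, ι(x) = n}.ncard ≤ 3)
    (hG : ¬ Group.IsSolvable G) : CAI G := by
  refine cai_of_F fun x y y1 hle => ?_
  by_contra hne
  have lt : ∀ z : G, z ≠ 1 → 1 < ι(z) := fun z z1 => by
    have := ind_pos z
    have : ι(z) ≠ 1 := fun e => z1 (by simpa [hZ] using ind_one.1 e)
    omega
  have d := index_dvd_of_le hle
  have ne : ι(y) ≠ ι(x) := fun e => hne (eq_of_ind hle e.symm)
  obtain ⟨p, hp, pa⟩ := Nat.exists_prime_and_dvd (lt y y1).ne'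
  obtain ⟨z, oz, hz⟩ := exists_zc hp (pa.trans (index_dvd_card _))
  have z1 := ne_one_of_prime hp oz
  have fin : {n : ℕ | 1 < n ∧ ∃ x : G, ι(x) = n}.Finite :=
    (Set.finite_range fun x : G => ι(x)).subset fun _ e => e.2
  have e : ({ι(y), ι(z), ι(x)} : Set ℕ) = {n : ℕ | 1 < n ∧ ∃ x : G, ι(x) = n} := by
    refine Set.eq_of_subset_of_ncard_le ?_ (h.trans (Set.ncard_eq_three.2 ⟨ι(y), ι(z), ι(x),
      fun e => hz (e ▸ pa), ne, fun e => hz (e ▸ pa.trans d), rfl⟩).ge) fin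
    rintro _ (rfl | rfl | rfl)
    exacts [⟨lt y y1, y, rfl⟩, ⟨lt z z1, z, rfl⟩,
      ⟨(lt y y1).trans_le (Nat.le_of_dvd (ind_pos x) d), x, rfl⟩]
  have t : ∀ w : G, w ≠ 1 → ι(w) = ι(y) ∨ ι(w) = ι(z) ∨ ι(w) = ι(x) := fun w w1 =>
    e.ge ⟨lt w w1, w, rfl⟩
  refine hG (H3.solv ⟨hZ, t, Nat.coprime_of_dvd fun q hq h1 h2 => ?_, d, ne, ⟨y, y1, rfl⟩,
    ⟨z, z1, rfl⟩, ⟨x, rfl⟩⟩)
  obtain ⟨w, ow, hw⟩ := exists_zc hq (h1.trans (index_dvd_card _))
  rcases t w (ne_one_of_prime hq ow) with e | e | e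
  exacts [hw (e ▸ h1), hw (e ▸ h2), hw (e ▸ h1.trans d)]

end CA.R3
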