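import Cfsg.Agent.Lib.Cit.CtG6
import Cfsg.Agent.Lib.Grp.Kegel

/-! A Fitting subgroup all of whose cosets consist of elements of the order of the coset. -/

set_option autoImplicit false
set_option linter.unusedSectionVars false

namespace CA.R3

open Subgroup Cfsg CA.BG CA.Frob2
open scoped commutatorElement

variable {G : Type*} [Group G] [Finite G] {H K N V : Subgroup G} {a g k n s t u v w x y z : G}
  {p q : ℕ}

theorem mul_pow_eq (ha : a ∈ 𝓝(K)) (hk : k ∈ K) (m : ℕ) : ∃ k' ∈ K, (k * a) ^ m = k' * a ^ m := by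
  induction m with
  | zero => exact ⟨1, one_mem _, by simp⟩
  | succ m ih =>
    obtain ⟨k', h1, e⟩ := ih
    exact ⟨k * (a * k' * a⁻¹), mul_mem hk (conj_mem_of_mem_norm ha h1), by rw [pow_succ', e, pow_succ']; group⟩

theorem mul_pow_mem (ha : a ∈ 𝓝(K)) (hk : k ∈ K) {m : ℕ} (h : a ^ m ∈ K) : (k * a) ^ m ∈ K := by
  obtain ⟨k', h1, e⟩ := mul_pow_eq ha hk m
  exact e ▸ mul_mem h1 h

theorem mul_pow_hom (hV : IsMulCommutative V) (ha : a ∈ 𝓝(V)) (hx : x ∈ V) (hy : y ∈ V) (m : ℕ) :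
    ∃ u ∈ V, ∃ v ∈ V, (x * a) ^ m = u * a ^ m ∧ (y * a) ^ m = v * a ^ m ∧
      (x * y * a) ^ m = u * v * a ^ m := by
  induction m with
  | zero => exact ⟨1, one_mem _, 1, one_mem _, by simp⟩
  | succ m ih =>
    obtain ⟨u, h1, v, h2, e1, e2, e3⟩ := ih
    have h3 := conj_mem_of_mem_norm ha h1
    refine ⟨x * (a * u * a⁻¹), mul_mem hx h3, y * (a * v * a⁻¹),
      mul_mem hy (conj_mem_of_mem_norm ha h2), by rw [pow_succ', e1, pow_succ']; group,
      by rw [pow_succ', e2, pow_succ']; group, ?_⟩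
    rw [pow_succ', e3, pow_succ', mul_assoc x (a * u * a⁻¹), ← mul_assoc (a * u * a⁻¹),
      Wa.mul_comm_of hV h3 hy]
    group

theorem exists_root (ha : a ∉ K) : ∃ p : ℕ, p.Prime ∧ ∃ b ∈ zpowers a, b ∉ K ∧ b ^ p ∈ K := by
  classical
  have h0 : ∃ m, 0 < m ∧ a ^ m ∈ K := ⟨_, orderOf_pos a, by rw [pow_orderOf_eq_one]; exact one_mem _⟩
  obtain ⟨h1, h2⟩ := Nat.find_spec h0
  have h3 : Nat.find h0 ≠ 1 := fun e => ha (by rwa [e, pow_one] at h2)
  have hp := Nat.minFac_prime h3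
  have hd := Nat.minFac_dvd (Nat.find h0)
  refine ⟨_, hp, a ^ (Nat.find h0 / (Nat.find h0).minFac), pow_mem (mem_zpowers a) _, fun h => ?_,
    by rwa [← pow_mul, Nat.div_mul_cancel hd]⟩
  exact Nat.find_min h0 (Nat.div_lt_self h1 hp.one_lt) ⟨Nat.div_pos (Nat.le_of_dvd h1 hd) hp.pos, h⟩

theorem mem_of_pow (hp : p.Prime) (h : ¬ p ∣ orderOf g) (h1 : g ^ p ∈ K) : g ∈ K :=
  zpowers_le.2 h1 (mem_zpowers_pow_iff.2 ((Nat.Prime.coprime_iff_not_dvd hp).2 h))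

theorem comm_of_nil (hH : Group.IsNilpotent H) (hx : x ∈ H) (hy : y ∈ H)
    (h : (orderOf x).Coprime (orderOf y)) : x ∈ 𝓒₁(y) :=
  cent_zpowers y ▸ cent_of_nil_cop hH (zpowers_le.2 hx) (zpowers_le.2 hy)
    (by rwa [Nat.card_zpowers, Nat.card_zpowers]) (mem_zpowers x)

theorem mem_norm_nrm [N.Normal] (g : G) : g ∈ 𝓝(N) := top_le_norm N ⊤ (mem_top g)

theorem exists_out [N.Normal] (hq : q.Prime) (h : q ∣ N.index) : ∃ t, t ∉ N ∧ t ^ q ∈ N := by
  haveI := Fact.mk hq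
  obtain ⟨x, hx⟩ := exists_prime_orderOf_dvd_card' (G := G ⧸ N) q h
  obtain ⟨t, rfl⟩ := QuotientGroup.mk_surjective x
  exact ⟨t, fun e => ne_one_of_prime hq hx ((QuotientGroup.eq_one_iff t).2 e),
    (QuotientGroup.eq_one_iff _).1 (by rw [QuotientGroup.mk_pow, ← hx, pow_orderOf_eq_one])⟩

theorem exists_pi_over [N.Normal] (h : Group.IsSolvable (G ⧸ N)) (h1 : N ≠ ⊤) :
    ∃ q : ℕ, q.Prime ∧ ∃ K : Subgroup G, K.Normal ∧ N ≤ K ∧ ¬ K ≤ N ∧ ∀ k ∈ K, ∃ j, k ^ q ^ j ∈ N := by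
  have h2 : (⊤ : Subgroup (G ⧸ N)) ≠ ⊥ := fun e => h1 (eq_top_iff.2 fun g _ =>
    (QuotientGroup.eq_one_iff g).1 (mem_bot.1 (e ▸ mem_top _)))
  obtain ⟨q, hq, h3⟩ := exists_prime_dvd_card (fit_ne_bot inferInstance h2)
  have h4 := (syl_core_fit hq ⊤).ne_bot hq rfl h3
  haveI := normal_of_top_le_norm (le_norm_core {q} (⊤ : Subgroup (G ⧸ N)))
  obtain ⟨x, hx, x1⟩ := exists_ne_one h4
  obtain ⟨k, rfl⟩ := QuotientGroup.mk_surjective x
  refine ⟨q, hq, comap (QuotientGroup.mk' N) 𝓞({q}, ⊤), inferInstance,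
    fun n hn => mem_comap.2 (by rw [QuotientGroup.mk'_apply, (QuotientGroup.eq_one_iff n).2 hn]; exact one_mem _),
    fun e => x1 ((QuotientGroup.eq_one_iff k).2 (e hx)), fun k hk => ?_⟩
  obtain ⟨j, hj⟩ := ((core_pi {q} ⊤).orderOf (mem_comap.1 hk)).exists_pow hq (orderOf_pos _).ne'
  exact ⟨j, (QuotientGroup.eq_one_iff _).1 (by
    rw [QuotientGroup.mk_pow, ← hj]; exact pow_orderOf_eq_one _)⟩

/-- the Hughes subgroup is proper -/
def Hu (G : Type*) [Group G] : Prop := ∃ p : ℕ, p.Prime ∧ closure {g : G | g ^ p ≠ 1} ≠ ⊤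

theorem hu_of (hp : p.Prime) (h : K ≠ ⊤) (h1 : ∀ g, g ∉ K → g ^ p = 1) : Hu G :=
  ⟨p, hp, fun e => h (eq_top_iff.2 (e ▸ (closure_le K).2 fun g hg => by_contra fun h2 => hg (h1 g h2)))⟩

/-- an admissible Fitting subgroup -/
structure AD (N : Subgroup G) : Prop where
  nrm : N.Normal
  max : ∀ K : Subgroup G, K.Normal → Group.IsNilpotent K → K ≤ N
  nil : Group.IsNilpotent N
  bot : N ≠ ⊥
  top : N ≠ ⊤
  i : ∀ g, g ∉ N → ∀ m : ℕ, g ^ m ∈ N → g ^ m = 1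
  ii : ∀ g, g ∉ N → ∀ n ∈ N, n ≠ 1 → g ∈ 𝓒₁(n) → orderOf g = orderOf n
  iii : ∀ g, g ∉ N → ∀ p : ℕ, p.Prime → p ∣ orderOf g → p ∣ ♯N → orderOf g = p

namespace AD
variable (h : AD N)
include h

theorem ord (hq : q.Prime) (hg : g ∉ N) (h1 : g ^ q ∈ N) : orderOf g = q :=
  haveI := Fact.mk hq
  orderOf_eq_prime (h.i g hg q h1) fun e => hg (e ▸ one_mem _)

theorem zp (hg : g ∉ N) (hw : w ∈ zpowers g) (w1 : w ≠ 1) : w ∉ N := fun e => by
  obtain ⟨m, rfl⟩ := mem_powers_iff_mem_zpowers.2 hw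
  exact w1 (h.i g hg m e)

variable (hp : p.Prime) (hN : p ∣ ♯N)
include hp hN

theorem a_le [K.Normal] (hw : w ∉ N) (hq : (orderOf w).Prime) (hne : orderOf w ≠ p)
    (hK : ∀ k ∈ K, k ∉ N → orderOf k = p) : K ≤ N := by
  refine h.max K inferInstance (Kegel.isNilpotent_of_coset_pow (mem_norm_nrm w) hq fun k hk => ?_)
  have h1 : (k * w) ^ orderOf w ∈ K :=
    mul_pow_mem (mem_norm_nrm w) hk (by rw [pow_orderOf_eq_one]; exact one_mem _)
  have h2 : k * w ∉ K := fun e => hne (hK w ((mul_mem_cancel_left hk).1 e) hw)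
  have h3 : k * w ∉ N := fun e => by
    by_cases h4 : k ∈ N
    · exact hw ((mul_mem_cancel_left h4).1 e)
    · haveI := h.nrm
      have h5 := mul_pow_mem (mem_norm_nrm k⁻¹) (h.nrm.mem_comm e) (m := p)
        (by rw [inv_pow, ← hK k hk h4, pow_orderOf_eq_one, inv_one]; exact one_mem _)
      rw [mul_inv_cancel_right] at h5
      exact hne (h.ord hp hw h5)
  by_cases h4 : (k * w) ^ orderOf w ∈ N
  · exact h.i _ h3 _ h4
  have h5 := h.iii _ h3 p hp (hK _ h1 h4 ▸ orderOf_pow_dvd _) hN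
  exact absurd (mem_of_pow hq (fun e => hne ((Nat.prime_dvd_prime_iff_eq hq hp).1 (h5 ▸ e))) h1) h2

variable (hy : y ∉ N) (oy : orderOf y = p)
include hy oy

theorem b_le (hn : y ∈ 𝓝(K)) (hle : N ≤ K) (hK : ∀ k ∈ K, k ∉ N → ¬ p ∣ orderOf k) : K ≤ N := by
  have h0 : Group.IsNilpotent K := Kegel.isNilpotent_of_coset_pow hn hp fun k hk => by
    have h2 : k * y ∉ K := fun e => hK y ((mul_mem_cancel_left hk).1 e) hy oy.symm.dvd
    have h3 : p ∣ orderOf (k * y) := by_contra fun e => h2 (mem_of_pow hp e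
      (mul_pow_mem hn hk (by rw [← oy, pow_orderOf_eq_one]; exact one_mem _)))
    rw [← h.iii _ (fun e => h2 (hle e)) p hp h3 hN, pow_orderOf_eq_one]
  intro k hk
  by_contra h1
  obtain ⟨n, h2, on⟩ := exists_orderOf_eq hp hN
  have h3 := hK k hk h1
  exact h3 ((h.ii k h1 n h2 (ne_one_of_prime hp on) (comm_of_nil h0 hk (hle h2)
    (on ▸ ((Nat.Prime.coprime_iff_not_dvd hp).2 h3).symm))).trans on).symm.dvd

theorem b_mem (hs : ¬ p ∣ orderOf s) (h1 : y * s * y⁻¹ ∈ N ⊔ zpowers s) : s ∈ N := by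
  haveI := h.nrm
  refine h.b_le hp hN hy oy (K := N ⊔ zpowers s) (mem_norm_of_cj_le ?_) le_sup_left (fun k hk h2 h3 => ?_)
    (mem_sup_right (mem_zpowers s))
  · rw [cj_sup, cj_of_mem_norm (mem_norm_nrm y), cj_zpowers]
    exact sup_le le_sup_left (zpowers_le.2 h1)
  · obtain ⟨n, h4, a, ha, rfl⟩ := (mem_sup_norm' (top_le_norm N _)).1 hk
    exact hs (h3.trans (orderOf_dvd_of_pow_eq_one (h.i _ h2 _ (mul_pow_mem (mem_norm_nrm a) h4
      (by rw [orderOf_dvd_iff_pow_eq_one.1 (ord_dvd_zp ha)]; exact one_mem _)))))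

theorem all (hg : g ∉ N) : g ^ p = 1 := by
  haveI := h.nrm
  by_contra g1
  have h0 : ¬ p ∣ orderOf g := fun e => g1 (by rw [← h.iii g hg p hp e hN, pow_orderOf_eq_one])
  obtain ⟨w, hw, hq⟩ := exists_pp (x := g) fun e => hg (e ▸ one_mem _)
  have h1 := h.zp hg hw (ne_one_of_prime hq rfl)
  have h2 : orderOf w ≠ p := fun e => h0 (e ▸ ord_dvd_zp hw)
  by_cases ho : Odd N.index
  · obtain ⟨q, hq', K, _, h3, h4, h5⟩ := exists_pi_over (CA.PF.odd_solvable (G ⧸ N) ho) h.top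
    have h6 : ∀ k ∈ K, k ∉ N → ∃ j, orderOf k ∣ q ^ j := fun k hk h7 =>
      let ⟨j, hj⟩ := h5 k hk; ⟨j, orderOf_dvd_of_pow_eq_one (h.i k h7 _ hj)⟩
    by_cases e : q = p
    · refine h4 (h.a_le hp hN h1 hq h2 fun k hk h7 => h.iii k h7 p hp ?_ hN)
      obtain ⟨j, hj⟩ := h6 k hk h7
      obtain ⟨i, -, hi⟩ := (Nat.dvd_prime_pow hq').1 hj
      rcases i with _ | i
      · exact absurd (orderOf_eq_one_iff.1 hi ▸ one_mem _) h7
      · exact hi ▸ e ▸ dvd_pow_self q i.succ_ne_zero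
    · refine h4 (h.b_le hp hN hy oy (mem_norm_nrm y) h3 fun k hk h7 h8 => ?_)
      obtain ⟨j, hj⟩ := h6 k hk h7
      exact e ((Nat.prime_dvd_prime_iff_eq hp hq').1 (hp.dvd_of_dvd_pow (h8.trans hj))).symm
  by_cases e : p = 2
  · subst e
    let K : Subgroup G :=
      { carrier := {g | g ^ 2 ∈ N}
        one_mem' := by simp [one_mem]
        inv_mem' := fun ha => by rw [Set.mem_setOf_eq, inv_pow]; exact inv_mem ha
        mul_mem' := fun {a b} ha hb => by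
          by_cases h3 : a ∈ N
          · exact mul_pow_mem (mem_norm_nrm b) h3 hb
          by_cases h4 : a * b ∈ N
          · exact pow_mem h4 2
          by_cases h5 : 2 ∣ orderOf (a * b)
          · rw [Set.mem_setOf_eq, ← h.iii _ h4 2 hp h5 hN, pow_orderOf_eq_one]; exact one_mem _
          refine absurd (h.b_mem hp hN h3 (h.ord hp h3 ha) h5 ?_) h4
          have : a * (a * b) * a⁻¹ = a ^ 2 * b ^ 2 * (a * b)⁻¹ := by simp only [pow_two]; group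
          rw [this]
          exact mul_mem (mem_sup_left (mul_mem ha hb)) (mem_sup_right (inv_mem (mem_zpowers _))) }
    haveI : K.Normal := ⟨fun a ha g => by
      change _ ^ 2 ∈ N; rw [conj_pow]; exact h.nrm.conj_mem _ ha g⟩
    exact hy (h.a_le (K := K) hp hN h1 hq h2 (fun k hk h3 => h.ord hp h3 hk)
      (by change y ^ 2 ∈ N; rw [← oy, pow_orderOf_eq_one]; exact one_mem _))
  obtain ⟨t, ht, t2⟩ := exists_out Nat.prime_two (even_iff_two_dvd.1 (Nat.not_odd_iff_even.1 ho))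
  have ot := h.ord Nat.prime_two ht t2
  have hP := norm_core {p} (top_le_norm N ⊤)
  have inv : ∀ s, s ∉ N → orderOf s = 2 → ∀ k ∈ 𝓞({p}, N), s * k * s⁻¹ = k⁻¹ := fun s hs os k hk =>
    conj_eq_inv_of_involution (hP (mem_top s)) (GW.sq_of_ord os) (inf_centralizer_eq_bot_iff.2 fun n hn e' =>
      by_contra fun n1 => e ((core_pi {p} N).orderOf hn 2 Nat.prime_two
        (by rw [← h.ii s hs n (core_le _ _ hn) n1 (mem_cent1.2 e'), os])).symm) hk
  have h3 : y * t * y⁻¹ ∉ N := fun e => ht (by simpa [mul_assoc] using h.nrm.conj_mem _ e y⁻¹)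
  have h4 : y * t * y⁻¹ * t ∈ 𝓒(𝓞({p}, N)) := mem_cent.2 fun k hk => by
    have e1 := inv t ht ot k hk
    have e2 := inv _ h3 (by rw [← ot]; exact (MulAut.conj y).orderOf_eq t) _ (inv_mem hk)
    rw [inv_inv, ← e1, mul_inv_eq_iff_eq_mul] at e2
    rw [← mul_assoc k, ← e2]; group
  haveI := normal_of_top_le_norm (norm_cent hP)
  obtain ⟨n, hn, on⟩ := exists_orderOf_eq hp hN
  have h5 : n ∈ 𝓞({p}, N) := (isPi_of_card_eq hp ((Nat.card_zpowers n).trans on)).le_core_of_nil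
    (zpowers_le.2 hn) h.nil (mem_zpowers n)
  have h6 := h.a_le hp hN h1 hq h2 (fun k hk h7 =>
    (h.ii k h7 n hn (ne_one_of_prime hp on) (cent_le_cent1 h5 hk)).trans on) h4
  refine ht (h.b_mem hp hN hy oy (fun e' => e ((Nat.prime_dvd_prime_iff_eq hp Nat.prime_two).1 (ot ▸ e'))) ?_)
  have := mul_mem (mem_sup_left h6) (mem_sup_right (S := N) (inv_mem (mem_zpowers t)))
  rwa [mul_inv_cancel_right] at this

end AD

theorem AD.main (h : AD N) : (∃ H : Subgroup G, IsFrobeniusComplement H) ∨ Hu G := by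
  haveI := h.nrm
  by_cases h1 : ∃ p : ℕ, p.Prime ∧ p ∣ ♯N ∧ ∃ y, y ∉ N ∧ orderOf y = p
  · obtain ⟨p, hp, hN, y, hy, oy⟩ := h1
    exact Or.inr (hu_of hp h.top fun g hg => h.all hp hN hy oy hg)
  obtain ⟨H, hH⟩ := exists_right_complement'_of_coprime (N := N) (Nat.coprime_of_dvd fun p hp h2 h3 =>
    let ⟨t, ht, h4⟩ := exists_out hp h3; h1 ⟨p, hp, h2, t, ht, h.ord hp ht h4⟩)
  refine Or.inl ⟨H, isFrob_of_semireg hH.sup_eq_top h.bot (fun e => h.top ?_)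
    (semireg_iff.2 fun g hg g1 n hn e => by_contra fun n1 => ?_)⟩
  · rw [← hH.sup_eq_top, e, sup_bot_eq]
  · obtain ⟨m, hm, hp⟩ := exists_pp n1
    have h2 := zpowers_le.2 hn hm
    have h3 : g ∉ N := fun e => g1 (disjoint_def.1 hH.disjoint e hg)
    exact h1 ⟨_, hp, orderOf_dvd_card_of_mem h2, g, h3,
      h.ii g h3 m h2 (ne_one_of_prime hp rfl) (cent_le_zp hm (mem_cent1.2 e))⟩

end CA.R3
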