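import Cfsg.Agent.Lib.Cit.CtG3

/-! Two orthogonal induced virtual characters of norm three. -/

set_option autoImplicit false
set_option linter.unusedSectionVars false

namespace CA.R3

open Subgroup Cfsg CA.H7Cop
open CA.PF hiding mem_cent1
open CA.BG hiding cj_one cj_mul cj_inv_cj cj_cj_inv cj
open scoped ComplexConjugate

variable {G : Type*} [Group G] [Fintype G] {M P : Subgroup G} {g t x y : G} {p q : ℕ} {n : ℤ}
  {a b c d e : G → ℂ}

/-- `1 + a + b` vanishes on elements of order prime to `p` -/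
structure Th (p : ℕ) (a b : G → ℂ) : Prop where
  da : Dirr ⊤ a
  db : Dirr ⊤ b
  ab : dot ⊤ a b = 0
  ta : dot ⊤ a (triv ⊤) = 0
  tb : dot ⊤ b (triv ⊤) = 0
  z : ∀ x, ¬ p ∣ orderOf x → (triv ⊤ + a + b : G → ℂ) x = 0

theorem Th.symm (h : Th p a b) : Th p b a :=
  ⟨h.db, h.da, dot_comm_zero h.ab, h.tb, h.ta, fun x hx => by rw [add_right_comm]; exact h.z x hx⟩

theorem exists_pord (hp : p.Prime) (h : p ∣ orderOf x) : ∃ y ∈ zpowers x, orderOf y = p :=
  exists_orderOf_eq hp (by rwa [Nat.card_zpowers])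

theorem exists_th (hp : p.Prime) (hP : Syl p P ⊤) (hb : P ≠ ⊥) (hc : IsMulCommutative P)
    (hM : ∀ y ∈ P, y ≠ 1 → 𝓒₁(y) = 𝓒(P)) (h2 : 𝓒(P).relIndex 𝓝(P) = 2) : ∃ a b : G → ℂ, Th p a b := by
  classical
  set M := 𝓒(P)
  have PM : P ≤ M := comm_iff_le_cent.1 hc
  have sM : Syl p P M := hP.of_le PM le_top
  have MN : M ≤ 𝓝(P) := cent_le_norm P
  have hN : Nrm M 𝓝(P) := nrm_of_le_normalizer MN (norm_cent le_rfl)
  have pc : HasPC p M := burnside_hasPC hp sM inf_le_left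
  obtain ⟨i, hi⟩ : ∃ i : Lin P, i ≠ 1 := by
    have := card_Lin_comm hc
    haveI : Nontrivial (Lin P) := Fintype.one_lt_card_iff_nontrivial.1 (this ▸ (one_lt_card_iff_ne_bot P).2 hb)
    exact exists_ne 1
  obtain ⟨l, l1, l2⟩ := exists_lin_sdprod (pc.sdprod sM) i
  have lP : ∀ g ∈ 𝓝(P), g ∈ stab (lin l) → g ∈ M := fun g hg hs => by
    obtain ⟨u, hu, u1, e⟩ := (exists_fixed_irr_iff hg).1 ⟨lin i, lin_irr i,
      fun e => hi (lin_injective (e.trans (lin_one P).symm)), mem_stab_of (lin_on i) hg fun y hy => by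
        rw [← l2 _ (conj_mem_of_mem_norm hg hy), ← l2 y hy]; exact congrFun (mem_stab.1 hs) y⟩
    exact hM u hu u1 ▸ mem_cent1.2 e
  have l0 : lin l ≠ triv M := fun e => hi (Lin.ext fun w => Units.ext (by
    rw [← lin_coe, ← l2 w w.2, e, triv_of_mem (PM w.2), Lin.one_apply, Units.val_one]))
  let A : Set G := {g | g ∈ M ∧ p ∣ orderOf g}
  have yP : ∀ y ∈ M, orderOf y = p → y ∈ P := fun y hy e =>
    sM.mem_of_normal MN hy (by rw [e]; exact (piNat_prime hp).2 rfl)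
  have nti : NTI A ⊤ 𝓝(P) := by
    obtain ⟨u, hu, ou⟩ := exists_orderOf_eq hp (hP.pi.dvd_card hb)
    refine ⟨⟨u, PM hu, ou.symm.dvd⟩, le_top, fun a ha g _ => ⟨fun e => ?_, fun e =>
      ⟨conj_mem_of_mem_norm (norm_cent le_rfl e) ha.1, by rw [orderOf_conj']; exact ha.2⟩⟩⟩
    obtain ⟨y, hy, oy⟩ := exists_pord hp ha.2
    have y1 := ne_one_of_prime hp oy
    have h1 := yP y (zpowers_le.2 ha.1 hy) oy
    have h3 : g * y * g⁻¹ ∈ P := yP _ (zpowers_le.2 e.1 (cj_zpowers g a ▸ conj_mem_cj.2 hy))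
      (by rw [orderOf_conj', oy])
    refine sM.norm_of_normal MN (mem_norm_iff_cj.2 ?_)
    conv_lhs => rw [← hM y h1 y1, cj_cent1]
    exact hM _ h3 (conj_ne_one_iff.2 y1)
  have on : triv M - lin l ∈ cfOn A := mem_cfOn.2 fun w hw => by
    by_cases e : w ∈ M
    · have : w ∈ cfker (lin l) := l1 (pc.le_core (isPi_zpowers.2 ((piNat_compl_iff hp).2 fun h => hw ⟨e, h⟩))
        (zpowers_le.2 e) (mem_zpowers w))
      rw [Pi.sub_apply, cfker_apply this, lin_apply_one, triv_of_mem e, sub_self]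
    · rw [Pi.sub_apply, mem_cfOn.1 (lin_on l) w e, triv_of_not_mem e, sub_self]
  set α := Ind 𝓝(P) M (triv M - lin l)
  have oα : α ∈ cfOn A := Ind_on' _ _ on fun x hx g e => (nti.conj_iff hx g).1 e
  have il : Ind 𝓝(P) M (lin l) ∈ irr 𝓝(P) :=
    (inertia_Ind_irr_iff hN (lin_irr l)).2 fun g hg => lP g hg.1 hg.2
  have o1 : dot 𝓝(P) (Ind 𝓝(P) M (lin l)) (Ind 𝓝(P) M (triv M)) = 0 :=
    Ind_ortho_of_ne hN (triv_irr M) (lin_irr l) fun e => l0 ((cfInd_irr_eq1 hN (lin_irr l)).1 e)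
  have o2 : dot 𝓝(P) (Ind 𝓝(P) M (triv M)) (Ind 𝓝(P) M (triv M)) = 2 := by
    rw [dot_Ind_Ind, hN.Ind_triv, dot_smul_left, dot_triv_triv, h2]; norm_num
  have n3 : dot ⊤ (Ind ⊤ 𝓝(P) α) (Ind ⊤ 𝓝(P) α) = 3 := by
    rw [nti.dot_Ind oα (Ind_CInv _ _ _) oα]
    simp only [α, map_sub, dot_sub_left, dot_sub_right, o1, dot_comm_zero o1, o2, dot_irr_self il]
    norm_num
  have t1 : dot ⊤ (Ind ⊤ 𝓝(P) α) (triv ⊤) = 1 := by
    rw [Ind_Ind le_top, dot_Ind_left _ _ (irr_CInv (triv_irr ⊤)),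
      dot_congr_right (A := (M : Set G)) (sub_mem (irr_on (triv_irr M)) (lin_on l)) (ψ' := triv M)
        fun x hx => by rw [triv_of_mem (mem_top x), triv_of_mem hx],
      dot_sub_left, dot_triv_triv, dot_irr_ne (lin_irr l) (triv_irr M) l0, sub_zero]
  have vc : Ind ⊤ 𝓝(P) α ∈ VC ⊤ :=
    VC_Ind le_top (VC_Ind MN (sub_mem (triv_VC M) (irr_VC (lin_irr l))))
  have dt := irr_Dirr (triv_irr (⊤ : Subgroup G))
  have n2 : nrm ⊤ (Ind ⊤ 𝓝(P) α - triv ⊤) = 2 := by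
    rw [nrm_sub_Dirr dt t1, nrm_of_dot_nat (n := 3) (by exact_mod_cast n3)]; norm_num
  obtain ⟨a, b, ha, hb', hab, e⟩ := exists_of_nrm_two (sub_mem vc (triv_VC ⊤)) n2
  have s0 : dot ⊤ a (triv ⊤) + dot ⊤ b (triv ⊤) = 0 := by
    rw [← dot_add_left, ← e, dot_sub_left, t1, dot_triv_triv, sub_self]
  have k : ∀ a b : G → ℂ, Dirr ⊤ a → dot ⊤ a b = 0 → dot ⊤ a (triv ⊤) + dot ⊤ b (triv ⊤) = 0 →
      dot ⊤ a (triv ⊤) = 0 := fun a b ha hab s => by
    rcases ha.eq_or dt with e | e | e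
    · rw [e] at hab; rw [dot_comm_zero hab, add_zero] at s; exact s
    · rw [e, dot_neg_left, neg_eq_zero] at hab; rw [dot_comm_zero hab, add_zero] at s; exact s
    · exact e
  refine ⟨a, b, ha, hb', hab, k a b ha hab s0, k b a hb' (dot_comm_zero hab) ((add_comm _ _).trans s0), fun x hx => ?_⟩
  rw [add_assoc, ← e, add_sub_cancel]
  refine mem_cfOn.1 (Ind_on_clsup oα) x ?_
  rintro ⟨g, -, y, hy, rfl⟩
  exact hx (by rw [orderOf_conj']; exact hy.2)

section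
variable [IsSimpleGroup G] (hZ : center G = ⊥) (hc : Dirr (⊤ : Subgroup G) c) (h0 : dot ⊤ c (triv ⊤) = 0)
  (hn : c 1 = n)
include hc hn

theorem dirr_deg : n ≠ 0 ∧ n.natAbs ∣ Nat.card G := by
  refine ⟨fun e => hc.one_ne (by rw [hn, e, Int.cast_zero]), ?_⟩
  obtain ⟨s, hs, h⟩ := hc.sign
  obtain ⟨m, -, e⟩ := irr_one_pos h
  have := irr_one_dvd h e
  rw [Pi.smul_apply, hn, zsmul_eq_mul, ← Int.cast_mul, ← Int.cast_natCast, Int.cast_inj] at e
  rwa [card_top, show m = n.natAbs by rcases hs with rfl | rfl <;> omega] at this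

include hZ h0

theorem dirr_van (x1 : x ≠ 1) (h : n.natAbs.Coprime ι(x)) : c x = 0 := by
  obtain ⟨s, hs, hi⟩ := hc.sign
  obtain ⟨m, -, e⟩ := irr_one_pos hi
  have e' := e
  rw [Pi.smul_apply, hn, zsmul_eq_mul, ← Int.cast_mul, ← Int.cast_natCast, Int.cast_inj] at e'
  have hi' := mem_irr_top.1 hi
  have s0 : s ≠ 0 := by omega
  rcases CChar.CharInt.eq_zero_or_mem_charCenter_of_coprime hi' e x
    (by rwa [show m = n.natAbs by rcases hs with rfl | rfl <;> omega]) with h1 | h1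
  · simpa [s0] using h1
  · rw [CChar.CharKer.charCenter_eq_center hi' (CChar.CharKer.charKer_eq_bot_of_simple hi' fun e => ?_), hZ] at h1
    · exact absurd h1 x1
    · have h2 := dot_irr_self hi
      rw [show s • c = triv ⊤ from e.trans (funext fun x => (triv_of_mem (mem_top x)).symm)] at h2
      have h3 : dot ⊤ (s • c) (triv ⊤) = 1 := by
        rw [show s • c = triv ⊤ from e.trans (funext fun x => (triv_of_mem (mem_top x)).symm), h2]
      rw [dot_zsmul_left, h0, mul_zero] at h3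
      exact zero_ne_one h3

theorem dirr_odd (hG : ∀ r, r.Prime → r ∣ Nat.card G → r = 2 ∨ r = p ∨ r = q) (ot : orderOf t = 2)
    (ht : ¬ q ∣ ι(t)) (ho : ¬ (2 : ℤ) ∣ n) : (p : ℤ) ∣ n := by
  by_contra e
  have h1 : c t = 0 := dirr_van hZ hc h0 hn (ne_one_of_prime Nat.prime_two ot)
    (Nat.coprime_of_dvd fun r hr h1 h2 => by
      rcases hG r hr (h1.trans (dirr_deg hc hn).2) with rfl | rfl | rfl
      · exact ho (Int.natCast_dvd.2 h1)
      · exact e (Int.natCast_dvd.2 h1)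
      · exact ht h2)
  obtain ⟨ω, h2, h3⟩ := vchar_ker_mod_prim (IsPrimitiveRoot.neg_one 0 (by decide)) hc.VC (mem_top t) (mem_top 1) ot
    (by simp)
  rw [mul_one, h1, hn, zero_sub, ← Int.cast_neg] at h3
  exact ho (dvd_neg.1 (int_eqAmod_prime_prim (IsPrimitiveRoot.neg_one 0 (by decide)) Nat.prime_two h2 h3))

end

theorem Th.one (h : Th p a b) (hp : p.Prime) (hn : a 1 = n) : b 1 = (-1 - n : ℤ) := by
  have := h.z 1 (by rw [orderOf_one]; exact hp.not_dvd_one)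
  rw [Pi.add_apply, Pi.add_apply, hn, triv_of_mem (mem_top _)] at this
  push_cast
  linear_combination this

theorem two_pow_small {m : ℤ} (h0 : m ≠ 0) (h : ∀ r, r.Prime → r ∣ m.natAbs → r = 2) (h4 : ¬ (4 : ℤ) ∣ m) :
    m.natAbs ≤ 2 := by
  obtain ⟨k, e⟩ := PiNat.exists_pow (n := m.natAbs) Nat.prime_two h (by omega)
  rcases k with _ | _ | k
  · omega
  · omega
  · exact absurd (Int.natCast_dvd.2 (show 4 ∣ m.natAbs from e ▸ ⟨2 ^ k, by ring⟩)) h4

variable [IsSimpleGroup G] (hZ : center G = ⊥) (hp : p.Prime) (hq : q.Prime) (p2 : p ≠ 2) (q2 : q ≠ 2) (pq : p ≠ q)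
  (hG : ∀ r, r.Prime → r ∣ Nat.card G → r = 2 ∨ r = p ∨ r = q) (ot : orderOf t = 2) (ht : ¬ q ∣ ι(t))
  (hx : ∀ x : G, p ∣ orderOf x → ¬ p ∣ ι(x))
include hZ hp hq p2 q2 pq hG ot ht hx

theorem th_fin (h : Th p c d) (h' : Th q (-c) e) : False := by
  obtain ⟨n, hn⟩ := VC_one_int h.da.VC
  have hd := h.one hp hn
  have he := h'.one hq (n := -n) (by rw [Pi.neg_apply, hn, Int.cast_neg])
  have n2 : ∀ r : ℕ, r.Prime → r ≠ 2 → ¬ (r : ℤ) ∣ 2 := fun r hr h e =>
    h ((Nat.prime_dvd_prime_iff_eq hr Nat.prime_two).1 (Int.natCast_dvd.1 e))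
  by_cases ev : (2 : ℤ) ∣ n
  · have h1 := dirr_odd hZ h.db h.tb hd hG ot ht (by omega)
    have h2 := dirr_odd hZ h'.db h'.tb he hG ot ht (by omega)
    exact n2 p hp p2 (by simpa [show -1 - n + (-1 - -n) = -2 by ring] using dvd_add h1 h2)
  have h1 := dirr_odd hZ h.da h.ta hn hG ot ht ev
  by_cases hqn : (q : ℤ) ∣ n
  · have k : ∀ m : ℤ, (m + n = -1 ∨ m - n = -1) → m.natAbs ∣ Nat.card G → ∀ r, r.Prime → r ∣ m.natAbs → r = 2 := by
      intro m hm hd r hr e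
      have k : ∀ s : ℕ, s.Prime → (s : ℤ) ∣ n → ¬ s ∣ m.natAbs := fun s hs e1 e2 => by
        have e3 := Int.natCast_dvd.2 e2
        refine hs.not_dvd_one (Int.natCast_dvd.1 (dvd_neg.1 (?_ : (s : ℤ) ∣ -1)))
        rcases hm with hm | hm
        · exact hm ▸ dvd_add e3 e1
        · exact hm ▸ dvd_sub e3 e1
      rcases hG r hr (e.trans hd) with rfl | rfl | rfl
      · rfl
      · exact absurd e (k _ hr h1)
      · exact absurd e (k _ hr hqn)
    have d1 := dirr_deg h.db hd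
    have d2 := dirr_deg h'.db he
    have h3 : n.natAbs ≤ 3 := by
      by_cases h4 : (4 : ℤ) ∣ -1 - n
      · have := two_pow_small d2.1 (k _ (by omega) d2.2) (by omega); omega
      · have := two_pow_small d1.1 (k _ (by omega) d1.2) h4; omega
    have h5 := Nat.le_of_dvd (by have := (dirr_deg h.da hn).1; omega)
      (((Nat.coprime_primes hp hq).2 pq).mul_dvd_of_dvd_of_dvd (Int.natCast_dvd.1 h1) (Int.natCast_dvd.1 hqn))
    nlinarith [hp.two_le, hq.two_le]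
  · have h2 : dot ⊤ c (triv ⊤ + c + d) = 0 := dot_eq_zero_of_disjoint fun x => by
      by_cases e : p ∣ orderOf x
      · refine .inl (dirr_van hZ h.da h.ta hn (fun e' => hp.not_dvd_one (by rwa [e', orderOf_one] at e))
          (Nat.coprime_of_dvd fun r hr h1 h2 => ?_))
        rcases hG r hr (h1.trans (dirr_deg h.da hn).2) with rfl | rfl | rfl
        · exact ev (Int.natCast_dvd.2 h1)
        · exact hx x e h2
        · exact hqn (Int.natCast_dvd.2 h1)
      · exact .inr (h.z x e)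
    rw [dot_add_right, dot_add_right, h.ta, h.ab, h.da.dot_self] at h2
    norm_num at h2

theorem th_two (hpq : ∀ x : G, p ∣ orderOf x → ¬ q ∣ orderOf x) (h : Th p a b) (h' : Th q c d) : False := by
  have k : ∀ {a b c d : G → ℂ}, Th p a b → Th q c d → dot ⊤ a c = 0 ∨ dot ⊤ a c = 1 := fun h h' => by
    rcases h'.da.eq_or h.da with e | e | e
    · exact .inr (e ▸ h'.da.dot_self)
    · exact (th_fin hZ hp hq p2 q2 pq hG ot ht hx h (e ▸ h')).elim
    · exact .inl (dot_comm_zero e)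
  have h0 : dot ⊤ (triv ⊤ + a + b) (triv ⊤ + c + d) = 0 := dot_eq_zero_of_disjoint fun x =>
    (em (p ∣ orderOf x)).elim (fun e => .inr (h'.z x (hpq x e))) fun e => .inl (h.z x e)
  simp only [dot_add_left, dot_add_right, dot_triv_triv, h.ta, h.tb, dot_comm_zero h'.ta, dot_comm_zero h'.tb] at h0
  rcases k h h' with e1 | e1 <;> rcases k h h'.symm with e2 | e2 <;> rcases k h.symm h' with e3 | e3 <;>
    rcases k h.symm h'.symm with e4 | e4 <;> rw [e1, e2, e3, e4] at h0 <;> norm_num at h0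

end CA.R3
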