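import Cfsg.Agent.Lib.Cit.D1

/-! The final amalgam of a `CIT` group: one half of it. -/

set_option autoImplicit false

namespace CA.Cit

open Subgroup Cfsg CA.BG

variable {G : Type*} [Group G]

/-- `V` is a self-centralising natural module for `N(V) / V`, whose Sylow subgroup is `V ⊔ W` -/
structure Half (V W : Subgroup G) (q : ℕ) : Prop where
  el : El2 V
  cent : 𝓒(V) = V
  norm : W ≤ 𝓝(V)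
  syl : Syl 2 (V ⊔ W) 𝓝(V)
  cardV : ♯V = q ^ 2
  cardU : ♯(V ⊓ W : Subgroup G) = q
  cardM : ♯𝓝(V) = (q + 1) * (q - 1) * q ^ 3
  fix : ∀ a ∈ V ⊔ W, a ∉ V → V ⊓ 𝓒₁(a) = V ⊓ W
  cU : ∀ u ∈ V ⊓ W, u ≠ 1 → 𝓝(V) ⊓ 𝓒₁(u) = V ⊔ W
  ne : ∃ g ∈ 𝓝(V), g ∉ 𝓝(W)
  ti : ∀ g ∈ 𝓝(V), g ∉ 𝓝(W) → V ⊓ W ⊓ cj g W = ⊥
  part : ∀ v ∈ V, ∃ g ∈ 𝓝(V), v ∈ cj g W
  tr : ∀ g ∈ 𝓝(V), g ∉ 𝓝(W) → ∀ g' ∈ 𝓝(V), g' ∉ 𝓝(W) → ∃ a ∈ W, cj a (cj g W) = cj g' W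
  trU : ∀ u ∈ V ⊓ W, ∀ u' ∈ V ⊓ W, u ≠ 1 → u' ≠ 1 → ∃ g ∈ 𝓝(V) ⊓ 𝓝(W), g * u * g⁻¹ = u'
  three : ∃ a ∈ W, ∃ x ∈ 𝓝(V), x ^ 3 = 1 ∧ x ≠ 1 ∧ a * x * a⁻¹ = x⁻¹

/-- no proper subgroup contains a Sylow `2`-normaliser and the centralisers of its involutions -/
def NoSE (G : Type*) [Group G] : Prop :=
  ∀ H S : Subgroup G, Syl 2 S ⊤ → 𝓝(S) ≤ H → (∀ t ∈ S, t ≠ 1 → t * t = 1 → 𝓒₁(t) ≤ H) → H = ⊤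

/-- the projective groups in the list of simple `CIT` groups -/
def L2c (G : Type*) [Group G] : Prop := ∃ (F : Type) (_ : Field F) (_ : Fintype F),
  (Fintype.card F = 9 ∨ (∃ n : ℕ, Fintype.card F = 2 ^ n) ∨
    ((Fintype.card F).Prime ∧ ∃ k : ℕ, Fintype.card F = 2 ^ k + 1 ∨ Fintype.card F + 1 = 2 ^ k)) ∧
  Nonempty (G ≃* Matrix.ProjectiveSpecialLinearGroup (Fin 2) F)

/-- `L₃(4)` -/
def L34 (G : Type*) [Group G] : Prop := ∃ (F : Type) (_ : Field F) (_ : Fintype F), Fintype.card F = 4 ∧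
  Nonempty (G ≃* Matrix.ProjectiveSpecialLinearGroup (Fin 3) F)

end CA.Cit
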