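import Cfsg.Agent.Lib.Cit.Ca
import Cfsg.Agent.Lib.Grp.Fpf
import Cfsg.Agent.Lib.Grp.PGClassTwo
import Cfsg.Agent.Lib.Odd.BG6a

/-! Groups whose involutions have `2`-groups as centralisers: elements of order three. -/

set_option autoImplicit false
set_option linter.unusedSectionVars false

namespace CA.Cit

open Subgroup Cfsg CA.BG CA.GW CA.Wa CA.Ca
open scoped commutatorElement

theorem levi_ring {R : Type*} [Ring R] {a b : R} (a2 : a * a = 0) (b2 : b * b = 0)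
    (e0 : ((1 + a) * (1 + b) - 1) * ((1 + a) * (1 + b) - 1) = 0) :
    a * b + b * a = 0 ∧ (1 + a) * (1 + b) * (1 - a) * (1 - b) - 1 = a * b + a * b := by
  have a3 : ∀ c, a * (a * c) = 0 := fun c => by rw [← mul_assoc, a2, zero_mul]
  have b3 : ∀ c, b * (b * c) = 0 := fun c => by rw [← mul_assoc, b2, zero_mul]
  have e1 : a * b + b * a + b * (a * b) + a * (b * a) + a * (b * (a * b)) = 0 := by
    rw [← e0]; simp only [mul_add, add_mul, mul_sub, sub_mul, mul_one, one_mul, mul_assoc, a2, b2, a3, b3, mul_zero]; abel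
  have e2 : a * (b * a) = 0 := by
    have := congrArg (fun c => a * c * (1 - b)) e1
    simpa only [mul_add, add_mul, mul_sub, mul_one, mul_assoc, a3, b2, mul_zero, zero_mul, zero_add, add_zero, sub_zero,
      add_sub_cancel_right] using this
  have e3 : b * (a * b) = 0 := by
    have h1 : a * (b * (a * b)) = 0 := by rw [← mul_assoc b, ← mul_assoc, e2, zero_mul]
    rw [h1, e2] at e1
    have := congrArg (fun c => b * c) e1
    simpa only [mul_add, b3, mul_zero, add_zero] using this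
  have e4 : a * b + b * a = 0 := by simpa [e2, e3] using e1
  refine ⟨e4, ?_⟩
  simp only [mul_add, add_mul, mul_sub, sub_mul, mul_one, one_mul, mul_assoc, a2, b2, a3, b3, mul_zero, e2, e3,
    zero_mul]
  rw [eq_neg_of_add_eq_zero_left e4]; abel

section
variable {H : Type*} [Group H] (h : ∀ a g : H, Commute a (g * a * g⁻¹))
include h

theorem levi_aux (x y z : H) : ⁅y, ⁅z, x⁆⁆ * ⁅z, ⁅y, x⁆⁆ = 1 ∧ ⁅⁅y, z⁆, x⁆ = ⁅y, ⁅z, x⁆⁆ ^ 2 ∧
    ⁅y, ⁅x, z⁆⁆ = ⁅y, ⁅z, x⁆⁆⁻¹ := by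
  have hc : IsMulCommutative (normalClosure {x}) := by
    refine isMulCommutative_closure ?_
    intro a ha b hb
    obtain ⟨_, rfl, h1⟩ := Group.mem_conjugatesOfSet_iff.1 ha
    obtain ⟨_, rfl, h2⟩ := Group.mem_conjugatesOfSet_iff.1 hb
    obtain ⟨g, rfl⟩ := isConj_iff.1 (h1.symm.trans h2)
    exact h a g
  letI : CommGroup (normalClosure {x}) := { mul_comm := hc.is_comm.comm }
  let ρ : H →* AddMonoid.End (Additive (normalClosure {x})) :=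
    { toFun g := MonoidHom.toAdditive (MulAut.conjNormal g : MulAut (normalClosure {x})).toMonoidHom
      map_one' := by ext; rw [map_one]; rfl
      map_mul' a b := by ext; rw [map_mul]; rfl }
  have v : ∀ g u, (((ρ g - 1) u).toMul : H) = ⁅g, (u.toMul : H)⁆ := fun g u => by
    change (((ρ g u - u).toMul : normalClosure {x}) : H) = _
    rw [toMul_sub, div_eq_mul_inv, coe_mul, coe_inv]; rfl
  have sq : ∀ g, (ρ g - 1) * (ρ g - 1) = 0 := fun g => by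
    ext u
    change (((ρ g - 1) ((ρ g - 1) u)).toMul : H) = 1
    rw [v, v, commutatorElement_eq_one_iff_commute, commutatorElement_def, mul_assoc, mul_assoc]
    exact (Commute.refl g).mul_right (by simpa [mul_assoc] using (h g u.toMul).inv_right)
  have inv : ∀ g, ρ g⁻¹ = 1 - (ρ g - 1) := fun g => by
    have e : ρ g * (1 - (ρ g - 1)) = 1 - (ρ g - 1) * (ρ g - 1) := by
      simp only [mul_sub, sub_mul, mul_one, one_mul]; abel
    rw [sq, sub_zero] at e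
    rw [← mul_one (ρ g⁻¹), ← e, ← mul_assoc, ← map_mul, inv_mul_cancel, map_one, one_mul, e]
  obtain ⟨a, ha⟩ : ∃ a, ρ y = 1 + a := ⟨ρ y - 1, by abel⟩
  obtain ⟨b, hb⟩ : ∃ b, ρ z = 1 + b := ⟨ρ z - 1, by abel⟩
  obtain ⟨e4, e5⟩ := levi_ring (a := a) (b := b) (by simpa [ha] using sq y) (by simpa [hb] using sq z)
    (by simpa only [map_mul, ha, hb] using sq (y * z))
  replace e5 : ρ ⁅y, z⁆ - 1 = a * b + a * b := by
    rw [commutatorElement_def, map_mul, map_mul, map_mul, inv, inv, ha, hb, add_sub_cancel_left, add_sub_cancel_left, e5]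
  have ha' : a = ρ y - 1 := by rw [ha]; abel
  have hb' : b = ρ z - 1 := by rw [hb]; abel
  set u : Additive (normalClosure {x}) := Additive.ofMul ⟨x, subset_normalClosure rfl⟩
  have k1 : (((a * b) u).toMul : H) = ⁅y, ⁅z, x⁆⁆ := by
    change ((a (b u)).toMul : H) = _
    rw [ha', hb', v, v]; rfl
  have k2 : (((b * a) u).toMul : H) = ⁅z, ⁅y, x⁆⁆ := by
    change ((b (a u)).toMul : H) = _
    rw [ha', hb', v, v]; rfl
  refine ⟨?_, ?_, ?_⟩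
  · rw [← k1, ← k2]
    exact congrArg (fun c : AddMonoid.End _ => ((c u).toMul : H)) e4
  · rw [← k1, pow_two]
    exact (v _ u).symm.trans (congrArg (fun c : AddMonoid.End _ => ((c u).toMul : H)) e5)
  · rw [← k1]
    have := v y (-(b u))
    rw [map_neg, ← ha', toMul_neg, toMul_neg, coe_inv, coe_inv, hb', v, commutatorElement_inv, ← hb'] at this
    exact this.symm

theorem levi (x y z : H) : ⁅x, ⁅y, z⁆⁆ ^ 3 = 1 := by
  obtain ⟨-, h2, h3⟩ := levi_aux h x y z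
  have h4 := (levi_aux h z y x).1
  rw [h3, inv_mul_eq_one] at h4
  rw [← commutatorElement_inv, h4, inv_eq_iff_mul_eq_one] at h2
  rw [pow_succ', h2]

end

variable {G : Type*} [Group G] [Finite G] {A K M Q S T V X Y : Subgroup G} {a b g t v x y z : G}

theorem one_of_cube (hQ : IsPi {2} Q) (hx : x ∈ Q) (h3 : x ^ 3 = 1) : x = 1 :=
  orderOf_eq_one_iff.1 ((hQ.orderOf hx).eq_one (((piNat_prime Nat.prime_three).2 (by simp)).of_dvd
    (orderOf_dvd_of_pow_eq_one h3)))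

section
variable (hx : x ∈ 𝓝(Q)) (h3 : x ^ 3 = 1) (hf : Q ⊓ 𝓒₁(x) = ⊥)
include hx h3 hf

theorem tri3 (hy : y ∈ Q) : y * (x * y * x⁻¹) * (x⁻¹ * y * x) = 1 := by
  have h1 := CA.Fpf.coset_pow_of_fpf hx h3 hf y hy
  have h2 : x⁻¹ = x * x := by rw [inv_eq_iff_mul_eq_one, ← h3, pow_three]
  rw [← h1]
  calc _ = y * x * y * (x⁻¹ * x⁻¹) * y * x := by group
    _ = _ := by rw [show x⁻¹ * x⁻¹ = x by rw [← mul_inv_rev, ← h2, inv_inv], pow_three]; group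

theorem engel3 (hy : y ∈ Q) (hg : g ∈ Q) : Commute y (g * (x * y * x⁻¹) * g⁻¹) := by
  have c1 := CA.Fpf.coset_pow_of_fpf hx h3 hf
  have c2 := CA.Fpf.coset_pow_of_fpf (inv_mem hx) (by rw [inv_pow, h3, inv_one]) (a := x⁻¹)
    (eq_bot_iff.2 fun y hy => hf.le ⟨hy.1, mem_cent1_symm.1 (by simpa using inv_mem (mem_cent1_symm.1 hy.2))⟩)
  have k0 := c1 g hg
  have k1 := c1 _ (mul_mem hy hg)
  have k2 := c2 _ (mul_mem (inv_mem hg) hy)
  rw [mul_assoc] at k1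
  have k3 : (y * (g * x)⁻¹) ^ 3 = 1 := by
    rw [show y * (g * x)⁻¹ = g * (g⁻¹ * y * x⁻¹) * g⁻¹ by group, conj_pow, k2]; group
  rw [show g * (x * y * x⁻¹) * g⁻¹ = (g * x) * y * (g * x)⁻¹ by group]
  generalize g * x = s at k0 k1 k3
  have e : s⁻¹ * s⁻¹ = s := by rw [← mul_inv_rev, inv_eq_iff_mul_eq_one, ← k0, pow_three']
  have e' : s * s = s⁻¹ := by rw [eq_inv_iff_mul_eq_one, ← k0, pow_three']
  have h1 : y * (s * y * s⁻¹) * (s⁻¹ * y * s) = 1 := by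
    rw [← k1]
    calc _ = y * s * y * (s⁻¹ * s⁻¹) * y * s := by group
      _ = _ := by rw [e, pow_three]; group
  have h2 : y * (s⁻¹ * y * s) * (s * y * s⁻¹) = 1 := by
    rw [← k3]
    calc _ = y * s⁻¹ * y * (s * s) * y * s⁻¹ := by group
      _ = _ := by rw [e', pow_three]; group
  generalize s * y * s⁻¹ = p at h1 h2
  generalize s⁻¹ * y * s = q at h1 h2
  have h4 : q = (y * p)⁻¹ := eq_inv_of_mul_eq_one_right h1
  rw [h4] at h2
  have h5 : y * p⁻¹ * y⁻¹ * p = 1 := by rw [← h2]; group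
  exact (Commute.inv_right_iff.1 (show y * p⁻¹ = p⁻¹ * y by
    calc _ = (y * p⁻¹ * y⁻¹ * p) * p⁻¹ * y := by group
      _ = _ := by rw [h5, one_mul]))

theorem comm3 (hy : y ∈ Q) : Commute y (x * y * x⁻¹) := by
  simpa using engel3 hx h3 hf hy (one_mem _)

theorem cls2 (hQ : IsPi {2} Q) : ⁅Q, Q⁆ ≤ 𝓒(Q) := by
  have hf' : Q ⊓ 𝓒₁(x⁻¹) = ⊥ :=
    eq_bot_iff.2 fun y hy => hf.le ⟨hy.1, mem_cent1_symm.1 (by simpa using inv_mem (mem_cent1_symm.1 hy.2))⟩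
  have h1 : ∀ a g : Q, Commute a (g * a * g⁻¹) := fun a g => Subtype.ext (by
    have e1 := engel3 hx h3 hf a.2 g.2
    have e2 := engel3 (inv_mem hx) (by rw [inv_pow, h3, inv_one]) hf' a.2 g.2
    have e3 := (e1.mul_right e2).inv_right
    rw [inv_inv, conj_mul, eq_inv_of_mul_eq_one_right ((mul_assoc _ _ _).symm.trans (tri3 hx h3 hf a.2)), conj_inv,
      inv_inv] at e3
    exact e3)
  refine commutator_le.2 fun y hy z hz => mem_cent.2 fun w hw => commutatorElement_eq_one_iff_mul_comm.1 ?_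
  have h2 : ⁅w, ⁅y, z⁆⁆ ^ 3 = 1 := congrArg Subtype.val (levi h1 ⟨w, hw⟩ ⟨y, hy⟩ ⟨z, hz⟩)
  have h4 : ⁅w, ⁅y, z⁆⁆ ∈ Q := (⁅(⟨w, hw⟩ : Q), ⁅(⟨y, hy⟩ : Q), (⟨z, hz⟩ : Q)⁆⁆).2
  exact one_of_cube hQ h4 h2

end

/-- exponent two -/
def El2 (V : Subgroup G) : Prop := ∀ v ∈ V, v * v = 1

theorem El2.inv (h : El2 V) (hv : v ∈ V) : v⁻¹ = v := inv_eq_of_mul_eq_one_right (h v hv)

theorem El2.mc (h : El2 V) (hv : x ∈ V) (hw : y ∈ V) : x * y = y * x := by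
  rw [← h.inv (mul_mem hv hw), mul_inv_rev, h.inv hv, h.inv hw]

theorem El2.cent (h : El2 V) : V ≤ 𝓒(V) := fun _ hx => mem_cent.2 fun _ hy => h.mc hy hx

theorem El2.comm (h : El2 V) : IsMulCommutative V := comm_iff_le_cent.2 h.cent

theorem El2.pi (h : El2 V) : IsPi {2} V := isPi_of_orderOf fun x hx =>
  ((piNat_prime (π := {2}) Nat.prime_two).2 rfl).of_dvd (orderOf_dvd_of_pow_eq_one (by rw [pow_two, h x hx]))

theorem El2.le (h : El2 V) (hA : A ≤ V) : El2 A := fun v hv => h v (hA hv)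

theorem El2.conj (h : El2 V) (g : G) : El2 (cj g V) := fun v hv => by
  obtain ⟨y, hy, rfl⟩ := mem_cj'.1 hv
  rw [conj_mul, h y hy, mul_one, mul_inv_cancel]

theorem El2.ord (h : El2 V) (hv : v ∈ V) (h1 : v ≠ 1) : orderOf v = 2 :=
  orderOf_eq_prime (by rw [pow_two, h v hv]) h1

theorem El2.br (h : El2 V) (ha : a ∈ 𝓝(V)) (h2 : a * a ∈ 𝓒(V)) (hv : v ∈ V) : v * (a * v * a⁻¹) ∈ V ⊓ 𝓒₁(a) := by
  have h1 := conj_mem_of_mem_norm ha hv
  refine ⟨mul_mem hv h1, mem_cent1.2 ?_⟩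
  calc _ = a * v * a⁻¹ * v * a := by rw [h.mc hv h1]
    _ = a * v * a⁻¹ * (v * (a * a)) * a⁻¹ := by group
    _ = _ := by rw [mem_cent.1 h2 v hv]; group

/-- an involution acting freely -/
theorem El2.free (h : El2 V) (ha : a ∈ 𝓝(V)) (h2 : a * a ∈ 𝓒(V)) (hg : g ∈ 𝓝(V))
    (hd : V ⊓ 𝓒₁(a) ⊓ 𝓒₁(g * a * g⁻¹) = ⊥) :
    ♯V = ♯(V ⊓ 𝓒₁(a) : Subgroup G) ^ 2 ∧ ∀ u ∈ V ⊓ 𝓒₁(a), ∃ v ∈ V, v * (a * v * a⁻¹) = u := by
  let f : V →* G := MonoidHom.mk' (fun v => v * (a * v * a⁻¹)) fun v w => by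
    have := h.mc w.2 (conj_mem_of_mem_norm ha v.2)
    calc _ = v * (w * (a * v * a⁻¹)) * (a * w * a⁻¹) := by simp only [coe_mul]; group
      _ = _ := by rw [this]; group
  have h1 : f.range ≤ V ⊓ 𝓒₁(a) := by rintro _ ⟨v, rfl⟩; exact h.br ha h2 v.2
  have h3 : f.ker = (V ⊓ 𝓒₁(a)).subgroupOf V := by
    ext v
    rw [MonoidHom.mem_ker, mem_subgroupOf, mem_inf, mem_cent1, and_iff_right v.2]
    change (v : G) * (a * v * a⁻¹) = 1 ↔ _
    rw [mul_eq_one_iff_inv_eq, h.inv v.2, eq_mul_inv_iff_mul_eq]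
  have h4 := f.ker.card_mul_index
  rw [index_ker, h3, Nat.card_congr (subgroupOfEquivOfLe inf_le_left).toEquiv] at h4
  have h5 : cj g (V ⊓ 𝓒₁(a)) = V ⊓ 𝓒₁(g * a * g⁻¹) := by rw [cj_inf, cj_of_mem_norm hg, cj_cent1]
  have h6 := card_le_of_le' (sup_le (inf_le_left : V ⊓ 𝓒₁(a) ≤ V) (h5.le.trans inf_le_left))
  rw [card_sup_of_disjoint (inf_le_left.trans (norm_of_comm h.comm (h5.le.trans inf_le_left)))
    (by rw [h5, ← inf_inf_distrib_left, ← inf_assoc, hd]), card_cj, ← h4] at h6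
  have h7 := eq_of_le_of_card_le h1 (Nat.le_of_mul_le_mul_left h6 (card_pos' _))
  refine ⟨by rw [← h4, h7, pow_two], fun u hu => ?_⟩
  obtain ⟨v, e⟩ := h7.ge hu
  exact ⟨v, v.2, e⟩

theorem exists_sq_mem (hY : IsPi {2} Y) (h : ¬ Y ≤ X) : ∃ y ∈ Y, y ∉ X ∧ y * y ∈ X := by
  by_contra h1
  push Not at h1
  refine h fun y hy => ?_
  obtain ⟨k, hk⟩ := (hY.orderOf hy).exists_pow Nat.prime_two (orderOf_pos _).ne'
  have h2 : ∀ k, y ^ 2 ^ k ∈ X → y ∈ X := fun k => by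
    induction k with
    | zero => simp
    | succ k ih =>
      intro e
      rw [pow_succ, pow_mul, pow_two] at e
      exact ih (by_contra fun e' => h1 _ (pow_mem hy _) e' e)
  exact h2 k (by rw [← hk, pow_orderOf_eq_one]; exact one_mem _)

theorem dih_inf (h3 : x ^ 3 = 1) (hf : Q ⊓ 𝓒₁(x) = ⊥) (e : a * x * a⁻¹ = x⁻¹) :
    Q ⊓ 𝓒₁(a) ⊓ 𝓒₁(x * a * x⁻¹) = ⊥ := eq_bot_iff.2 fun v hv => hf.le ⟨hv.1.1, mem_cent1_symm.1 (by
  have := mul_mem (mem_cent1_symm.1 hv.1.2) (inv_mem (mem_cent1_symm.1 hv.2))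
  rwa [show a * (x * a * x⁻¹)⁻¹ = a * x * a⁻¹ * x⁻¹ by group, e, ← mul_inv_rev,
    ← eq_inv_of_mul_eq_one_left ((mul_assoc _ _ _).symm.trans ((pow_three' x).symm.trans h3))] at this)⟩

/-- a fixed point of `a` with nontrivial square -/
theorem exists_sq (hQ : IsPi {2} Q) (hx : x ∈ 𝓝(Q)) (h3 : x ^ 3 = 1) (hf : Q ⊓ 𝓒₁(x) = ⊥) (ha : a ∈ 𝓝(Q))
    (a2 : a * a = 1) (e : a * x * a⁻¹ = x⁻¹) (hV : ∀ y, y ∈ V ↔ y ∈ 𝓩(Q) ∧ y * y = 1) (hne : ¬ Q ≤ V) :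
    ∃ r ∈ Q ⊓ 𝓒₁(a), r * r ≠ 1 ∧ r * r ∈ V := by
  have el : El2 V := fun v hv => ((hV v).1 hv).2
  have VZ : V ≤ 𝓩(Q) := fun v hv => ((hV v).1 hv).1
  have nV : 𝓝(Q) ≤ 𝓝(V) := fun g hg => mem_norm_of_cj_le fun v hv => by
    obtain ⟨w, hw, rfl⟩ := mem_cj'.1 hv
    exact (hV _).2 ⟨conj_mem_of_mem_norm (norm_center Q hg) (VZ hw), by rw [conj_mul, el w hw]; group⟩
  have cZ : ∀ p ∈ Q, ∀ q ∈ Q, ⁅p, q⁆ ∈ 𝓩(Q) := fun p hp q hq =>
    ⟨der_le Q (commutator_mem_commutator hp hq), cls2 hx h3 hf hQ (commutator_mem_commutator hp hq)⟩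
  have cc : ∀ {w p q}, w ∈ Q → p ∈ Q → q ∈ Q → Commute w ⁅p, q⁆ := fun hw hp hq => mem_cent.1 (cZ _ hp _ hq).2 _ hw
  have sq : ∀ p ∈ Q, ∀ q ∈ Q, ⁅p * p, q⁆ = ⁅p, q⁆ * ⁅p, q⁆ := fun p hp q hq => PGClassTwo.comm_mul_left (cc hp hp hq)
  obtain ⟨y, hy, y1, y2⟩ : ∃ y ∈ Q, y * y ≠ 1 ∧ y * y ∈ V := by
    by_cases hZ : 𝓩(Q) ≤ V
    · by_contra h1
      push Not at h1
      have h2 : El2 Q := fun y hy => by_contra fun e => h1 y hy e (hZ ⟨mul_mem hy hy, mem_cent.2 fun w hw =>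
        (commutatorElement_eq_one_iff_mul_comm.1 ((sq y hy w hw).trans (el _ (hZ (cZ y hy w hw))))).symm⟩)
      exact hne ((le_inf le_rfl h2.cent).trans hZ)
    · obtain ⟨y, hy, h1, h2⟩ := exists_sq_mem (hQ.inf_left _) hZ
      exact ⟨y, hy.1, fun e => h1 ((hV y).2 ⟨hy, e⟩), h2⟩
  have hd : V ⊓ 𝓒₁(a) ⊓ 𝓒₁(x * a * x⁻¹) = ⊥ := dih_inf h3 (BG.eq_bot_mono (inf_le_inf_right _ (VZ.trans inf_le_left)) hf) e
  have fr := (el.free (nV ha) (a2 ▸ one_mem _) (nV hx) hd).2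
  by_contra hn
  have key : ∀ p ∈ Q, p * p ∈ V → p * p * (a * (p * p) * a⁻¹) = ⁅a * p * a⁻¹, p⁆ := fun p hp h2 => by
    have hp' := conj_mem_of_mem_norm ha hp
    have h2' : a * p * a⁻¹ * (a * p * a⁻¹) ∈ V := by rw [conj_mul]; exact conj_mem_of_mem_norm (nV ha) h2
    have cV : ⁅a * p * a⁻¹, p⁆ ∈ V := (hV _).2 ⟨cZ _ hp' _ hp, by
      rw [← sq _ hp' _ hp]; exact commutatorElement_eq_one_iff_mul_comm.2 (mem_cent.1 (VZ h2').2 _ hp).symm⟩
    have aa : a * (a * p * a⁻¹) * a⁻¹ = p := by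
      rw [show a * (a * p * a⁻¹) * a⁻¹ = a * a * p * (a * a)⁻¹ by group, a2]; group
    obtain ⟨v, hv, ev⟩ := fr _ ⟨cV, mem_cent1.2 (by
      rw [← mul_inv_eq_iff_eq_mul.1 (show a * ⁅a * p * a⁻¹, p⁆ * a⁻¹ = ⁅a * p * a⁻¹, p⁆ by
        rw [conjugate_commutatorElement, aa, ← commutatorElement_inv, el.inv cV])])⟩
    rw [← conj_mul]
    generalize a * p * a⁻¹ = p' at *
    have e1 : p' * p = ⁅p', p⁆ * (p * p') := PGClassTwo.mul_eq_comm_mul p p'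
    generalize ⁅p', p⁆ = c at *
    have cs : c * (p * p') = p * p' * c := (mem_cent.1 (VZ cV).2 _ (mul_mem hp hp')).symm
    have vs : v * (p * p') = p * p' * v := (mem_cent.1 (VZ hv).2 _ (mul_mem hp hp')).symm
    have r2 : p * p' * v * (p * p' * v) = c * (p * p * (p' * p')) := by
      calc _ = p * p' * (v * (p * p')) * v := by group
        _ = p * (p' * p) * p' * (v * v) := by rw [vs]; group
        _ = p * c * (p * p') * p' := by rw [e1, el v hv]; group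
        _ = _ := by rw [mem_cent.1 (VZ cV).2 p hp]; group
    by_contra h4
    refine hn ⟨p * p' * v, ⟨mul_mem (mul_mem hp hp') (VZ hv).1, mem_cent1.2 ?_⟩, fun e => h4 ?_,
      r2 ▸ mul_mem cV (mul_mem h2 h2')⟩
    · have ab : a * p * a⁻¹ = p' := by
        rw [← aa, show a * (a * p' * a⁻¹) * a⁻¹ = a * a * p' * (a * a)⁻¹ by group, a2]; group
      rw [eq_comm, ← mul_inv_eq_iff_eq_mul, ← conj_mul, ← conj_mul, ab, aa, e1, cs, ← ev, mul_assoc, mul_assoc v,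
        el _ (conj_mem_of_mem_norm (nV ha) hv), mul_one]
    · rw [r2, mul_eq_one_iff_inv_eq, el.inv cV] at e; exact e.symm
  have hx' : ∀ p ∈ Q, x * p * x⁻¹ ∈ Q := fun p => conj_mem_of_mem_norm hx
  have I0 : ∀ p ∈ Q, ∀ q ∈ Q, ⁅p, x * q * x⁻¹⁆ = ⁅x * p * x⁻¹, q⁆ := fun p hp q hq => by
    have h1 := commutatorElement_eq_one_iff_commute.2 (comm3 hx h3 hf (mul_mem hp hq))
    rw [← conj_mul, PGClassTwo.comm_mul_left (cc hp hq (mul_mem (hx' p hp) (hx' q hq))),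
      PGClassTwo.comm_mul_right (cc (hx' p hp) hq (hx' q hq)), PGClassTwo.comm_mul_right (cc (hx' p hp) hp (hx' q hq)),
      commutatorElement_eq_one_iff_commute.2 (comm3 hx h3 hf hp),
      commutatorElement_eq_one_iff_commute.2 (comm3 hx h3 hf hq), mul_one, one_mul, mul_eq_one_iff_inv_eq,
      commutatorElement_inv] at h1
    exact h1.symm
  have hy' := conj_mem_of_mem_norm ha hy
  have e' : a * x⁻¹ * a⁻¹ = x := by rw [← conj_inv, e, inv_inv]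
  have v1 := conj_mem_of_mem_norm (nV hx) y2
  have v2 := conj_mem_of_mem_norm' (nV hx) y2
  have k0 := key y hy y2
  have k1 := key _ (hx' y hy) (by rwa [conj_mul])
  have k2 := key _ (conj_mem_of_mem_norm (inv_mem hx) hy) (by rwa [conj_mul, inv_inv])
  rw [conj_mul, show a * (x * y * x⁻¹) * a⁻¹ = (a * x * a⁻¹) * (a * y * a⁻¹) * (a * x⁻¹ * a⁻¹) by group, e, e',
    I0 _ (conj_mem_of_mem_norm' hx hy') _ hy, show x * (x⁻¹ * (a * y * a⁻¹) * x) * x⁻¹ = a * y * a⁻¹ by group] at k1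
  rw [conj_mul, show a * (x⁻¹ * y * x⁻¹⁻¹) * a⁻¹ = (a * x⁻¹ * a⁻¹) * (a * y * a⁻¹) * (a * x * a⁻¹) by group, e, e',
    ← I0 _ hy' _ (conj_mem_of_mem_norm (inv_mem hx) hy), show x * (x⁻¹ * y * x⁻¹⁻¹) * x⁻¹ = y by group, inv_inv] at k2
  have t3 := tri3 hx h3 hf (VZ y2).1
  generalize y * y = v at *
  generalize ⁅a * y * a⁻¹, y⁆ = c at *
  have c1 : c = 1 := by
    have cV : c ∈ V := k0 ▸ mul_mem y2 (conj_mem_of_mem_norm (nV ha) y2)
    rw [← k2, ← el.inv v2, ← eq_inv_of_mul_eq_one_left t3, ← conj_mul, ← el c cV]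
    nth_rw 1 [← k0]
    rw [← k1, mul_assoc v, ← mul_assoc (x * v * x⁻¹), el.mc v1 (conj_mem_of_mem_norm (nV ha) y2)]
    group
  rw [c1, mul_eq_one_iff_inv_eq, eq_mul_inv_iff_mul_eq] at k0 k1
  rw [el.inv y2] at k0
  rw [el.inv v1] at k1
  exact y1 (by simpa using hd.le (show x * v * x⁻¹ ∈ _ from ⟨⟨v1, mem_cent1.2 k1⟩, mem_cent1.2 (by
    rw [conj_mul, conj_mul, k0])⟩))

theorem pi2_of_cube (hQ : IsPi {2} (zpowers x)) (h3 : x ^ 3 ∈ Y) : x ∈ Y := by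
  obtain ⟨m, hm⟩ := exists_pow_eq_self_of_coprime (x := x) (n := 3)
    (((piNat_prime Nat.prime_three).2 (by simp)).coprime' (isPi_zpowers.1 hQ))
  exact hm ▸ pow_mem h3 m

/-- an element of order three inverted by an involution -/
theorem exists_three (hQ : IsPi {2} Q) (ha : a * a = 1) (hb : b * b = 1) (h3 : (a * b) ^ 3 ∈ Q) (h1 : a * b ∉ Q) :
    ∃ x ∈ zpowers (a * b), x ^ 3 = 1 ∧ x ≠ 1 ∧ a * x * a⁻¹ = x⁻¹ := by
  obtain ⟨k, hk⟩ := (hQ.orderOf h3).exists_pow Nat.prime_two (orderOf_pos _).ne'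
  refine ⟨(a * b) ^ 2 ^ k, pow_mem (mem_zpowers _) _, by rw [← pow_mul, mul_comm, pow_mul, ← hk, pow_orderOf_eq_one],
    fun e => h1 (pi2_of_cube (isPi_zpowers.2 ((piNat_pow Nat.prime_two k).of_dvd (orderOf_dvd_of_pow_eq_one e))) h3), ?_⟩
  rw [← conj_pow, ← inv_pow, mul_inv_rev, inv_eq_of_mul_eq_one_right ha, inv_eq_of_mul_eq_one_right hb, ← mul_assoc, ha,
    one_mul]

/-- centralisers of involutions are `2`-groups -/
def CIT (G : Type*) [Group G] : Prop := ∀ t : G, orderOf t = 2 → IsPi {2} 𝓒₁(t)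

namespace CIT
variable (h : CIT G)
include h

theorem c1 (hX : IsPi {2} X) (hx : x ∈ X) (h1 : x ≠ 1) : IsPi {2} 𝓒₁(x) := by
  obtain ⟨n, hn⟩ := exists_inv_pow hX hx h1
  exact (h _ hn).of_le fun y hy => mem_cent1.2 ((show Commute y x from mem_cent1.1 hy).pow_right n)

theorem cent (hX : IsPi {2} X) (h1 : X ≠ ⊥) : IsPi {2} 𝓒(X) :=
  let ⟨_, hx, x1⟩ := exists_ne_one h1
  (h.c1 hX hx x1).of_le (cent_le_cent1 hx)

theorem fpf (hX : IsPi {2} X) (hy : ¬ IsPi {2} (zpowers y)) : X ⊓ 𝓒₁(y) = ⊥ := eq_bot_iff.2 fun x hx => by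
  by_contra h1
  exact hy ((h.c1 hX hx.1 h1).of_le (zpowers_le.2 (mem_cent1_symm.1 hx.2)))

theorem fpf_odd (hX : IsPi {2} X) (hK : Od K) (hy : y ∈ K) (h1 : y ≠ 1) : X ⊓ 𝓒₁(y) = ⊥ :=
  h.fpf hX fun e => h1 (zpowers_eq_bot.1 (e.eq_bot (hK.of_le (zpowers_le.2 hy))))

theorem fpf3 (hX : IsPi {2} X) (h3 : x ^ 3 = 1) (h1 : x ≠ 1) : X ⊓ 𝓒₁(x) = ⊥ :=
  h.fpf hX fun e => h1 (one_of_cube e (mem_zpowers x) h3)

theorem odc (hK : Od K) (hy : y ∈ K) (h1 : y ≠ 1) : Od 𝓒₁(y) := od_of_forall fun a ha a2 =>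
  ne_one_of_ord a2 (mem_bot.1 ((h.fpf_odd (h a a2) hK hy h1).le ⟨mem_cent1_self a, ha⟩))

theorem eq_syl (hS : Syl 2 S M) (hX : IsPi {2} X) (hx : x ∈ X) (h1 : x ≠ 1) (hc : S ≤ 𝓒₁(x)) : M ⊓ 𝓒₁(x) = S :=
  hS.eq_of_le ((h.c1 hX hx h1).inf_right _) (le_inf hS.le hc) inf_le_left

theorem sub (M : Subgroup G) : CIT M := fun t ht => by
  have := h t ((orderOf_coe t).trans ht)
  rw [isPi_iff] at this ⊢
  refine this.of_dvd ?_
  rw [← card_map_of_injective M.subtype_injective]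
  refine card_dvd ?_
  rintro _ ⟨y, hy, rfl⟩
  exact mem_cent1.2 (congrArg Subtype.val (mem_cent1.1 hy))

end CIT

end CA.Cit
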