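import Cfsg.Agent.Lib.Cit.D0

/-! Maximal `2`-local subgroups of `CIT` groups: existence of a critical pair. -/

set_option autoImplicit false
set_option linter.unusedSectionVars false

namespace CA.Cit

open Subgroup Cfsg CA.BG CA.GW CA.Wa CA.Ca

universe u

variable {G : Type u} [Group G] [Finite G] {A H K M N P Q S T V W X Y : Subgroup G} {a b g t v x y z : G}

theorem p2 : Nat.Prime 2 := Nat.prime_two

theorem CIT.od_bot (h : CIT G) (hr : Bend.Rk2 (⊤ : Subgroup G)) (hK : Od K) (hn : ⊤ ≤ 𝓝(K)) : K = ⊥ := by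
  obtain ⟨u, -, v, -, u1, v1, h1, u2, v2, h2⟩ := hr
  have h3 : ∀ t : G, t ≠ 1 → t * t = 1 → K ⊓ 𝓒₁(t) = ⊥ := fun t t1 t2 => hK.inf_eq_bot' (h t (ord_two t2 t1))
  have h4 := (ivt_of_cent u2 (hn (mem_top u)) (h3 u u1 u2)).mul_cent (ivt_of_cent v2 (hn (mem_top v)) (h3 v v1 v2))
  refine BG.eq_bot_mono (le_inf le_rfl (le_cent1_iff.2 h4)) (h3 _ (fun e => h1 ?_) ?_)
  · rw [eq_inv_of_mul_eq_one_left e, inv_of_sq v2]
  · rw [show u * v * (u * v) = u * (v * u) * v by group, ← h2, show u * (u * v) * v = u * u * (v * v) by group, u2, v2,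
      one_mul]

theorem CIT.setup (h : CIT G) (hH : IsStronglyEmbedded H) (hr : Bend.Rk2 (⊤ : Subgroup G)) :
    ∃ (_ : FaithfulSMul G (G ⧸ H)) (t : G) (Q : Subgroup G), IsRankOneSetup G (G ⧸ H) (1 : G) t Q ∧ IsPGroup 2 Q := by
  obtain ⟨h3, h4, h5⟩ := BendRed.one_quot hH
  have hf : FaithfulSMul G (G ⧸ H) := ⟨fun {x y} e => by
    have : y⁻¹ * x ∈ Bend.Jk (G ⧸ H) (⊤ : Subgroup G) :=
      Bend.mem_Jk.2 ⟨mem_top _, fun b _ => by rw [mul_smul, e, inv_smul_smul]⟩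
    rw [h.od_bot hr (od_iff.2 (h3.odd_Jk (BendCor.two_top h4 h5))) Bend.norm_Jk, mem_bot, inv_mul_eq_one] at this
    exact this.symm⟩
  exact ⟨hf, BendCor.setup_at h3 h4 h5 hr _⟩

theorem CIT.se_cl (h : CIT G) (hH : IsStronglyEmbedded H) (hr : Bend.Rk2 (⊤ : Subgroup G)) : Syl 2 𝓞({2}, H) H := by
  obtain ⟨_, t, Q, hS, hQ⟩ := h.setup hH hr
  obtain ⟨S, rfl⟩ := BendCor.syl_Q hS hQ
  have h1 := hS.le
  have h2 := hS.conj_mem
  rw [BendCor.stab_one] at h1 h2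
  refine ((syl_top p2 S).of_le h1 le_top).core_hall fun g hg => mem_norm_of_cj_le fun x hx => ?_
  obtain ⟨y, hy, rfl⟩ := mem_cj'.1 hx
  exact h2 g hg y hy

theorem CIT.se_cl' (h : CIT G) (hH : IsStronglyEmbedded H) (h0 : 𝓞({2}, H) ≠ ⊥) : Syl 2 𝓞({2}, H) H := by
  by_cases hr : Bend.Rk2 (⊤ : Subgroup G)
  · exact h.se_cl hH hr
  obtain ⟨t, ht, t2, hc⟩ := exists_cinv (core_pi {2} H) h0
  have h1 : IsPi {2} H := (h t t2).of_le fun g hg => mem_cent1.2 (mul_inv_eq_iff_eq_mul.1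
    (BendCor.uniq_of_not_rk hr _ _ (by rw [← t2]; exact (MulAut.conj g).orderOf_eq t) t2
      (mem_cent1.1 (hc (conj_mem_of_norm (le_norm_core _ _) hg ht)))))
  rw [core_eq_self h1]
  exact hall_self h1

/-- Sylow `2`-subgroups are `TI` modulo `O₂` -/
def TIq (M : Subgroup G) : Prop := ∀ S S', Syl 2 S M → Syl 2 S' M → S ≠ S' → S ⊓ S' ≤ 𝓞({2}, M)

/-- maximal `2`-local subgroups which are not `2`-closed -/
structure Vx (M : Subgroup G) : Prop where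
  ne : 𝓞({2}, M) ≠ ⊥
  ncl : ¬ Syl 2 𝓞({2}, M) M
  max : ∀ X, 𝓞({2}, X) ≠ ⊥ → M ≤ X → X = M

/-- `Ω₁ Z O₂` -/
def Vo (M : Subgroup G) : Subgroup G := Ω₁(2, 𝓩(𝓞({2}, M)))

theorem mem_oz (p : ℕ) : y ∈ Ω₁(p, 𝓩(Q)) ↔ y ∈ 𝓩(Q) ∧ y ^ p = 1 :=
  ⟨fun hy => ⟨omega_le _ _ hy, (elem_omega_center p Q).2 y hy⟩, fun hy => mem_omega hy.1 hy.2⟩

theorem mem_Vo : y ∈ Vo M ↔ y ∈ 𝓩(𝓞({2}, M)) ∧ y * y = 1 := by rw [Vo, mem_oz, pow_two]

theorem el_Vo (M : Subgroup G) : El2 (Vo M) := fun _ hy => (mem_Vo.1 hy).2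

theorem Vo_le (M : Subgroup G) : Vo M ≤ 𝓞({2}, M) := omega_center_le _ _

theorem norm_Vo (M : Subgroup G) : M ≤ 𝓝(Vo M) := (le_norm_core _ _).trans (norm_omega_center _ _)

theorem cj_Vo (g : G) (M : Subgroup G) : cj g (Vo M) = Vo (cj g M) := by
  rw [Vo, Vo, cj_omega, cj_inf, cj_cent, cj_core]

theorem exists_vx (h0 : 𝓞({2}, X) ≠ ⊥) (h1 : ¬ Syl 2 𝓞({2}, X) X) : ∃ M, Vx M ∧ X ≤ M :=
  let ⟨M, h2, h3, h4⟩ := exists_maximal_ge (P := fun M : Subgroup G => 𝓞({2}, M) ≠ ⊥) h0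
  ⟨M, ⟨h3, fun e => h1 (e.core_hall_of_le h2), h4⟩, h2⟩

theorem core_norm_ne (hV : IsPi {2} V) (h0 : V ≠ ⊥) : 𝓞({2}, 𝓝(V)) ≠ ⊥ :=
  ne_bot_mono (le_core hV (le_norm_self V) le_rfl) h0

namespace Vx
variable (hM : Vx M)
include hM

theorem norm_eq (hV : IsPi {2} V) (h0 : V ≠ ⊥) (hn : M ≤ 𝓝(V)) : 𝓝(V) = M := hM.max _ (core_norm_ne hV h0) hn

theorem nQ : 𝓝(𝓞({2}, M)) = M := hM.norm_eq (core_pi _ _) hM.ne (le_norm_core _ _)

theorem nM : 𝓝(M) = M := le_antisymm ((norm_le_norm_core _ _).trans hM.nQ.le) (le_norm_self M)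

theorem V0 : Vo M ≠ ⊥ := omega_center_ne_bot (core_pi _ _) hM.ne

theorem nV : 𝓝(Vo M) = M := hM.norm_eq (el_Vo M).pi hM.V0 (norm_Vo M)

theorem cV (h : CIT G) : 𝓒(Vo M) = 𝓞({2}, M) :=
  le_antisymm (le_core (h.cent (el_Vo M).pi hM.V0) ((cent_le_norm _).trans hM.nV.le) (norm_cent (norm_Vo M)))
    (le_cent_omega_center _ _)

theorem cj (g : G) : Vx (cj g M) where
  ne := by rw [← cj_core, Ne, cj_eq_bot]; exact hM.ne
  ncl e := hM.ncl (by simpa [cj_core] using e.cj g⁻¹)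
  max X h0 h1 := by
    rw [← hM.max (BG.cj g⁻¹ X) (by rwa [← cj_core, Ne, cj_eq_bot]) (cj_le_iff.1 h1), cj_cj_inv]

end Vx

/-- a maximal Sylow intersection with `H` -/
theorem exists_vx_key (hS : Syl 2 S ⊤) (hH : S ≤ H) (hT : Syl 2 T ⊤) (h1 : ¬ T ≤ H) (h0 : T ⊓ H ≠ ⊥) :
    ∃ M P, Vx M ∧ ¬ M ≤ H ∧ P ≤ M ∧ IsPi {2} P ∧ ∀ S', Syl 2 S' ⊤ → P ≤ S' → S' ≤ H := by
  obtain ⟨D, hD, ⟨T', hT', h2, rfl⟩, hm⟩ := exists_maximal_ge
    (P := fun D : Subgroup G => ∃ T', Syl 2 T' ⊤ ∧ ¬ T' ≤ H ∧ D = T' ⊓ H) ⟨T, hT, h1, rfl⟩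
  have d2 : IsPi {2} (T' ⊓ H) := hT'.pi.inf_left H
  obtain ⟨R, hR, hDR⟩ := syl_superset p2 d2 inf_le_right
  have h3 : T' ⊓ H < T' := inf_lt_left.2 h2
  have h4 : T' ⊓ H < R := hDR.lt_of_ne fun e => (card_lt_of_lt h3).ne (by
    rw [e, hR.card_eq (hS.of_le hH le_top), hS.card_eq hT'])
  have h5 := lt_norm_of_pi hR.pi h4
  have h6 : ¬ T' ⊓ 𝓝(T' ⊓ H) ≤ H := fun e => (lt_norm_of_pi hT'.pi h3).not_ge (le_inf inf_le_left e)
  have h7 : ∀ S', Syl 2 S' ⊤ → R ⊓ 𝓝(T' ⊓ H) ≤ S' → S' ≤ H := fun S' hS' e => by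
    by_contra e'
    have e1 := le_inf e (inf_le_left.trans hR.le)
    exact h5.not_ge (e1.trans (hm _ ⟨S', hS', e', rfl⟩ (h5.le.trans e1)).le)
  obtain ⟨M, hM, h8⟩ := exists_vx (core_norm_ne d2 (ne_bot_mono hD h0)) fun e => by
    obtain ⟨S', hS', e'⟩ := syl_superset p2 e.pi le_top
    exact h6 (((e.le_core (hT'.pi.inf_left _) inf_le_right).trans e').trans
      (h7 S' hS' ((e.le_core (hR.pi.inf_left _) inf_le_right).trans e')))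
  exact ⟨M, _, hM, fun e => h6 ((inf_le_right.trans h8).trans e), inf_le_right.trans h8, hR.pi.inf_left _, h7⟩

/-- adjacency of vertices -/
def Adj (M N : Subgroup G) : Prop := Vx M ∧ Vx N ∧ 𝓞({2}, M) ≤ N ∧ 𝓞({2}, N) ≤ M

theorem Adj.symm (h : Adj M N) : Adj N M := ⟨h.2.1, h.1, h.2.2.2, h.2.2.1⟩

theorem Adj.cj (h : Adj M N) (g : G) : Adj (cj g M) (cj g N) :=
  ⟨h.1.cj g, h.2.1.cj g, by rw [← cj_core]; exact cj_mono g h.2.2.1, by rw [← cj_core]; exact cj_mono g h.2.2.2⟩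

theorem CIT.exists_edge (h : CIT G) (h0 : 𝓞({2}, (⊤ : Subgroup G)) = ⊥) (hM : Vx M) : ∃ M N : Subgroup G, Adj M N ∧ M ≠ N := by
  by_contra hn
  push Not at hn
  have h1 : ∀ M T : Subgroup G, Vx M → Syl 2 T M → Syl 2 T ⊤ := fun M T hM hT => by
    obtain ⟨S, hS, e⟩ := syl_superset p2 hT.pi le_top
    by_contra e'
    obtain ⟨s, hs, s1⟩ := SetLike.exists_of_lt (lt_norm_of_pi hS.pi (e.lt_of_ne fun e1 => e' (e1 ▸ hS)))
    have e2 : BG.cj s T = T := cj_of_mem_norm hs.2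
    have e3 := hn M _ ⟨hM, hM.cj s, (hT.core_le.trans e2.ge).trans (cj_mono s hT.le),
      ((hT.cj s).core_le.trans e2.le).trans hT.le⟩
    exact s1 ((hT.inf_eq hS.pi e).le ⟨hM.nM.le (mem_norm_iff_cj.2 e3.symm), hs.1⟩)
  have h2 : ∀ M N S : Subgroup G, Vx M → Vx N → Syl 2 S ⊤ → S ≤ M → S ≤ N → M = N := fun M N S hM hN hS e e' =>
    hn M N ⟨hM, hN, (hS.of_le e le_top).core_le.trans e', (hS.of_le e' le_top).core_le.trans e⟩
  obtain ⟨S, hS⟩ := syl_exists p2 M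
  have hS' := h1 M S hM hS
  refine hM.ncl (h.se_cl' (Bc.se_of (fun e => hM.ne (e ▸ h0)) hS' (ne_bot_mono hS.core_le hM.ne) (fun g hg => ?_)
    fun t ht t1 t2 => ?_) hM.ne)
  · exact hM.nM.le (mem_norm_iff_cj.2 (h2 _ _ S (hM.cj g) hM hS' ((cj_of_mem_norm hg).ge.trans (cj_mono g hS.le)) hS.le))
  · obtain ⟨T, hT, e⟩ := syl_superset p2 (h t (ord_two t2 t1)) le_top
    refine e.trans (by_contra fun e1 => ?_)
    obtain ⟨N, P, hN, e2, e3, e4, e5⟩ := exists_vx_key hS' hS.le hT e1 (ne_bot_of_mem ⟨e (mem_cent1_self t), hS.le ht⟩ t1)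
    obtain ⟨R, hR, e6⟩ := syl_superset p2 e4 e3
    exact e2 (h2 N M R hN hM (h1 N R hN hR) hR.le (e5 R (h1 N R hN hR) e6)).le

/-- a critical pair -/
structure Pair (M N : Subgroup G) : Prop where
  l : Vx M
  r : Vx N
  lr : Vo M ≤ N
  rl : Vo N ≤ M
  nc : ¬ Vo M ≤ 𝓒(Vo N)

theorem Pair.symm (h : Pair M N) : Pair N M := ⟨h.r, h.l, h.rl, h.lr, fun e => h.nc (cent_symm e)⟩

theorem CIT.exists_pair (h : CIT G) (hA : Adj M N) (hne : M ≠ N) : ∃ M N : Subgroup G, Pair M N := by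
  by_contra hn
  have h1 : ∀ (n : ℕ) (f : ℕ → Subgroup G), (∀ i, Adj (f i) (f (i + 1))) → Vo (f 0) ≤ 𝓒(Vo (f n)) := fun n => by
    induction n with
    | zero => exact fun f _ => (el_Vo _).cent
    | succ n ih =>
      intro f hf
      by_contra e
      exact hn ⟨_, _, (hf 0).1, (hf n).2.1, ((ih f hf).trans ((hf n).1.cV h).le).trans (hf n).2.2.1,
        ((cent_symm (ih (fun i => f (i + 1)) fun i => hf (i + 1))).trans ((hf 0).2.1.cV h).le).trans (hf 0).2.2.2, e⟩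
  have h2 : ∀ X Y : Subgroup G, Vx Y → Relation.ReflTransGen Adj X Y →
      ∃ (n : ℕ) (f : ℕ → Subgroup G), (∀ i, Adj (f i) (f (i + 1))) ∧ f 0 = X ∧ f n = Y := fun X Y hY e => by
    induction e using Relation.ReflTransGen.head_induction_on with
    | refl => exact ⟨0, fun _ => Y, fun _ => ⟨hY, hY, core_le _ _, core_le _ _⟩, rfl, rfl⟩
    | @head X X' e _ ih =>
      obtain ⟨n, f, hf, rfl, rfl⟩ := ih
      exact ⟨n + 1, fun i => Nat.casesOn i X f, fun i => Nat.casesOn i e hf, rfl, rfl⟩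
  let W : Subgroup G → Subgroup G := fun M => ⨆ Y : {Y // Vx Y ∧ Relation.ReflTransGen Adj M Y}, Vo Y.1
  have h3 : ∀ M : Subgroup G, Vx M → 𝓝(W M) = M := fun M hM => by
    refine hM.norm_eq ((core_pi _ _).of_le (le_trans (iSup_le fun Y => ?_) (hM.cV h).le))
      (ne_bot_mono (le_iSup_of_le ⟨M, hM, .refl⟩ le_rfl) hM.V0) fun g hg => mem_norm_of_cj_le (cj_le_iff.2 (iSup_le fun Y => ?_))
    · obtain ⟨n, f, hf, e, e'⟩ := h2 _ _ Y.2.1 Y.2.2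
      exact cent_symm (e ▸ e' ▸ h1 n f hf)
    · rw [← cj_le_iff, cj_Vo]
      refine le_iSup_of_le ⟨_, Y.2.1.cj g, ?_⟩ le_rfl
      have : Relation.ReflTransGen Adj (BG.cj g M) (BG.cj g Y) := Y.2.2.lift (p := Adj) (BG.cj g) fun _ _ e => e.cj g
      rwa [cj_of_mem hg] at this
  have h4 : ∀ M N : Subgroup G, Adj M N → W N ≤ W M := fun M N e =>
    iSup_le fun Y => le_iSup_of_le ⟨Y.1, Y.2.1, .head e Y.2.2⟩ le_rfl
  exact hne (by rw [← h3 M hA.1, ← h3 N hA.2.1, le_antisymm (h4 _ _ hA.symm) (h4 _ _ hA)])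

theorem CIT.ti_or_pair (h : CIT G) (h0 : 𝓞({2}, (⊤ : Subgroup G)) = ⊥) :
    TIq (⊤ : Subgroup G) ∨ ∃ M N : Subgroup G, Pair M N := by
  refine or_iff_not_imp_left.2 fun h1 => ?_
  simp only [TIq, h0, le_bot_iff, not_forall] at h1
  obtain ⟨S, T, hS, hT, e, e'⟩ := h1
  obtain ⟨M, -, hM, -⟩ := exists_vx_key hT le_rfl hS (fun e1 => e (hS.eq_of_le' hT e1)) e'
  obtain ⟨M, N, h2, h3⟩ := h.exists_edge h0 hM
  exact h.exists_pair h2 h3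

end CA.Cit
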