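import Cfsg.Agent.Lib.Cit.D2

/-! Failure of factorisation in a maximal `2`-local subgroup of a `CIT` group. -/

set_option autoImplicit false
set_option linter.unusedSectionVars false

namespace CA.Cit

open Subgroup Cfsg CA.BG CA.GW CA.Wa CA.Ca

universe u

variable {G : Type u} [Group G] [Finite G] {A H K M N P Q S T T' T'' U V W X Y : Subgroup G}
  {a b g k s t u u' v w x y z : G} {q : ℕ}

local notation "𝐐(" M ")" => 𝓞({2}, M)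

theorem card_sd (h : U ≤ V) : Nat.card {x // x ∈ V ∧ x ∉ U} + ♯U = ♯V := by
  have : Nat.card {x // x ∈ V ∧ x ∉ U} = ((V : Set G) \ U).ncard := Nat.card_coe_set_eq _
  rw [this, Set.ncard_sdiff h (Set.toFinite (V : Set G) |>.subset h)]
  exact Nat.sub_add_cancel (card_le_of_le' h)

theorem ncard_cl (X : Subgroup G) (a : G) : {y | ∃ g ∈ X, g * a * g⁻¹ = y}.ncard = 𝓒₁(a).relIndex X := by
  letI : MulAction X G := MulAction.compHom G (MulAut.conj.comp X.subtype)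
  have e1 : MulAction.stabilizer X a = 𝓒₁(a).subgroupOf X := by
    ext g; exact ⟨fun h => mem_cent1.2 (mul_inv_eq_iff_eq_mul.1 h), fun h => mul_inv_eq_iff_eq_mul.2 (mem_cent1.1 h)⟩
  have e2 : MulAction.orbit X a = {y | ∃ g ∈ X, g * a * g⁻¹ = y} := by
    ext y; exact ⟨fun ⟨g, h⟩ => ⟨g, g.2, h⟩, fun ⟨g, hg, h⟩ => ⟨⟨g, hg⟩, h⟩⟩
  rw [relIndex, ← e1, MulAction.index_stabilizer, e2]

theorem cj_eq_of_cent (hg : g ∈ 𝓒(V)) (hv : v ∈ V) : g * v * g⁻¹ = v :=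
  mul_inv_eq_iff_eq_mul.2 (mem_cent.1 hg v hv).symm

theorem conj_not_mem (hg : g ∈ 𝓝(Q)) (ha : a ∉ Q) : g * a * g⁻¹ ∉ Q := fun e =>
  ha (by simpa [mul_assoc] using conj_mem_of_mem_norm' hg e)

theorem conj_ne_one (ha : a ≠ 1) (g : G) : g * a * g⁻¹ ≠ 1 := fun e => ha (conj_eq_one_iff.1 e)

theorem QV (M : Subgroup G) : 𝐐(M) ≤ 𝓒(Vo M) := le_cent_omega_center _ _

/-- a vertex with `TI` Sylow subgroups -/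
structure Vt (M : Subgroup G) : Prop extends Vx M where
  cit : CIT G
  ti : TIq M

namespace Vt
variable (h : Vt M) (hT : Syl 2 T M)
include h

theorem nrm (hg : g ∈ M) : g ∈ 𝓝(Vo M) := norm_Vo M hg

theorem nq (hg : g ∈ M) : g ∈ 𝓝(𝐐(M)) := le_norm_core _ _ hg

include hT

theorem syl_eq (hT' : Syl 2 T' M) (h1 : a ∈ T) (h2 : a ∈ T') (h3 : a ∉ 𝐐(M)) : T = T' :=
  by_contra fun e => h3 (h.ti T T' hT hT' e ⟨h1, h2⟩)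

theorem cent_le (hv : v ∈ Vo M) (v1 : v ≠ 1) (h1 : a ∈ T) (h3 : a ∉ 𝐐(M)) (hc : v ∈ 𝓒₁(a)) : M ⊓ 𝓒₁(v) ≤ T := by
  obtain ⟨T', hT', e⟩ := syl_superset p2 ((h.cit.c1 (el_Vo M).pi hv v1).inf_right M) inf_le_left
  exact h.syl_eq hT hT' h1 (e ⟨hT.le h1, mem_cent1_symm.1 hc⟩) h3 ▸ e

theorem exists_g : ∃ g ∈ M, BG.cj g T ≠ T := by
  by_contra e
  push Not at e
  exact h.ncl (hT.core_hall (le_norm_iff_cj.2 e))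

theorem ex : ∃ a ∈ T, a ∉ 𝐐(M) := by
  by_contra e
  push Not at e
  exact h.ncl (le_antisymm (fun a ha => e a ha) hT.core_le ▸ hT)

theorem mem_Q (hT' : Syl 2 T' M) (hne : T ≠ T') (h1 : s ∈ T) (h2 : s ∈ 𝓝(T')) : s ∈ 𝐐(M) :=
  h.ti T T' hT hT' hne ⟨h1, zp_le.1 (hT'.le_of_norm (hT.pi.of_le (zp_le.2 h1)) (zp_le.2 (hT.le h1)) (zp_le.2 h2))⟩

theorem free (h1 : a ∈ T) (h3 : a ∉ 𝐐(M)) (h2 : a * a ∈ 𝐐(M)) :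
    ♯(Vo M) = ♯(Vo M ⊓ 𝓒₁(a) : Subgroup G) ^ 2 ∧ ∀ u ∈ Vo M ⊓ 𝓒₁(a), ∃ v ∈ Vo M, v * (a * v * a⁻¹) = u := by
  obtain ⟨g, hg, e⟩ := h.exists_g hT
  refine (el_Vo M).free (h.nrm (hT.le h1)) (QV M h2) (h.nrm hg) (eq_bot_iff.2 fun v hv => by_contra fun v1 => e ?_)
  exact h.syl_eq (hT.cj_mem hg) hT (conj_mem_cj.2 h1) (h.cent_le hT hv.1.1 v1 h1 h3 hv.1.2
    ⟨conj_mem_of_mem_norm (le_norm_self M hg) (hT.le h1), mem_cent1_symm.1 hv.2⟩) (conj_not_mem (h.nq hg) h3)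

theorem count (h1 : a ∈ T) (h3 : a ∉ 𝐐(M)) (h2 : a * a ∈ 𝐐(M)) (hg : g ∈ M) (hne : BG.cj g T ≠ T) :
    𝐐(M).relIndex T ≤ ♯(Vo M ⊓ 𝓒₁(a) : Subgroup G) ∧ (♯(Vo M ⊓ 𝓒₁(a) : Subgroup G) ≤ 𝐐(M).relIndex T →
      ∀ v ∈ Vo M, v ∉ 𝓒₁(a) → ∃ t ∈ T, v ∈ BG.cj t (BG.cj g (Vo M ⊓ 𝓒₁(a)))) := by
  set W := BG.cj g (Vo M ⊓ 𝓒₁(a)) with hW
  have hW' : W = Vo M ⊓ 𝓒₁(g * a * g⁻¹) := by rw [hW, cj_inf, cj_of_mem_norm (h.nrm hg), cj_cent1]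
  have hT' := hT.cj_mem hg
  have c1 : ∀ w ∈ W, w ≠ 1 → M ⊓ 𝓒₁(w) ≤ BG.cj g T := fun w hw w1 =>
    h.cent_le hT' (hW'.le hw).1 w1 (conj_mem_cj.2 h1) (conj_not_mem (h.nq hg) h3) (hW'.le hw).2
  have c2 : ∀ s ∈ M, ∀ w ∈ W, w ≠ 1 → ∀ b ∈ M, b ∉ 𝐐(M) → s * w * s⁻¹ ∈ 𝓒₁(b) → b ∈ BG.cj s (BG.cj g T) :=
    fun s hs w hw w1 b hb b1 e => cj_mono s (c1 w hw w1) (by
      rw [cj_inf, cj_of_mem hs, cj_cent1]; exact ⟨hb, mem_cent1_symm.1 e⟩)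
  let F : (T ⧸ 𝐐(M).subgroupOf T) × {w // w ∈ W ∧ w ∉ (⊥ : Subgroup G)} → {v // v ∈ Vo M ∧ v ∉ Vo M ⊓ 𝓒₁(a)} :=
    fun p => ⟨p.1.out * p.2 * (p.1.out : G)⁻¹, conj_mem_of_mem_norm (h.nrm (hT.le p.1.out.2)) (hW'.le p.2.2.1).1, fun e =>
      hne (cj_inj.1 ((h.syl_eq (hT'.cj_mem (hT.le p.1.out.2)) hT
        (c2 _ (hT.le p.1.out.2) _ p.2.2.1 p.2.2.2 a (hT.le h1) h3 e.2) h1 h3).trans (cj_of_mem p.1.out.2).symm))⟩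
  have hF : Function.Injective F := fun p p' e => by
    have e1 : (p.1.out : G) * p.2 * (p.1.out : G)⁻¹ = p'.1.out * p'.2 * (p'.1.out : G)⁻¹ := congrArg Subtype.val e
    have hs : (p'.1.out : G)⁻¹ * p.1.out ∈ T := mul_mem (inv_mem p'.1.out.2) p.1.out.2
    have e2 : (p'.1.out : G)⁻¹ * p.1.out * p.2 * ((p'.1.out : G)⁻¹ * p.1.out)⁻¹ = p'.2 := by
      rw [mul_inv_rev, mul_assoc _ _ (p.2 : G), mul_assoc, ← mul_assoc (_ * (p.2 : G)), e1]; group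
    have e3 := h.syl_eq (hT'.cj_mem (hT.le hs)) hT' (c2 _ (hT.le hs) _ p.2.2.1 p.2.2.2 _ (hT'.le (conj_mem_cj.2 h1))
      (conj_not_mem (h.nq hg) h3) (e2 ▸ (hW'.le p'.2.2.1).2)) (conj_mem_cj.2 h1) (conj_not_mem (h.nq hg) h3)
    have e4 : p'.1 = p.1 := by
      rw [← p'.1.out_eq, ← p.1.out_eq]
      exact QuotientGroup.eq.2 (h.mem_Q hT hT' hne.symm hs (mem_norm_iff_cj.2 e3))
    rw [e4, mul_left_inj, mul_right_inj] at e1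
    exact Prod.ext e4.symm (Subtype.ext e1)
  have n1 := card_sd (bot_le : ⊥ ≤ W)
  have n2 := card_sd (inf_le_left : Vo M ⊓ 𝓒₁(a) ≤ Vo M)
  have n3 := (h.free hT h1 h3 h2).1
  have n4 : 1 < ♯(Vo M) := (one_lt_card_iff_ne_bot _).2 h.V0
  have n5 := Nat.card_le_card_of_injective F hF
  rw [Nat.card_prod] at n5
  rw [card_bot, hW, card_cj, ← hW] at n1
  change 𝐐(M).relIndex T * _ ≤ _ at n5
  refine ⟨?_, fun e v hv v1 => ?_⟩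
  · generalize Nat.card {x // x ∈ W ∧ x ∉ (⊥ : Subgroup G)} = m at *
    rw [← n1] at n2 n3 ⊢
    have : 0 < m := Nat.pos_of_ne_zero fun e => by rw [e, zero_add, one_pow] at n3; omega
    nlinarith
  · obtain ⟨p, hp⟩ := (hF.bijective_of_nat_card_le (by
      rw [Nat.card_prod]
      change _ ≤ 𝐐(M).relIndex T * _
      generalize Nat.card {x // x ∈ W ∧ x ∉ (⊥ : Subgroup G)} = m at *
      rw [← n1] at n2 n3 e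
      nlinarith)).2 ⟨v, hv, fun e => v1 e.2⟩
    exact ⟨_, p.1.out.2, (show _ = v from congrArg Subtype.val hp) ▸ conj_mem_cj.2 p.2.2.1⟩

end Vt

/-- `A` offends on `Vo M` -/
structure Off (M T A : Subgroup G) (q : ℕ) : Prop extends Vt M where
  syl : Syl 2 T M
  el : El2 A
  sup : A ⊔ 𝐐(M) = T
  fix : ∀ a ∈ T, a ∉ 𝐐(M) → Vo M ⊓ 𝓒₁(a) = Vo M ⊓ 𝓒(T)
  cardU : ♯(Vo M ⊓ 𝓒(T) : Subgroup G) = q
  idx : 𝐐(M).relIndex T = q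

theorem Vt.off (h : Vt M) (hA : El2 A) (hM : A ≤ M) (h1 : ¬ A ≤ 𝐐(M)) (h2 : 𝓒(A).relIndex (Vo M) ≤ 𝐐(M).relIndex A) :
    Off M (A ⊔ 𝐐(M)) A (𝐐(M).relIndex A) ∧ 𝓒(A).relIndex (Vo M) = 𝐐(M).relIndex A := by
  obtain ⟨T, hT, hAT⟩ := syl_superset p2 hA.pi hM
  obtain ⟨g, hg, hne⟩ := h.exists_g hT
  have nA : A ≤ 𝓝(𝐐(M)) := hM.trans (le_norm_core _ _)
  have k1 : ∀ a ∈ A, a ∉ 𝐐(M) → Vo M ⊓ 𝓒₁(a) = Vo M ⊓ 𝓒(A) ∧ ♯(Vo M ⊓ 𝓒(A) : Subgroup G) = 𝐐(M).relIndex A ∧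
      𝐐(M).relIndex T ≤ 𝐐(M).relIndex A ∧ 𝓒(A).relIndex (Vo M) = 𝐐(M).relIndex A := fun a ha a1 => by
    have a2 : a * a ∈ 𝐐(M) := hA a ha ▸ one_mem _
    have n1 := (h.free hT (hAT ha) a1 a2).1
    have n2 := (h.count hT (hAT ha) a1 a2 hg hne).1
    have n3 := card_inf_mul_relIndex 𝓒(A) (Vo M)
    have n4 := relIndex_le_of_le_right hAT (relIndex_ne_zero' 𝐐(M) T)
    have n5 : Vo M ⊓ 𝓒(A) ≤ Vo M ⊓ 𝓒₁(a) := inf_le_inf_left _ (cent_le_cent1 ha)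
    have n6 := card_le_of_le' n5
    have n7 := card_pos' (Vo M ⊓ 𝓒₁(a))
    rw [inf_comm] at n3
    have n8 : ♯(Vo M ⊓ 𝓒₁(a) : Subgroup G) ≤ ♯(Vo M ⊓ 𝓒(A) : Subgroup G) := by nlinarith
    have n9 : ♯(Vo M ⊓ 𝓒₁(a) : Subgroup G) ≤ 𝓒(A).relIndex (Vo M) := by nlinarith
    exact ⟨(eq_of_le_of_card_le n5 n8).symm, by omega, by omega, by omega⟩
  obtain ⟨a, ha, a1⟩ := SetLike.not_le_iff_exists.1 h1
  obtain ⟨-, e1, e2, e3⟩ := k1 a ha a1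
  have e4 : A ⊔ 𝐐(M) = T := eq_of_le_of_card_le (sup_le hAT hT.core_le) (by
    rw [← card_mul_relIndex hT.core_le, ← card_mul_relIndex (le_sup_right : 𝐐(M) ≤ A ⊔ 𝐐(M)), relIndex_sup_norm nA]
    exact Nat.mul_le_mul_left _ e2)
  have e5 : Vo M ⊓ 𝓒(A ⊔ 𝐐(M)) = Vo M ⊓ 𝓒(A) := by
    rw [cent_sup, ← inf_assoc, inf_eq_left.2 (inf_le_left.trans (cent_symm (QV M)))]
  refine ⟨⟨h, e4 ▸ hT, hA, rfl, fun b hb b1 => ?_, e5 ▸ e1, relIndex_sup_norm nA⟩, e3⟩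
  obtain ⟨c, hc, d, hd, rfl⟩ := (mem_sup_norm nA).1 hb
  rw [e5, ← (k1 c hc fun e => b1 (mul_mem e hd)).1]
  ext v
  refine and_congr_right fun hv => ?_
  change v ∈ 𝓒₁(_) ↔ v ∈ 𝓒₁(_)
  rw [mem_cent1, mem_cent1, ← mul_assoc, mul_assoc c, ← mem_cent.1 (QV M hd) v hv, ← mul_assoc, mul_left_inj]

namespace Off
variable (h : Off M T A q)
include h

theorem AT : A ≤ T := le_sup_left.trans h.sup.le

theorem QT : 𝐐(M) ≤ T := h.syl.core_le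

theorem dec (ha : a ∈ T) : ∃ c ∈ A, ∃ d ∈ 𝐐(M), c * d = a :=
  (mem_sup_norm ((h.AT.trans h.syl.le).trans (le_norm_core _ _))).1 (h.sup.ge ha)

theorem sq (ha : a ∈ T) : a * a ∈ 𝐐(M) := by
  obtain ⟨c, hc, d, hd, rfl⟩ := h.dec ha
  rw [show c * d * (c * d) = c * d * c⁻¹ * (c * c) * d by group, h.el c hc, mul_one]
  exact mul_mem (conj_mem_of_mem_norm (h.nq (h.syl.le (h.AT hc))) hd) hd

theorem cU_eq (hg : g ∈ M) : BG.cj g (Vo M ⊓ 𝓒(T)) = Vo M ⊓ 𝓒(BG.cj g T) := by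
  rw [cj_inf, cj_of_mem_norm (h.nrm hg), cj_cent]

theorem cj (hg : g ∈ M) : Off M (BG.cj g T) (BG.cj g A) q where
  toVt := h.toVt
  syl := h.syl.cj_mem hg
  el := h.el.conj g
  sup := by rw [← h.sup, cj_sup, cj_of_mem_norm (h.nq hg)]
  fix a ha a1 := by
    obtain ⟨b, hb, rfl⟩ := mem_cj'.1 ha
    rw [← h.cU_eq hg, ← h.fix b hb fun e => a1 (conj_mem_of_mem_norm (h.nq hg) e), cj_inf, cj_of_mem_norm (h.nrm hg),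
      cj_cent1]
  cardU := by rw [← h.cU_eq hg, card_cj, h.cardU]
  idx := by rw [← h.idx, ← relIndex_cj g 𝐐(M) T, cj_of_mem_norm (h.nq hg)]

theorem of_syl (hT : Syl 2 T' M) : ∃ A', Off M T' A' q ∧ ∃ g ∈ M, BG.cj g T = T' ∧ BG.cj g A = A' := by
  obtain ⟨g, hg, rfl⟩ := h.syl.syl_conj p2 hT
  exact ⟨_, h.cj hg, g, hg, rfl, rfl⟩

theorem cardV : ♯(Vo M) = q ^ 2 := by
  obtain ⟨a, ha, a1⟩ := h.ex h.syl
  rw [(h.free h.syl ha a1 (h.sq ha)).1, h.fix a ha a1, h.cardU]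

theorem two_le : 2 ≤ q := by
  have := (one_lt_card_iff_ne_bot _).2 h.V0
  rw [h.cardV] at this
  exact (Nat.one_lt_pow_iff two_ne_zero).1 this

theorem exU : ∃ u ∈ Vo M ⊓ 𝓒(T), u ≠ 1 :=
  exists_ne_one ((one_lt_card_iff_ne_bot _).1 (h.cardU ▸ h.two_le))

theorem cU (hu : u ∈ Vo M ⊓ 𝓒(T)) (u1 : u ≠ 1) : M ⊓ 𝓒₁(u) = T :=
  h.cit.eq_syl h.syl (el_Vo M).pi hu.1 u1 (le_cent1_iff.2 hu.2)

theorem eq_of (hT : Syl 2 T' M) (hu : u ∈ Vo M ⊓ 𝓒(T)) (hu' : u ∈ Vo M ⊓ 𝓒(T')) (u1 : u ≠ 1) : T' = T :=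
  let ⟨_, h', _⟩ := h.of_syl hT
  (h'.cU hu' u1).symm.trans (h.cU hu u1)

theorem br (ha : a ∈ T) (hv : v ∈ Vo M) : v * (a * v * a⁻¹) ∈ Vo M ⊓ 𝓒(T) := by
  by_cases a1 : a ∈ 𝐐(M)
  · rw [cj_eq_of_cent (QV M a1) hv, el_Vo M v hv]; exact one_mem _
  · exact h.fix a ha a1 ▸ (el_Vo M).br (h.nrm (h.syl.le ha)) (QV M (h.sq ha)) hv

theorem br_sur (ha : a ∈ T) (a1 : a ∉ 𝐐(M)) (hu : u ∈ Vo M ⊓ 𝓒(T)) : ∃ v ∈ Vo M, v * (a * v * a⁻¹) = u :=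
  (h.free h.syl ha a1 (h.sq ha)).2 u ((h.fix a ha a1).ge hu)

theorem br_ne (ha : a ∈ T) (a1 : a ∉ 𝐐(M)) (hv : v ∈ Vo M) (v1 : v ∉ 𝓒(T)) : v * (a * v * a⁻¹) ≠ 1 := fun e =>
  v1 ((h.fix a ha a1).le ⟨hv, mem_cent1.2 (by
    rw [mul_eq_one_iff_inv_eq, (el_Vo M).inv hv, eq_mul_inv_iff_mul_eq] at e; exact e)⟩).2

theorem part (hT : Syl 2 T' M) (hne : T' ≠ T) (hv : v ∈ Vo M) (v1 : v ∉ 𝓒(T)) :
    ∃ t ∈ T, v ∈ Vo M ⊓ 𝓒(BG.cj t T') := by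
  obtain ⟨g, hg, rfl⟩ := h.syl.syl_conj p2 hT
  obtain ⟨a, ha, a1⟩ := h.ex h.syl
  obtain ⟨t, ht, e⟩ := (h.count h.syl ha a1 (h.sq ha) hg hne).2 (by rw [h.fix a ha a1, h.cardU, h.idx]) v hv
    fun e => v1 ((h.fix a ha a1).le ⟨hv, e⟩).2
  exact ⟨t, ht, by rwa [h.fix a ha a1, h.cU_eq hg, (h.cj hg).cU_eq (h.syl.le ht)] at e⟩

theorem tr (hT : Syl 2 T' M) (hne : T' ≠ T) (hT' : Syl 2 T'' M) (hne' : T'' ≠ T) : ∃ t ∈ T, BG.cj t T' = T'' := by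
  obtain ⟨A', h', -⟩ := h.of_syl hT'
  obtain ⟨u, hu, u1⟩ := h'.exU
  obtain ⟨t, ht, e⟩ := h.part hT hne hu.1 fun e => hne' (h.eq_of hT' ⟨hu.1, e⟩ hu u1)
  exact ⟨t, ht, h'.eq_of (hT.cj_mem (h.syl.le ht)) hu e u1⟩

theorem part' (hv : v ∈ Vo M) : ∃ g ∈ M, v ∈ Vo M ⊓ 𝓒(BG.cj g T) := by
  by_cases v1 : v ∈ 𝓒(T)
  · exact ⟨1, one_mem _, hv, by rwa [cj_one]⟩
  obtain ⟨g, hg, hne⟩ := h.exists_g h.syl
  obtain ⟨t, ht, e⟩ := h.part (h.syl.cj_mem hg) hne hv v1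
  exact ⟨t * g, mul_mem (h.syl.le ht) hg, by rwa [cj_mul]⟩

theorem cTv (hv : v ∈ Vo M) (v1 : v ∉ 𝓒(T)) : T ⊓ 𝓒₁(v) = 𝐐(M) :=
  le_antisymm (fun a ha => by_contra fun a1 => v1 ((h.fix a ha.1 a1).le ⟨hv, mem_cent1_symm.1 ha.2⟩).2)
    (le_inf h.QT ((QV M).trans (cent_le_cent1 hv)))

theorem sur (hv : v ∈ Vo M) (v1 : v ∉ 𝓒(T)) (hu : u ∈ Vo M ⊓ 𝓒(T)) : ∃ a ∈ A, v * (a * v * a⁻¹) = u := by
  let f : T →* G := MonoidHom.mk' (fun a => v * (a * v * (a : G)⁻¹)) fun a b => by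
    have e := (cj_eq_of_cent (cent_symm inf_le_right a.2) (h.br b.2 hv)).symm
    have e' := el_Vo M _ (conj_mem_of_mem_norm (h.nrm (h.syl.le a.2)) hv)
    rw [e]
    calc _ = v * 1 * (a * (b * v * (b : G)⁻¹) * (a : G)⁻¹) := by simp only [coe_mul]; group
      _ = _ := by rw [← e']; group
  have h1 : f.range ≤ Vo M ⊓ 𝓒(T) := by rintro _ ⟨a, rfl⟩; exact h.br a.2 hv
  have h2 : f.ker = 𝐐(M).subgroupOf T := by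
    ext a
    rw [MonoidHom.mem_ker, mem_subgroupOf, ← h.cTv hv v1, mem_inf, mem_cent1, and_iff_right a.2]
    change v * (a * v * (a : G)⁻¹) = 1 ↔ _
    rw [mul_eq_one_iff_inv_eq, (el_Vo M).inv hv, eq_mul_inv_iff_mul_eq, eq_comm]
  obtain ⟨a, e⟩ := (eq_of_le_of_card_le h1 (by rw [h.cardU, ← index_ker, h2]; exact h.idx.ge)).ge hu
  obtain ⟨c, hc, d, hd, e'⟩ := h.dec a.2
  refine ⟨c, hc, e ▸ ?_⟩
  change _ = v * (a * v * (a : G)⁻¹)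
  rw [← e', show c * d * v * (c * d)⁻¹ = c * (d * v * d⁻¹) * c⁻¹ by group, cj_eq_of_cent (QV M hd) hv]

theorem cj_T (hg : g ∈ M) (hT : Syl 2 T' M) (hu : u ∈ Vo M ⊓ 𝓒(T)) (u1 : u ≠ 1) (hu' : g * u * g⁻¹ ∈ 𝓒(T')) :
    BG.cj g T = T' :=
  (h.cj hg).eq_of hT (h.cU_eq hg ▸ conj_mem_cj.2 hu) ⟨conj_mem_of_mem_norm (h.nrm hg) hu.1, hu'⟩ (conj_ne_one u1 g) ▸ rfl

theorem swap {A' : Subgroup G} (h' : Off M T' A' q) (hne : T' ≠ T) (ha : a ∈ T) (a1 : a ∉ 𝐐(M))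
    (hv : v ∈ Vo M ⊓ 𝓒(T')) (v1 : v ≠ 1) : ∃ b ∈ A', (a * b) ^ 3 ∈ 𝐐(M) ∧ a * b ∉ 𝐐(M) ∧
      a * b * a * v * (a * b * a)⁻¹ = v * (a * v * a⁻¹) ∧ a * b * a * (v * (a * v * a⁻¹)) * (a * b * a)⁻¹ = v := by
  have v2 : v ∉ 𝓒(T) := fun e => hne (h.eq_of h'.syl ⟨hv.1, e⟩ hv v1)
  have hu := h.br ha hv.1
  have u1 := h.br_ne ha a1 hv.1 v2
  obtain ⟨b, hb, e⟩ := h'.sur hu.1 (fun e => hne (h.eq_of h'.syl hu ⟨hu.1, e⟩ u1)) hv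
  have bT := h'.AT hb
  have e1 := cj_eq_of_cent (cent_symm inf_le_right ha) hu
  have e2 := cj_eq_of_cent (cent_symm inf_le_right bT) hv
  have e3 : a * v * a⁻¹ = v * (v * (a * v * a⁻¹)) := by rw [← mul_assoc, el_Vo M v hv.1, one_mul]
  generalize v * (a * v * a⁻¹) = u at *
  have uu := el_Vo M u hu.1
  have vv := el_Vo M v hv.1
  have uv := (el_Vo M).mc hu.1 hv.1
  have e4 : b * u * b⁻¹ = u * v := by rw [← e, ← mul_assoc, uu, one_mul]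
  have f1 : a * b * u * (a * b)⁻¹ = v := by
    rw [show a * b * u * (a * b)⁻¹ = a * (b * u * b⁻¹) * a⁻¹ by group, e4, ← conj_mul, e1, e3, ← uv, ← mul_assoc, uu,
      one_mul]
  have f2 : a * b * v * (a * b)⁻¹ = v * u := by
    rw [show a * b * v * (a * b)⁻¹ = a * (b * v * b⁻¹) * a⁻¹ by group, e2, e3]
  have f3 : a * b * (v * u) * (a * b)⁻¹ = u := by rw [← conj_mul, f1, f2, mul_assoc, uv, ← mul_assoc, vv, one_mul]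
  have ab : a * b ∈ M := mul_mem (h.syl.le ha) (h'.syl.le bT)
  have p3 : ∀ y, (a * b) ^ 3 * y * ((a * b) ^ 3)⁻¹ = a * b * (a * b * (a * b * y * (a * b)⁻¹) * (a * b)⁻¹) * (a * b)⁻¹ :=
    fun y => by generalize a * b = c; rw [pow_three]; group
  refine ⟨b, hb, h.ti T T' h.syl h'.syl hne.symm ⟨(h.cU hu u1).le ⟨pow_mem ab 3, mem_cent1.2 (mul_inv_eq_iff_eq_mul.1 ?_)⟩,
    (h'.cU hv v1).le ⟨pow_mem ab 3, mem_cent1.2 (mul_inv_eq_iff_eq_mul.1 ?_)⟩⟩,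
    fun e => hne (h.syl_eq h'.syl h.syl (by simpa using mul_mem (h'.QT e) (inv_mem bT)) ha a1), ?_, ?_⟩
  · rw [p3, f1, f2, f3]
  · rw [p3, f2, f3, f1]
  · rw [show a * b * a * v * (a * b * a)⁻¹ = a * b * (a * v * a⁻¹) * (a * b)⁻¹ by group, e3, f3]
  · rw [show a * b * a * u * (a * b * a)⁻¹ = a * b * (a * u * a⁻¹) * (a * b)⁻¹ by group, e1, f1]

theorem three (ha : a ∈ A) (a1 : a ∉ 𝐐(M)) : ∃ x ∈ M, x ^ 3 = 1 ∧ x ≠ 1 ∧ a * x * a⁻¹ = x⁻¹ := by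
  obtain ⟨g, hg, hne⟩ := h.exists_g h.syl
  obtain ⟨v, hv, v1⟩ := (h.cj hg).exU
  obtain ⟨b, hb, e1, e2, -⟩ := h.swap (h.cj hg) hne (h.AT ha) a1 hv v1
  obtain ⟨x, hx, e⟩ := exists_three (core_pi _ _) (h.el a ha) ((h.cj hg).el b hb) e1 e2
  exact ⟨x, zp_le.2 (mul_mem (h.syl.le (h.AT ha)) ((h.cj hg).syl.le ((h.cj hg).AT hb))) hx, e⟩

theorem mem_Q' (hT : Syl 2 T' M) (hne : T' ≠ T) (hs : s ∈ M) (hu : u ∈ Vo M ⊓ 𝓒(T)) (u1 : u ≠ 1)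
    (e : s * u * s⁻¹ = u) (e' : BG.cj s T' = T') : s ∈ 𝐐(M) :=
  h.mem_Q h.syl hT hne.symm ((h.cU hu u1).le ⟨hs, mem_cent1.2 (mul_inv_eq_iff_eq_mul.1 e)⟩) (mem_norm_iff_cj.2 e')

theorem wex (hT : Syl 2 T' M) (hne : T' ≠ T) (hu : u ∈ Vo M ⊓ 𝓒(T)) (u1 : u ≠ 1) (hv : v ∈ Vo M ⊓ 𝓒(T')) (v1 : v ≠ 1) :
    ∃ w ∈ M, w * v * w⁻¹ = u ∧ w * u * w⁻¹ = v := by
  obtain ⟨A', h', -⟩ := h.of_syl hT
  obtain ⟨a, ha, rfl⟩ := h.sur hv.1 (fun e => hne (h.eq_of hT ⟨hv.1, e⟩ hv v1)) hu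
  obtain ⟨b, hb, -, -, e⟩ := h.swap h' hne (h.AT ha)
    (fun e => u1 (by rw [cj_eq_of_cent (QV M e) hv.1, el_Vo M v hv.1])) hv v1
  exact ⟨_, mul_mem (mul_mem (h.syl.le (h.AT ha)) (hT.le (h'.AT hb))) (h.syl.le (h.AT ha)), e⟩

theorem trU (hu : u ∈ Vo M ⊓ 𝓒(T)) (u1 : u ≠ 1) (hv : v ∈ Vo M ⊓ 𝓒(T)) (v1 : v ≠ 1) :
    ∃ k ∈ M ⊓ 𝓝(T), k * u * k⁻¹ = v := by
  obtain ⟨g, hg, hne⟩ := h.exists_g h.syl
  obtain ⟨y, hy, y1⟩ := (h.cj hg).exU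
  obtain ⟨w, hw, -, e⟩ := h.wex (h.syl.cj_mem hg) hne hu u1 hy y1
  obtain ⟨w', hw', e', -⟩ := h.wex (h.syl.cj_mem hg) hne hv v1 hy y1
  have e1 : w' * w * u * (w' * w)⁻¹ = v := by rw [← e', ← e]; group
  exact ⟨w' * w, ⟨mul_mem hw' hw, mem_norm_iff_cj.2 (h.cj_T (mul_mem hw' hw) h.syl hu u1 (e1 ▸ hv.2))⟩, e1⟩

theorem sw2 (hT : Syl 2 T' M) (hne : T' ≠ T) (hs : s ∈ M) (e1 : BG.cj s T = T') (e2 : BG.cj s T' = T) :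
    s * s ∈ 𝐐(M) := by
  obtain ⟨A', h', -⟩ := h.of_syl hT
  obtain ⟨u, hu, u1⟩ := h.exU
  have hv : s * u * s⁻¹ ∈ Vo M ⊓ 𝓒(T') := e1 ▸ h.cU_eq hs ▸ conj_mem_cj.2 hu
  obtain ⟨w, hw, e3, e4⟩ := h.wex hT hne hu u1 hv (conj_ne_one u1 s)
  have e5 := h'.cj_T hw h.syl hv (conj_ne_one u1 s) (e3.symm ▸ hu.2)
  have e6 := h.cj_T hw hT hu u1 (e4.symm ▸ hv.2)
  have e7 : w * s ∈ 𝐐(M) := h.mem_Q' hT hne (mul_mem hw hs) hu u1 (Eq.trans (by group) e3) (by rw [cj_mul, e2, e6])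
  have e8 : w * w ∈ 𝐐(M) := h.mem_Q' hT hne (mul_mem hw hw) hu u1
    (by rw [show w * w * u * (w * w)⁻¹ = w * (w * u * w⁻¹) * w⁻¹ by group, e4, e3]) (by rw [cj_mul, e5, e6])
  rw [show s * s = w⁻¹ * (w * s) * w * (w * w)⁻¹ * (w * s) by group]
  exact mul_mem (mul_mem (conj_mem_of_mem_norm' (h.nq hw) e7) (inv_mem e8)) e7

theorem br_mul (ha : a ∈ T) (hv : v ∈ Vo M) (hu : u ∈ Vo M ⊓ 𝓒(T)) :
    v * u * (a * (v * u) * a⁻¹) = v * (a * v * a⁻¹) := by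
  rw [← conj_mul, cj_eq_of_cent (cent_symm inf_le_right ha) hu, mul_assoc v,
    (el_Vo M).mc (conj_mem_of_mem_norm (h.nrm (h.syl.le ha)) hv) hu.1, ← mul_assoc u, el_Vo M u hu.1, one_mul]

theorem inv (hk : k ∈ M ⊓ 𝓝(T)) (ha : a ∈ T) (hv : v ∈ Vo M) :
    k * v * k⁻¹ * (a * (k * v * k⁻¹) * a⁻¹) = k⁻¹ * (v * (a * v * a⁻¹)) * k := by
  have kv := conj_mem_of_mem_norm (h.nrm hk.1) hv
  by_cases a1 : a ∈ 𝐐(M)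
  · rw [cj_eq_of_cent (QV M a1) hv, cj_eq_of_cent (QV M a1) kv, el_Vo M _ hv, el_Vo M _ kv]; group
  by_cases v1 : v ∈ 𝓒(T)
  · rw [cj_eq_of_cent (cent_symm le_rfl ha) v1,
      cj_eq_of_cent (cent_symm le_rfl ha) (conj_mem_of_mem_norm (mem_norm_cent hk.2) v1), el_Vo M _ hv, el_Vo M _ kv]
    group
  have v2 : v ≠ 1 := fun e => v1 (e ▸ one_mem _)
  obtain ⟨g, hg, hv'⟩ := h.part' hv
  have h' := h.cj hg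
  have hne : BG.cj g T ≠ T := fun e => v1 (e ▸ hv'.2)
  generalize BG.cj g T = T' at *
  obtain ⟨t, ht, e⟩ := h.tr (h'.syl.cj_mem hk.1) (fun e => hne (cj_inj.1 (e.trans (cj_of_mem_norm hk.2).symm))) h'.syl hne
  rw [← cj_mul] at e
  have lM : t * k ∈ M := mul_mem (h.syl.le ht) hk.1
  have lT : BG.cj (t * k) T = T := by rw [cj_mul, cj_of_mem_norm hk.2, cj_of_mem ht]
  have lv : t * k * v * (t * k)⁻¹ ∈ Vo M ⊓ 𝓒(T') := e ▸ h'.cU_eq lM ▸ conj_mem_cj.2 hv'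
  obtain ⟨b, hb, -, -, e1, e2⟩ := h.swap h' hne ha a1 hv' v2
  obtain ⟨c, hc, -, -, e3, e4⟩ := h.swap h' hne ha a1 lv (conj_ne_one v2 _)
  have aM := h.syl.le ha
  have bM := h'.syl.le (h'.AT hb)
  have cM := h'.syl.le (h'.AT hc)
  have wM := mul_mem (mul_mem aM bM) aM
  have hu := h.br ha hv
  have u1 := h.br_ne ha a1 hv v1
  have w1 := h.cj_T wM h'.syl hu u1 (e2.symm ▸ hv'.2)
  have w2 := h'.cj_T wM h.syl hv' v2 (e1.symm ▸ hu.2)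
  have w3 := h.cj_T (mul_mem (mul_mem aM cM) aM) h'.syl (h.br ha lv.1) (h.br_ne ha a1 lv.1
    fun e => hne (h.eq_of h'.syl ⟨lv.1, e⟩ lv (conj_ne_one v2 _))) (e4.symm ▸ lv.2)
  have bc : b⁻¹ * c ∈ 𝐐(M) := h.mem_Q h'.syl h.syl hne (mul_mem (inv_mem (h'.AT hb)) (h'.AT hc)) (mem_norm_iff_cj.2 (by
    rw [← w1, cj_mul, cj_mul, cj_mul, cj_mul, cj_of_mem ha, cj_inj] at w3
    rw [cj_mul, w3, cj_inv_cj]))
  have q1 := h.sw2 h'.syl hne wM w1 w2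
  have q2 := h.sw2 h'.syl hne (mul_mem wM lM) (by rw [cj_mul, lT, w1]) (by rw [cj_mul, e, w2])
  have q3 : t * k * (a * b * a) * (t * k) * (a * b * a)⁻¹ ∈ 𝐐(M) := by
    generalize a * b * a = w at *
    rw [show t * k * w * (t * k) * w⁻¹ = w⁻¹ * (w * (t * k) * (w * (t * k))) * w * (w * w)⁻¹ by group]
    exact mul_mem (conj_mem_of_mem_norm' (h.nq wM) q2) (inv_mem q1)
  have r1 : t * k * v * (t * k)⁻¹ = k * v * k⁻¹ * (k * v * k⁻¹ * (t * (k * v * k⁻¹) * t⁻¹)) := by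
    rw [← mul_assoc, el_Vo M _ kv]; group
  rw [← h.br_mul ha kv (h.br ht kv), ← r1, ← e3, show a * c * a = a * b * a * (a⁻¹ * (b⁻¹ * c) * a) by group]
  have r2 := cj_eq_of_cent (QV M (conj_mem_of_mem_norm' (h.nq aM) bc)) lv.1
  have r3 := cj_eq_of_cent (QV M q3) hu.1
  have r4 := cj_eq_of_cent (cent_symm inf_le_right (inv_mem ht)) hu
  generalize a⁻¹ * (b⁻¹ * c) * a = d at *
  generalize a * b * a = w at *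
  calc _ = w * (d * (t * k * v * (t * k)⁻¹) * d⁻¹) * w⁻¹ := by group
    _ = k⁻¹ * (t⁻¹ * (t * k * w * (t * k) * w⁻¹ * (w * v * w⁻¹) * (t * k * w * (t * k) * w⁻¹)⁻¹) * t⁻¹⁻¹) * k := by
      rw [r2]; group
    _ = _ := by rw [e1, r3, r4]

theorem idxM : T.relIndex M + 1 = q ^ 2 := by
  obtain ⟨u, hu, u1⟩ := h.exU
  have e : {y | ∃ g ∈ M, g * u * g⁻¹ = y} = {y | y ∈ Vo M ∧ y ∉ (⊥ : Subgroup G)} := by
    ext y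
    refine ⟨?_, fun ⟨hy, y1⟩ => ?_⟩
    · rintro ⟨g, hg, rfl⟩
      exact ⟨conj_mem_of_mem_norm (h.nrm hg) hu.1, conj_ne_one u1 g⟩
    · obtain ⟨g, hg, e⟩ := h.part' hy
      obtain ⟨z, hz, rfl⟩ := mem_cj'.1 ((h.cU_eq hg).ge e)
      obtain ⟨k, hk, rfl⟩ := h.trU hu u1 hz fun e => y1 (by simp [e])
      exact ⟨g * k, mul_mem hg hk.1, by group⟩
  rw [← h.cardV, ← card_sd (bot_le : ⊥ ≤ Vo M), card_bot, ← h.cU hu u1, inf_relIndex_left, ← ncard_cl, e]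
  rfl

theorem idxB : T.relIndex (M ⊓ 𝓝(T)) + 1 = q := by
  obtain ⟨u, hu, u1⟩ := h.exU
  have e : {y | ∃ g ∈ M ⊓ 𝓝(T), g * u * g⁻¹ = y} = {y | y ∈ Vo M ⊓ 𝓒(T) ∧ y ∉ (⊥ : Subgroup G)} := by
    ext y
    refine ⟨?_, fun ⟨hy, y1⟩ => h.trU hu u1 hy y1⟩
    rintro ⟨g, hg, rfl⟩
    exact ⟨conj_mem_of_mem_norm (mem_norm_inf (h.nrm hg.1) (mem_norm_cent hg.2)) hu, conj_ne_one u1 g⟩
  have e1 : 𝓒₁(u).relIndex (M ⊓ 𝓝(T)) = T.relIndex (M ⊓ 𝓝(T)) := by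
    rw [← inf_relIndex_left, inf_right_comm, h.cU hu u1, inf_eq_left.2 (le_norm_self T)]
  rw [← h.cardU, ← card_sd (bot_le : ⊥ ≤ Vo M ⊓ 𝓒(T)), card_bot, ← e1, ← ncard_cl, e]
  rfl

end Off

end CA.Cit
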