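import Cfsg.Agent.Lib.Cit.D3

/-! The `2`-local subgroups of a `CIT` group have `TI` Sylow `2`-subgroups modulo `O₂`. -/

set_option autoImplicit false
set_option linter.unusedSectionVars false

namespace CA.Cit

open Subgroup Cfsg CA.BG CA.GW CA.Wa CA.Ca CA.OQuo
open scoped commutatorElement

universe u

variable {G : Type u} [Group G] [Finite G] {A H K M N P Q S T T' T'' U V W X Y : Subgroup G}
  {a b g k s t u u' v w x y z : G} {q : ℕ}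

local notation "𝐐(" M ")" => 𝓞({2}, M)

theorem CIT.bs (h : CIT G) (hV : El2 V) (hM : M ≤ 𝓝(V)) (ha : a ∈ M) (a1 : a ∉ 𝐐(M)) (a2 : a * a ∈ 𝓒(V)) :
    ♯V = ♯(V ⊓ 𝓒₁(a) : Subgroup G) ^ 2 ∧ ∀ u ∈ V ⊓ 𝓒₁(a), ∃ v ∈ V, v * (a * v * a⁻¹) = u := by
  obtain ⟨g, hg, e⟩ : ∃ g ∈ M, ¬ IsPi {2} (zpowers a ⊔ BG.cj g (zpowers a)) := by
    by_contra e
    push Not at e
    exact a1 (zp_le.1 (baer_suzuki p2 (zp_le.2 ha) e))
  refine hV.free (hM ha) a2 (hM hg) (eq_bot_iff.2 fun v hv => by_contra fun v1 => e ?_)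
  rw [cj_zpowers]
  exact (h.c1 hV.pi hv.1.1 v1).of_le (sup_le (zp_le.2 (mem_cent1_symm.1 hv.1.2)) (zp_le.2 (mem_cent1_symm.1 hv.2)))

/-- the amalgam of a critical pair -/
structure Am (M N : Subgroup G) (q : ℕ) : Prop where
  l : Off M (Vo N ⊔ 𝐐(M)) (Vo N) q
  r : Off N (Vo M ⊔ 𝐐(N)) (Vo M) q

theorem Am.symm (h : Am M N q) : Am N M q := ⟨h.r, h.l⟩

theorem Pair.am (h : Pair M N) (h1 : Vt M) (h2 : Vt N) : ∃ q, Am M N q := by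
  wlog e : 𝓒(Vo N).relIndex (Vo M) ≤ 𝐐(M).relIndex (Vo N) generalizing M N
  · obtain ⟨q, e⟩ := this h.symm h2 h1 (by rw [h.l.cV h1.cit, ← h.r.cV h1.cit]; omega)
    exact ⟨q, e.symm⟩
  obtain ⟨e1, e2⟩ := h1.off (el_Vo N) h.rl (fun e => h.nc (cent_symm (e.trans (QV M)))) e
  rw [h.r.cV h1.cit] at e2
  exact ⟨_, e1, e2 ▸ (h2.off (el_Vo M) h.lr (fun e => h.nc (e.trans (QV N))) (by rw [h.l.cV h1.cit, e2])).1⟩

theorem Off.exA (h : Off M T A q) : ∃ a ∈ A, a ∉ 𝐐(M) := by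
  obtain ⟨a, ha, a1⟩ := h.ex h.syl
  obtain ⟨c, hc, d, hd, rfl⟩ := h.dec ha
  exact ⟨c, hc, fun e => a1 (mul_mem e hd)⟩

theorem Am.rl (h : Am M N q) : Vo N ≤ M := h.l.AT.trans h.l.syl.le

theorem Am.U_eq (h : Am M N q) : Vo M ⊓ 𝓒(Vo N ⊔ 𝐐(M)) = Vo M ⊓ Vo N := by
  refine le_antisymm (fun u hu => ⟨hu.1, ?_⟩)
    (le_inf inf_le_left (le_cent_sup (inf_le_right.trans (el_Vo N).cent) (inf_le_left.trans (cent_symm (QV M)))))
  obtain ⟨a, ha, a1⟩ := h.l.exA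
  obtain ⟨v, hv, rfl⟩ := h.l.br_sur (h.l.AT ha) a1 hu
  rw [← mul_assoc, ← mul_assoc]
  nth_rw 2 [← (el_Vo M).inv hv]
  exact (Vo N).mul_mem (conj_mem_of_mem_norm (norm_Vo N (h.symm.rl hv)) ha) (inv_mem ha)

theorem exists_lift (hQ : IsPi {2} Q) {p : ℕ} (hp : Odd p) {y : QT Q} (hy : y ^ p = 1) :
    ∃ x ∈ 𝓝(Q), x ^ p = 1 ∧ mel (qh Q) x = y := by
  obtain ⟨x, rfl⟩ := qh_surjective Q y
  rw [← mel_coe, ← mel_pow _ x.2, qel_eq_one_iff (pow_mem x.2 p)] at hy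
  obtain ⟨k, hk⟩ := (hQ.orderOf hy).exists_pow p2 (orderOf_pos _).ne'
  have e : ((x : G) ^ 2 ^ k) ^ p = 1 := by rw [← pow_mul, mul_comm, pow_mul, ← hk, pow_orderOf_eq_one]
  obtain ⟨m, hm⟩ := exists_pow_eq_self_of_coprime (x := qh Q x) (n := 2 ^ k) (Nat.Coprime.pow_left k
    (Nat.Coprime.coprime_dvd_right (orderOf_dvd_of_pow_eq_one (by
      rw [← mel_coe, ← mel_pow _ x.2, qel_eq_one_iff (pow_mem x.2 p)]; exact hy)) (Nat.coprime_two_left.2 hp)))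
  exact ⟨((x : G) ^ 2 ^ k) ^ m, pow_mem (pow_mem x.2 _) _, by rw [← pow_mul, mul_comm, pow_mul, e, one_pow],
    by rw [mel_pow _ (pow_mem x.2 _), mel_pow _ x.2, mel_coe, hm]⟩

theorem CIT.quo (h : CIT G) (hQ : IsPi {2} Q) : CIT (QT Q) := fun t ht p hp hd => by
  by_contra p1
  obtain ⟨y, hy, e⟩ := exists_orderOf_eq hp hd
  obtain ⟨x, hx, e1, rfl⟩ := exists_lift hQ (hp.odd_of_ne_two p1) (e ▸ pow_orderOf_eq_one y)
  have x1 : x ≠ 1 := fun e' => hp.ne_one (by rw [← e, e', mel_one, orderOf_one])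
  have xo : Od (zpowers x) := isPi_zpowers.2 (((piNat_prime hp).2 p1).of_dvd (orderOf_dvd_of_pow_eq_one e1))
  have := cop_quo_cent1 hx le_rfl (le_norm_self _ hx) ((hQ.inf_right _).nat.coprime (isPi_zpowers.1 xo))
  exact Od.not_mem (((h.odc xo (mem_zpowers x) x1).inf_right 𝓝(Q)).mim (qh Q)) ht
    (this.ge ⟨(quo_normalizer Q).ge (mem_top t), mem_cent1_symm.1 hy⟩)

theorem CIT.quad (h : CIT G) (hM : 𝓝(𝐐(M)) = M) {X : Subgroup (QT 𝐐(M))} (hX : El2 X) {y : QT 𝐐(M)} (hy : y ∈ 𝓝(X))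
    (y3 : y ^ 3 = 1) (y1 : y ≠ 1) (ha : a ∈ mpre (qh 𝐐(M)) X) (a1 : a ∉ 𝐐(M)) :
    Vo M ⊓ 𝓒₁(a) = Vo M ⊓ 𝓒(mpre (qh 𝐐(M)) X) := by
  obtain ⟨x, hx, x3, rfl⟩ := exists_lift (core_pi {2} M) (by decide) y3
  have hA := hX.pi.qpre (core_pi {2} M)
  have a0 := qpre_le_norm X ha
  have h1 := cls2 (mem_normalizer_mpre hx hy) x3 (h.fpf3 hA x3 fun e => y1 (by rw [e, mel_one])) hA
  refine le_antisymm (fun u hu => ⟨hu.1, ?_⟩) (inf_le_inf_left _ (cent_le_cent1 ha))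
  obtain ⟨v, hv, rfl⟩ := (h.bs (el_Vo M) (norm_Vo M) (hM.le a0) a1 (QV M ((qel_eq_one_iff (mul_mem a0 a0)).1
    (by rw [mel_mul _ a0 a0]; exact hX _ (mem_mpre.1 ha).2)))).2 u hu
  have := h1 (commutator_mem_commutator (le_qpre X (Vo_le M hv)) ha)
  rwa [commutatorElement_def, (el_Vo M).inv hv, mul_assoc, mul_assoc, ← mul_assoc a] at this

theorem tiq_aux (n : ℕ) : ∀ (G : Type u) [Group G] [Finite G], Nat.card G < n → CIT G → ∀ M : Subgroup G,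
    𝐐(M) ≠ ⊥ → 𝓝(𝐐(M)) = M → TIq M := by
  induction n with
  | zero => intro G _ _ h; omega
  | succ n ih =>
  intro G _ _ hn h M h0 hM
  have hQ := core_pi {2} M
  have h' := h.quo hQ
  have e0 : M /ᵍ 𝐐(M) = ⊤ := (congrArg (mim (qh 𝐐(M))) hM.symm).trans (quo_normalizer _)
  have e1 : 𝓞({2}, (⊤ : Subgroup (QT 𝐐(M)))) = ⊥ := e0 ▸ core_quo_core {2} M
  rcases h'.ti_or_pair e1 with e | ⟨X, Y, e⟩
  · intro S S' hS hS' hne
    have := e _ _ (e0 ▸ hS.quo hM.ge) (e0 ▸ hS'.quo hM.ge)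
      fun e => hne (quo_inj (hS.le.trans hM.ge) (hS'.le.trans hM.ge) hS.core_le hS'.core_le e)
    exact (quo_eq_bot_iff ((inf_le_left.trans hS.le).trans hM.ge)).1
      (le_bot_iff.1 (((mim_inf_le _ _ _).trans this).trans e1.le))
  have hc : Nat.card (QT 𝐐(M)) < n := by
    have := card_quo_lt_of_le hM.ge (core_le _ _) h0
    rw [e0, card_top] at this
    have := M.card_le_card_group
    omega
  obtain ⟨q, am⟩ := e.am ⟨e.l, h', ih _ hc h' X e.l.ne e.l.nQ⟩ ⟨e.r, h', ih _ hc h' Y e.r.ne e.r.nQ⟩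
  obtain ⟨z, hz, z1⟩ := am.l.exU
  rw [am.U_eq] at hz
  obtain ⟨z, rfl⟩ := qh_surjective _ z
  have z2 : (z : G) ∉ 𝐐(M) := fun e => z1 (by rw [← mel_coe, qel_eq_one_iff z.2]; exact e)
  have k : ∀ X Y : Subgroup (QT 𝐐(M)), Am X Y q → qh _ z ∈ Vo X → Vo M ⊓ 𝓒₁((z : G)) = Vo M ⊓ 𝓒(mpre (qh 𝐐(M)) (Vo X)) :=
    fun X Y am hz => by
      obtain ⟨a, ha, a1⟩ := am.l.exA
      obtain ⟨x, hx, x3, x1, -⟩ := am.l.three ha a1
      exact h.quad hM (el_Vo X) (norm_Vo X hx) x3 x1 (mem_mpre.2 ⟨z.2, by rwa [mel_coe]⟩) z2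
  have k1 := k X Y am hz.1
  have k2 := k Y X am.symm hz.2
  have W0 : Vo M ⊓ 𝓒₁((z : G)) ≠ ⊥ := fun e => by
    have := (h.bs (el_Vo M) (norm_Vo M) (hM.le z.2) z2 (QV M ((qel_eq_one_iff (mul_mem z.2 z.2)).1
      (by rw [mel_mul _ z.2 z.2, mel_coe]; exact el_Vo X _ hz.1)))).1
    rw [e, card_bot, one_pow, card_eq_one] at this
    exact omega_center_ne_bot hQ h0 this
  have k3 : mpre (qh 𝐐(M)) X ≤ 𝓝(𝓒(Vo M ⊓ 𝓒₁((z : G))) ⊓ mpre (qh 𝐐(M)) X) := norm_inf (norm_cent (k1 ▸ norm_inf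
    (((qpre_le_norm X).trans hM.le).trans (norm_Vo M)) (norm_cent (mpre_le_normalizer _ (norm_Vo X))))) (le_norm_self _)
  have k4 := le_core (((h.cent ((el_Vo M).pi.inf_left _) W0).inf_left _).mim (qh 𝐐(M)))
    ((quo_le_iff (inf_le_right.trans (qpre_le_norm X))).2 inf_le_right) ((quo_mpre X).ge.trans (norm_quo _ k3))
  exact (e.nc (cent_symm (((quo_mpre (Vo Y)).ge.trans (quo_mono _ (le_inf (cent_symm (k2.le.trans inf_le_right))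
    (mpre_mono _ e.rl)))).trans (k4.trans (QV X))))).elim

theorem CIT.vt (h : CIT G) (hM : Vx M) : Vt M := ⟨hM, h, tiq_aux _ G (Nat.lt_succ_self _) h M hM.ne hM.nQ⟩

theorem CIT.tiq (h : CIT G) (h0 : 𝐐(M) ≠ ⊥) : TIq M := by
  obtain ⟨X, h2, h3, h4⟩ := exists_maximal_ge (P := fun M : Subgroup G => 𝓞({2}, M) ≠ ⊥) h0
  have h5 := tiq_aux _ G (Nat.lt_succ_self _) h X h3 (h4 _ (core_norm_ne (core_pi _ _) h3) (le_norm_core _ _))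
  intro S S' hS hS' hne
  obtain ⟨R, hR, e⟩ := syl_superset p2 hS.pi (hS.le.trans h2)
  obtain ⟨R', hR', e'⟩ := syl_superset p2 hS'.pi (hS'.le.trans h2)
  exact (le_inf ((inf_le_inf e e').trans (h5 R R' hR hR' fun e1 => hne (by
    rw [← hS.inf_eq hR.pi e, ← hS'.inf_eq hR'.pi e', e1]))) (inf_le_left.trans hS.le)).trans (core_inf_le h2)

theorem CIT.ti_or_am (h : CIT G) (h0 : 𝓞({2}, (⊤ : Subgroup G)) = ⊥) :
    TIq (⊤ : Subgroup G) ∨ ∃ (M N : Subgroup G) (q : ℕ), Am M N q :=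
  (h.ti_or_pair h0).imp_right fun ⟨M, N, e⟩ => ⟨M, N, e.am (h.vt e.l) (h.vt e.r)⟩

end CA.Cit
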