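import Cfsg.Agent.Lib.Walt.Ab2
import Cfsg.Agent.Lib.Grp.H8PG
import Cfsg.Agent.Lib.Cit.D1
import Cfsg.Prelude.Def_KGroupFacts

/-! Groups whose prime graph is split by a set `π` of primes containing `2`: minimal normal subgroups. -/

set_option autoImplicit false
set_option linter.unusedSectionVars false

namespace CA.Spl

open Subgroup Cfsg CA.BG CA.GW CA.Cit

variable {G : Type*} [Group G] [Finite G] {π : Set ℕ} {N S K : Subgroup G} {x y z : G}

/-- no edge of the prime graph leaves `π` -/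
def Sep (π : Set ℕ) (G : Type*) [Group G] : Prop :=
  ∀ (g : G) (r s : ℕ), r.Prime → s.Prime → r ∣ orderOf g → s ∣ orderOf g → r ∈ π → s ∈ π

theorem Sep.compl (h : Sep π G) : Sep πᶜ G := fun g r s hr hs h1 h2 h3 h4 => h3 (h g s r hs hr h2 h1 h4)

theorem Sep.surj {H : Type*} [Group H] (h : Sep π G) (f : G →* H) (hf : Function.Surjective f) : Sep π H := by
  intro g r s hr hs h1 h2
  obtain ⟨g, rfl⟩ := hf g
  exact h g r s hr hs (h1.trans (orderOf_map_dvd f g)) (h2.trans (orderOf_map_dvd f g))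

theorem Sep.inj {H : Type*} [Group H] (h : Sep π G) (f : H →* G) (hf : Function.Injective f) : Sep π H :=
  fun g r s hr hs h1 h2 => h (f g) r s hr hs (by rwa [orderOf_injective f hf]) (by rwa [orderOf_injective f hf])

theorem Sep.sub (h : Sep π G) (K : Subgroup G) : Sep π K := h.inj K.subtype K.subtype_injective

theorem Sep.quo (h : Sep π G) (K : Subgroup G) [K.Normal] : Sep π (G ⧸ K) :=
  h.surj (QuotientGroup.mk' K) (QuotientGroup.mk'_surjective K)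

theorem exists_ord_dvd (x : G) {n : ℕ} (h : n ∣ orderOf x) : ∃ k : ℕ, orderOf (x ^ k) = n :=
  ⟨_, orderOf_pow_orderOf_div (orderOf_pos x).ne' h⟩

theorem sep_of (h : ∀ r s : ℕ, r.Prime → s.Prime → r ∈ π → s ∉ π → ∀ g : G, orderOf g ≠ r * s) : Sep π G := by
  intro g r s hr hs h1 h2 h3
  by_contra h4
  obtain ⟨k, e⟩ := exists_ord_dvd g (((Nat.coprime_primes hr hs).2 fun e => h4 (e ▸ h3)).mul_dvd_of_dvd_of_dvd h1 h2)
  exact h r s hr hs h3 h4 _ e

theorem Sep.cent1 (h : Sep π G) (hx : PiNat π (orderOf x)) (h1 : x ≠ 1) : IsPi π 𝓒₁(x) := fun s hs hd => by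
  obtain ⟨y, hy, e⟩ := exists_orderOf_eq hs hd
  obtain ⟨r, hr, hd⟩ := H8PG.exists_prime_order h1
  by_cases e' : r = s
  · exact e' ▸ hx r hr hd
  obtain ⟨g, hg⟩ := H8PG.exists_order_mul (mem_cent1.1 hy).symm hr hs e' hd e.symm.dvd
  exact h g r s hr hs (hg ▸ dvd_mul_right _ _) (hg ▸ dvd_mul_left _ _) (hx r hr hd)

theorem Sep.cent (h : Sep π G) (hN : IsPi π N) (h0 : N ≠ ⊥) : IsPi π 𝓒(N) :=
  let ⟨_, hx, h1⟩ := exists_ne_one h0
  (h.cent1 (hN.orderOf hx) h1).of_le (cent_le_cent1 hx)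

theorem Sep.cent_inv (h : Sep π G) (h2 : 2 ∈ π) (hz : orderOf z = 2) : IsPi π 𝓒₁(z) :=
  h.cent1 (hz ▸ (piNat_prime Nat.prime_two).2 h2) (ne_one_of_ord hz)

theorem cit_iff : CIT G ↔ Sep {2} G := by
  refine ⟨fun h g r s hr hs h1 h2 h3 => ?_, fun h t ht => h.cent_inv rfl ht⟩
  obtain rfl : r = 2 := h3
  obtain ⟨k, e⟩ := exists_ord_dvd g h1
  exact (h _ e).orderOf (mem_cent1.2 (Commute.self_pow g k).eq) s hs h2

/-- a normal `π'`-subgroup makes `G` the product of an abelian normal subgroup and an involution centralizer -/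
theorem Sep.frob (h : Sep π G) (h2 : 2 ∈ π) (hN : IsPi πᶜ N) (h0 : N ≠ ⊥) (hn : ⊤ ≤ 𝓝(N)) (hz : orderOf z = 2) :
    IsMulCommutative 𝓒(N) ∧ IsPi πᶜ 𝓒(N) ∧ 𝓒(N) ⊔ 𝓒₁(z) = ⊤ := by
  have hC := h.compl.cent hN h0
  have z2 := sq_of_ord hz
  have i1 : Ivt z N := ivt_of_cent z2 (hn trivial) (hN.inf_eq_bot' (h.cent_inv h2 hz))
  have i2 : Ivt z 𝓒(N) := ivt_of_cent z2 (norm_cent hn trivial) (hC.inf_eq_bot' (h.cent_inv h2 hz))
  refine ⟨i2.comm, hC, top_le_iff.1 fun g _ => ?_⟩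
  have hc := i1.mul_cent (i1.conj (hn (mem_top g)))
  have ho : Odd (orderOf (z * (g * z * g⁻¹))) := (Od.odd (hC.compl (not_not.2 h2))).of_dvd_nat (orderOf_dvd_card_of_mem hc)
  obtain ⟨k, hk⟩ := ho
  set c := z * (g * z * g⁻¹) with e
  have e1 : z * c ^ (k + 1) * z⁻¹ = (c ^ (k + 1))⁻¹ := i2 _ (pow_mem hc _)
  have e2 : c ^ (k + 1) * c ^ (k + 1) = c := by
    rw [← pow_add, show k + 1 + (k + 1) = 2 * k + 1 + 1 by ring, pow_succ, ← hk, pow_orderOf_eq_one, one_mul]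
  have e3 : c ^ (k + 1) * g ∈ 𝓒₁(z) := by
    generalize c ^ (k + 1) = d at e1 e2
    have e4 : g * z * g⁻¹ = z * (d * d) := by rw [e2, e, ← mul_assoc z z, z2, one_mul]
    have e5 : d * z * d = z := by
      have : z * d = d⁻¹ * z := by rw [← e1, inv_mul_cancel_right]
      rw [mul_assoc, this, mul_inv_cancel_left]
    rw [mem_cent1]
    calc d * g * z = d * (g * z * g⁻¹) * g := by group
      _ = d * z * d * (d * g) := by rw [e4]; group
      _ = _ := by rw [e5]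
  have := mul_mem (mem_sup_left (inv_mem (pow_mem hc (k + 1)))) (mem_sup_right e3)
  rwa [inv_mul_cancel_left] at this

theorem cent_bot_of (h : Sep π G) (h2 : 2 ∈ π) (h1 : ¬ IsPi π N) (hs : ¬ Group.IsSolvable N) (hK : K ≤ 𝓒(N)) : K = ⊥ := by
  by_contra h0
  obtain ⟨p, hp, hd⟩ := exists_prime_dvd_card h0
  obtain ⟨y, hy, e⟩ := exists_orderOf_eq hp hd
  have y1 : y ≠ 1 := fun e' => hp.one_lt.ne' (by rw [← e, e', orderOf_one])
  by_cases hπ : p ∈ π
  · exact h1 ((h.cent1 (e ▸ (piNat_prime hp).2 hπ) y1).of_le (le_cent1_iff.2 (hK hy)))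
  · exact hs (Od.solv (((h.compl.cent1 (e ▸ (piNat_prime hp).2 hπ) y1).of_le (le_cent1_iff.2 (hK hy))).compl (not_not.2 h2)))

/-- a non-solvable minimal normal subgroup that is not a `π`-group is simple with trivial centralizer -/
theorem Sep.simple (h : Sep π G) (h2 : 2 ∈ π) (hN : MinNormal N ⊤) (h1 : ¬ IsPi π N) (hs : ¬ Group.IsSolvable N) :
    IsSimpleGroup N ∧ 𝓒(N) = ⊥ := by
  refine ⟨?_, cent_bot_of h h2 h1 hs le_rfl⟩
  obtain ⟨S, hSN, hS⟩ := exists_minNormal (le_norm_self N) hN.1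
  have k : ∀ ρ, IsPi ρ S → IsPi ρ N := fun ρ hρ =>
    hN.2.2 _ (core_le ρ N) (ne_bot_mono (le_core hρ hSN hS.2.1) hS.1) (norm_core ρ hN.2.1) ▸ core_pi ρ N
  have s1 : ¬ Group.IsSolvable S := fun e =>
    let ⟨p, hp, e⟩ := hS.elem e
    hs ((k _ (isPi_of_elem hp e)).isSolvable hp)
  obtain rfl : S = N := by
    refine hN.2.2 S hSN hS.1 fun g _ => mem_norm_iff_cj.2 ?_
    have c1 : cj g S ≤ N := cj_of_mem_norm (hN.2.1 (mem_top g)) ▸ cj_mono g hSN
    have c2 : N ≤ 𝓝(cj g S) := cj_of_mem_norm (hN.2.1 (mem_top g)) ▸ norm_cj g hS.2.1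
    by_cases e : cj g S ⊓ S = ⊥
    · exact (hS.1 (cj_eq_bot.1 (cent_bot_of h h2 (fun e => h1 (k _ e)) s1
        (cent_of_norm_disjoint (c1.trans hS.2.1) (hSN.trans c2) e)))).elim
    · exact (eq_of_le_of_card_eq (inf_eq_right.1 (hS.2.2 _ inf_le_right e (norm_inf c2 hS.2.1))) (card_cj g S).symm).symm
  exact Wa.simple_of_min hS

/-- `S` is the simple socle of `G` -/
structure Soc (S : Subgroup G) : Prop where
  nrm : S.Normal
  simple : IsSimpleGroup S
  nc : ¬ IsMulCommutative S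
  cent : 𝓒(S) = ⊥

theorem Soc.le (h : Soc S) (hN : N.Normal) (h0 : N ≠ ⊥) : S ≤ N := by
  have := h.nrm
  have := h.simple
  rcases Wa.min_of_simple (inf_le_right : N ⊓ S ≤ S) (norm_inf le_normalizer_of_normal le_normalizer_of_normal) with e | e
  · exact (h0 (BG.eq_bot_mono (cent_of_norm_disjoint le_normalizer_of_normal le_normalizer_of_normal e) h.cent)).elim
  · exact inf_eq_right.1 e

theorem sup_cent1_of (hS : S.Normal) (hx : x ∈ S) (h : ∀ a b : S, orderOf a = orderOf x → orderOf b = orderOf x → IsConj a b) :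
    S ⊔ 𝓒₁(x) = ⊤ := top_le_iff.1 fun g _ => by
  obtain ⟨c, hc⟩ := isConj_iff.1 (h ⟨_, hS.conj_mem x hx g⟩ ⟨x, hx⟩
    (by rw [← orderOf_coe]; exact PSL2Struct.orderOf_conj g x) (by rw [← orderOf_coe]))
  have e : (c : G) * (g * x * g⁻¹) * (c : G)⁻¹ = x := congrArg Subtype.val hc
  have e3 : c * g ∈ 𝓒₁(x) := mem_cent1.2 (mul_inv_eq_iff_eq_mul.1 (Eq.trans (by group) e))
  have := mul_mem (mem_sup_left (inv_mem c.2)) (mem_sup_right e3)
  rwa [inv_mul_cancel_left] at this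

theorem idx_pi (hS : S.Normal) (h : S ⊔ K = ⊤) (hK : IsPi π K) : PiNat π S.index := by
  rw [← relIndex_top_right, ← h, sup_comm, relIndex_sup_norm le_normalizer_of_normal]
  exact hK.relIndex S

theorem Soc.idx_dvd (h : Soc S) : S.index ∣ Nat.card (Cfsg.Out S) := by
  have := h.nrm
  let f : G →* Cfsg.Out S := (QuotientGroup.mk' _).comp MulAut.conjNormal
  have e : f.ker = S := by
    ext g
    rw [MonoidHom.mem_ker, MonoidHom.comp_apply, QuotientGroup.mk'_apply, QuotientGroup.eq_one_iff]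
    refine ⟨fun ⟨s, hs⟩ => ?_, fun hg => ⟨⟨g, hg⟩, by ext x; simp⟩⟩
    have : (s : G)⁻¹ * g ∈ 𝓒(S) := mem_cent.2 fun k hk => by
      have e : (s : G) * k * (s : G)⁻¹ = g * k * g⁻¹ := by simpa using congrArg (fun φ : MulAut S => (φ ⟨k, hk⟩ : G)) hs
      calc k * ((s : G)⁻¹ * g) = (s : G)⁻¹ * (s * k * (s : G)⁻¹) * g := by group
        _ = _ := by rw [e]; group
    rw [h.cent, mem_bot, inv_mul_eq_one] at this
    exact this ▸ s.2
  rw [← e, index_ker, e]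
  exact card_subgroup_dvd_card _

theorem quo_core (G : Type*) [Group G] [Finite G] : 𝓞({2}, (⊤ : Subgroup (G ⧸ pCore 2 G))) = ⊥ := by
  have : Fact (Nat.Prime 2) := ⟨Nat.prime_two⟩
  rw [core_p_eq Nat.prime_two, Core.map_pCore_top, Core.pCore_quotient_pCore]

theorem exists_soc (h : Sep {2} G) (h0 : 𝓞({2}, (⊤ : Subgroup G)) = ⊥) (hs : ¬ Group.IsSolvable G) :
    ∃ S : Subgroup G, Soc S := by
  have hs' : ¬ Group.IsSolvable (⊤ : Subgroup G) := fun e => hs (Core.isSolvable_of_equiv topEquiv e)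
  obtain ⟨N, -, hN⟩ := exists_minNormal (norm_top.ge : (⊤ : Subgroup G) ≤ _) fun e => hs' (e ▸ solv_of_comm comm_bot)
  have h1 : ¬ IsPi {2} N := fun e => hN.1 (BG.eq_bot_mono (le_core e le_top hN.2.1) h0)
  have h2 : ¬ Group.IsSolvable N := fun e => by
    obtain ⟨p, hp, e⟩ := hN.elem e
    have e := isPi_of_elem hp e
    obtain ⟨z, -, hz⟩ := exists_inv fun o => hs' (Od.solv o)
    obtain ⟨c1, -, c2⟩ := h.frob rfl (e.ne fun e' => h1 (e' ▸ e)) hN.1 hN.2.1 hz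
    refine hs' (c2 ▸ sup_comm 𝓒₁(z) _ ▸ solv_sup ((h.cent_inv rfl hz).isSolvable Nat.prime_two) (solv_of_comm c1) ?_)
    exact le_top.trans (norm_cent hN.2.1)
  obtain ⟨k1, k2⟩ := h.simple rfl hN h1 h2
  exact ⟨N, normalizer_eq_top_iff.1 (top_le_iff.1 hN.2.1), k1, fun e => h2 (solv_of_comm e), k2⟩

theorem ns_quo (hs : ¬ Group.IsSolvable G) : ¬ Group.IsSolvable (G ⧸ pCore 2 G) := fun e => by
  have : Fact (Nat.Prime 2) := ⟨Nat.prime_two⟩
  have := Core.isSolvable_of_isPGroup (Core.isPGroup_pCore (p := 2) (G := G))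
  exact hs (solvable_of_ker_le_range (pCore 2 G).subtype (QuotientGroup.mk' (pCore 2 G)) (by simp))

/-- the structure of a non-solvable group in which `2` is isolated in the prime graph -/
theorem exists_soc_quo (h : Sep {2} G) (hs : ¬ Group.IsSolvable G) : ∃ S : Subgroup (G ⧸ pCore 2 G), Soc S :=
  exists_soc (h.quo _) (quo_core G) (ns_quo hs)

theorem Soc.exists_inv (h : Soc S) : ∃ t ∈ S, orderOf t = 2 :=
  have := h.simple
  GW.exists_inv fun o => h.nc (IsSimpleGroup.comm_iff_isSolvable.2 (Od.solv o) |> fun e => ⟨⟨e⟩⟩)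

theorem Soc.idx2 (h : Soc S) (hG : Sep π G) (h2 : 2 ∈ π) (c : ∀ a b : S, orderOf a = 2 → orderOf b = 2 → IsConj a b) :
    PiNat π S.index :=
  let ⟨_, ht, e⟩ := h.exists_inv
  idx_pi h.nrm (sup_cent1_of h.nrm ht (e ▸ c)) (hG.cent_inv h2 e)

theorem Soc.top (h : Soc S) (hG : Sep π G) (h2 : 2 ∈ π) (c : ∀ a b : S, orderOf a = 2 → orderOf b = 2 → IsConj a b)
    {r : ℕ} (hr : r.Prime) (h1 : r ∉ π) (hd : r ∣ ♯S) (c' : ∀ a b : S, orderOf a = r → orderOf b = r → IsConj a b) : S = ⊤ := by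
  obtain ⟨x, hx, e⟩ := exists_orderOf_eq hr hd
  exact index_eq_one.1 ((h.idx2 hG h2 c).eq_one (idx_pi h.nrm (sup_cent1_of h.nrm hx (e ▸ c'))
    (hG.compl.cent1 (e ▸ (piNat_prime hr).2 h1) fun e' => hr.one_lt.ne' (by rw [← e, e', orderOf_one]))))

theorem conj_congr {H : Type*} [Group H] (e : G ≃* H) {r : ℕ} (c : ∀ a b : H, orderOf a = r → orderOf b = r → IsConj a b)
    (a b : G) (ha : orderOf a = r) (hb : orderOf b = r) : IsConj a b := by
  simpa using e.symm.toMonoidHom.map_isConj (c (e a) (e b) (by rwa [MulEquiv.orderOf_eq]) (by rwa [MulEquiv.orderOf_eq]))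

end CA.Spl
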